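import Cfsg.Agent.Lib.SSFT.Hub
import Cfsg.Agent.Lib.Solvable.Hall
import Cfsg.Agent.S1281

/-!
# The solvable signalizer functor theorem

`solvable_signalizer`: for an elementary abelian `A` of order at least `p³` some member of the family of a solvable
signalizer functor contains every `θ a`.
-/

set_option linter.unusedSectionVars false
set_option linter.style.haveILetI false
set_option autoImplicit false

namespace Cfsg.Agent.SSFT

open Cfsg
open Subgroup (normalizer centralizer zpowers mem_normalizer_iff)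
open scoped Pointwise commutatorElement

universe w
variable {G : Type w} [Group G] [Finite G] {p : ℕ} [hpF : Fact p.Prime]

/-- The sum of the orders of the `θ a`. -/
noncomputable def weight (A : Subgroup G) (θ : G → Subgroup G) : ℕ :=
  letI := Fintype.ofFinite A
  letI := Classical.decEq A
  ∑ a : A, if a = 1 then 0 else Nat.card (θ (a : G))

theorem weight_lt {A : Subgroup G} {η θ : G → Subgroup G} (hle : ∀ a ∈ A, a ≠ 1 → η a ≤ θ a)
    (hne : ∃ a ∈ A, a ≠ 1 ∧ η a ≠ θ a) : weight A η < weight A θ := by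
  letI := Fintype.ofFinite A
  letI := Classical.decEq A
  unfold weight
  refine Finset.sum_lt_sum (fun a _ => ?_) ?_
  · split
    · exact le_rfl
    · rename_i h
      exact Subgroup.card_le_of_le (hle a a.2 fun e => h (Subtype.ext e))
  · obtain ⟨a, ha, ha1, hne⟩ := hne
    refine ⟨⟨a, ha⟩, Finset.mem_univ _, ?_⟩
    rw [if_neg fun e => ha1 (congrArg Subtype.val e), if_neg fun e => ha1 (congrArg Subtype.val e)]
    exact lt_of_le_of_ne (Subgroup.card_le_of_le (hle a ha ha1))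
      fun e => hne (Subgroup.eq_of_le_of_card_ge (hle a ha ha1) e.ge)

namespace Setting

variable {A : Subgroup G} {θ : G → Subgroup G} (S : Setting p A θ)
include S

/-- Passing to `N(Y)/Y`. -/
theorem complete_of_normalized
    (ih : ∀ (H : Type w) [Group H] [Finite H], Nat.card H < Nat.card G → ∀ (B : Subgroup H) (η : H → Subgroup H),
      Setting p B η → Complete p B η)
    {Y : Subgroup G} (hY : Y ∈ signalizerFamily p A θ) (hY1 : Y ≠ ⊥)
    (hall : ∀ a ∈ A, a ≠ 1 → θ a ≤ normalizer (Y : Set G)) : Complete p A θ := by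
  classical
  set T := normalizer (Y : Set G) with hT
  have hAT : A ≤ T := S.inv hY
  have hYT : Y ≤ T := Subgroup.le_normalizer
  set Y' := Y.subgroupOf T with hY'
  haveI hYn : Y'.Normal := (Subgroup.normal_subgroupOf_iff_le_normalizer hYT).2 le_rfl
  set f := QuotientGroup.mk' Y' with hf
  have hY'card : Nat.card Y' = Nat.card Y := Coprime.card_subgroupOf hYT
  have hlt : Nat.card (↥T ⧸ Y') < Nat.card G := by
    have h1 := Solvable.card_quotient_mul_card Y'
    have h2 : 1 < Nat.card Y' := by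
      rw [hY'card]; exact Finite.one_lt_card_iff_nontrivial.2 ((Subgroup.nontrivial_iff_ne_bot _).2 hY1)
    have h3 := Subgroup.card_le_card_group T
    have h4 : 0 < Nat.card (↥T ⧸ Y') := Nat.card_pos
    nlinarith
  set A₁ := A.subgroupOf T with hA₁
  set A' := A₁.map f with hA'
  have hinj : ∀ a b : ↥T, a ∈ A₁ → b ∈ A₁ → f a = f b → a = b := by
    intro a b ha hb h
    have h1 : a⁻¹ * b ∈ Y' := QuotientGroup.eq.1 h
    have h2 : ((a⁻¹ * b : ↥T) : G) ∈ A ⊓ Y := ⟨A.mul_mem (A.inv_mem ha) hb, h1⟩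
    rw [Subgroup.inf_eq_bot_of_coprime (S.coprime hY.2.1), Subgroup.mem_bot] at h2
    exact inv_mul_eq_one.1 (Subtype.ext h2)
  let η : ↥T ⧸ Y' → Subgroup (↥T ⧸ Y') := fun x =>
    if h : ∃ a : ↥T, a ∈ A₁ ∧ f a = x then ((θ (h.choose : G)).subgroupOf T).map f else ⊥
  have hη : ∀ a : ↥T, a ∈ A₁ → η (f a) = ((θ (a : G)).subgroupOf T).map f := by
    intro a ha
    have h : ∃ b : ↥T, b ∈ A₁ ∧ f b = f a := ⟨a, ha, rfl⟩
    simp only [η, dif_pos h]
    rw [hinj h.choose a h.choose_spec.1 ha h.choose_spec.2]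
  have hne : ∀ a : ↥T, f a ≠ 1 → (a : G) ≠ 1 := fun a h e => h (by
    rw [show a = 1 from Subtype.ext e, map_one])
  have hne' : ∀ a : ↥T, a ∈ A₁ → (a : G) ≠ 1 → f a ≠ 1 := fun a ha h e => h (by
    rw [hinj a 1 ha A₁.one_mem (e.trans (map_one f).symm)]; rfl)
  have hA₁e : IsElementaryAbelian p A₁ :=
    ⟨⟨⟨fun x y => Subtype.ext (Subtype.ext (S.comm x.2 y.2))⟩⟩, fun a ha => Subtype.ext (by simpa using S.pow_eq ha)⟩
  have hθT : IsSolvableSignalizerFunctor p A₁ (fun a : ↥T => (θ (a : G)).subgroupOf T) := by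
    have h1 : ∀ a : ↥T, a ≠ 1 → (a : G) ≠ 1 := fun a h e => h (Subtype.ext e)
    refine ⟨⟨fun a ha ha1 x hx => Subgroup.mem_centralizer_singleton_iff.2 (Subtype.ext
        (Subgroup.mem_centralizer_singleton_iff.1 (S.theta_le_centralizer ha (h1 a ha1) hx))),
      fun a ha ha1 hd => (S.theta_mem ha (h1 a ha1)).2.1 (hd.trans (dvd_of_eq (Coprime.card_subgroupOf (hall _ ha (h1 a ha1))))),
      fun a ha ha1 b hb x hx => S.hθ.1.2.2.1 a ha (h1 a ha1) b hb x hx,
      fun a ha ha1 b hb hb1 x hx => ?_⟩, fun a ha ha1 =>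
        Coprime.isSolvable_subgroupOf (hall _ ha (h1 a ha1)) (S.theta_mem ha (h1 a ha1)).1⟩
    exact S.balance ha (h1 a ha1) hb (h1 b hb1) ⟨hx.1, Subgroup.mem_centralizer_singleton_iff.2
      (congrArg Subtype.val (Subgroup.mem_centralizer_singleton_iff.1 hx.2))⟩
  have hA'card : Nat.card A' = p ^ 3 := by
    have hb : Function.Bijective (f.subgroupMap A₁) := ⟨fun x y h => Subtype.ext
      (hinj x y x.2 y.2 (congrArg Subtype.val h)), f.subgroupMap_surjective A₁⟩
    rw [hA', ← Nat.card_eq_of_bijective _ hb, Coprime.card_subgroupOf hAT, S.card]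
  have S' : Setting p A' η := by
    refine ⟨⟨⟨⟨?_⟩⟩, ?_⟩, hA'card, ⟨?_, ?_, ?_, ?_⟩, ?_⟩
    · rintro ⟨_, x, hx, rfl⟩ ⟨_, y, hy, rfl⟩
      refine Subtype.ext ?_
      show f x * f y = f y * f x
      rw [← map_mul, ← map_mul]
      exact congrArg f (Subtype.ext (S.comm hx hy))
    · rintro _ ⟨x, hx, rfl⟩
      rw [← map_pow, show x ^ p = 1 from Subtype.ext (by simpa using S.pow_eq hx), map_one]
    · rintro _ ⟨a, ha, rfl⟩ h1
      rw [hη a ha]
      rintro _ ⟨x, hx, rfl⟩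
      refine Subgroup.mem_centralizer_singleton_iff.2 ?_
      rw [← map_mul, ← map_mul]
      exact congrArg f (Subtype.ext
        (Subgroup.mem_centralizer_singleton_iff.1 (S.theta_le_centralizer ha (hne a h1) hx)))
    · rintro _ ⟨a, ha, rfl⟩ h1 hd
      rw [hη a ha] at hd
      exact hθT.1.2.1 a ha (fun e => h1 (by rw [e, map_one])) (hd.trans (Subgroup.card_map_dvd _ f))
    · rintro _ ⟨a, ha, rfl⟩ h1 _ ⟨b, hb, rfl⟩ x hx
      rw [hη a ha] at hx ⊢
      obtain ⟨y, hy, rfl⟩ := hx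
      exact ⟨b * y * b⁻¹, hθT.1.2.2.1 a ha (fun e => h1 (by rw [e, map_one])) b hb y hy, by simp⟩
    · rintro _ ⟨a, ha, rfl⟩ h1 _ ⟨b, hb, rfl⟩ h2
      rw [hη a ha, hη b hb]
      exact S1281.result p A₁ hA₁e (by
        rw [Coprime.card_subgroupOf hAT, S.card]; exact Nat.pow_le_pow_right hpF.out.pos (by norm_num))
        _ hθT Y' (by rw [hY'card]; exact hY.2.1) a b ha (fun e => h1 (by rw [e, map_one])) hb
        (fun e => h2 (by rw [e, map_one]))
    · rintro _ ⟨a, ha, rfl⟩ h1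
      rw [hη a ha]
      exact Coprime.isSolvable_map f _ (hθT.2 a ha fun e => h1 (by rw [e, map_one]))
  obtain ⟨W', hW', hW'θ⟩ := ih _ hlt A' η S'
  set W₁ := W'.comap f with hW₁
  have hcard : Nat.card W₁ = Nat.card Y' * Nat.card W' := Solvable.card_comap_quotient Y' W'
  refine ⟨W₁.map T.subtype, ⟨?_, ?_, ?_, ?_⟩, fun a ha ha1 x hx => ?_⟩
  · refine Coprime.isSolvable_map T.subtype W₁ ?_
    haveI := Coprime.isSolvable_subgroupOf hYT hY.1
    haveI := hW'.1
    have hle : Y' ≤ W₁ := QuotientGroup.le_comap_mk' Y' W'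
    haveI : Group.IsSolvable (Y'.subgroupOf W₁) := Coprime.isSolvable_subgroupOf hle inferInstance
    refine Group.isSolvable_of_ker_le_range (Y'.subgroupOf W₁).subtype
      ((f.comp W₁.subtype).codRestrict W' fun x => x.2) (fun x hx => ?_)
    rw [Subgroup.range_subtype]
    exact (QuotientGroup.eq_one_iff (x : ↥T)).1 (congrArg Subtype.val hx)
  · rw [Subgroup.card_map_of_injective T.subtype_injective, hcard, hY'card]
    exact fun h => (hpF.out.dvd_mul.1 h).elim hY.2.1 hW'.2.1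
  · rintro b hb _ ⟨x, hx, rfl⟩
    refine ⟨⟨b, hAT hb⟩ * x * ⟨b, hAT hb⟩⁻¹, ?_, rfl⟩
    show f _ ∈ W'
    rw [map_mul, map_mul, map_inv]
    exact hW'.2.2.1 _ ⟨⟨b, hAT hb⟩, hb, rfl⟩ _ hx
  · intro a ha ha1 z hz
    obtain ⟨⟨x, hx, rfl⟩, hz2⟩ := hz
    set a' : ↥T := ⟨a, hAT ha⟩
    have hfx : f x ∈ W' ⊓ centralizer {f a'} := by
      refine ⟨hx, Subgroup.mem_centralizer_singleton_iff.2 ?_⟩
      rw [← map_mul, ← map_mul]
      exact congrArg f (Subtype.ext (Subgroup.mem_centralizer_singleton_iff.1 hz2))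
    have h1 := hW'.2.2.2 (f a') ⟨a', ha, rfl⟩ (hne' a' ha ha1) hfx
    rw [hη a' ha] at h1
    obtain ⟨t, ht, e⟩ := h1
    have hy : t⁻¹ * x ∈ Y' := QuotientGroup.eq.1 e
    have hyc : ((t⁻¹ * x : ↥T) : G) ∈ centralizer ({a} : Set G) :=
      Subgroup.mul_mem _ (Subgroup.inv_mem _ (S.theta_le_centralizer ha ha1 ht)) hz2
    have := (θ a).mul_mem (ht : ((t : ↥T) : G) ∈ θ a) (hY.2.2.2 a ha ha1 ⟨hy, hyc⟩)
    simpa using this
  · refine ⟨⟨x, hall a ha ha1 hx⟩, ?_, rfl⟩
    show f _ ∈ W'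
    refine hW'θ (f ⟨a, hAT ha⟩) ⟨⟨a, hAT ha⟩, ha, rfl⟩ (hne' ⟨a, hAT ha⟩ ha ha1) ?_
    rw [hη ⟨a, hAT ha⟩ ha]
    exact Subgroup.mem_map_of_mem f hx

end Setting

/-- The theorem for `|A| = p³`. -/
theorem complete_aux : ∀ (n : ℕ) (G : Type w) [Group G] [Finite G], Nat.card G = n →
    ∀ (A : Subgroup G) (θ : G → Subgroup G), Setting p A θ → Complete p A θ := by
  intro n
  induction n using Nat.strong_induction_on with
  | _ n ih =>
    intro G _ _ hn A θ S
    induction hw : weight A θ using Nat.strong_induction_on generalizing θ with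
    | _ m ihw =>
      by_contra hnc
      refine CE.false (G := G) (p := p) (A := A) (θ := θ) ⟨S, hnc, fun η hη hle hne => ?_, fun Y hY hY1 => ?_⟩
      · exact ihw _ (hw ▸ weight_lt hle hne) η ⟨S.hA, S.card, hη⟩ rfl
      · by_contra hall
        push Not at hall
        exact hnc (S.complete_of_normalized
          (fun H _ _ hH B η SB => ih _ (hn ▸ hH) H rfl B η SB) hY hY1 hall)

/-- **The solvable signalizer functor theorem.** -/
theorem solvable_signalizer {A : Subgroup G} (hA : IsElementaryAbelian p A) (hA3 : p ^ 3 ≤ Nat.card A)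
    {θ : G → Subgroup G} (hθ : IsSolvableSignalizerFunctor p A θ) :
    ∃ W ∈ signalizerFamily p A θ, ∀ a ∈ A, a ≠ 1 → θ a ≤ W := by
  have hAG : IsPGroup p A := fun a => ⟨1, Subtype.ext (by simpa using hA.2 a a.2)⟩
  obtain ⟨m, hm⟩ := hAG.exists_card_eq
  obtain ⟨E, hE⟩ := Sylow.exists_subgroup_card_pow_prime p (G := A) (n := 3)
    (hm ▸ pow_dvd_pow p ((Nat.pow_le_pow_iff_right hpF.out.one_lt).mp (hm ▸ hA3)))
  set A₀ := E.map A.subtype with hA₀
  have hle : A₀ ≤ A := Subgroup.map_subtype_le _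
  have hcomm : ∀ {a b : G}, a ∈ A → b ∈ A → a * b = b * a := fun {a b} ha hb =>
    congrArg Subtype.val (hA.1.is_comm.comm (⟨a, ha⟩ : A) ⟨b, hb⟩)
  have S : Setting p A₀ θ :=
    ⟨⟨⟨⟨fun x y => Subtype.ext (hcomm (hle x.2) (hle y.2))⟩⟩, fun a ha => hA.2 a (hle ha)⟩,
      by rw [hA₀, Subgroup.card_map_of_injective A.subtype_injective, hE],
      ⟨fun a ha => hθ.1.1 a (hle ha), fun a ha => hθ.1.2.1 a (hle ha),
        fun a ha ha1 b hb => hθ.1.2.2.1 a (hle ha) ha1 b (hle hb),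
        fun a ha ha1 b hb => hθ.1.2.2.2 a (hle ha) ha1 b (hle hb)⟩,
      fun a ha => hθ.2 a (hle ha)⟩
  obtain ⟨W, hW, hWθ⟩ := complete_aux (p := p) _ G rfl A₀ θ S
  obtain ⟨L, hL, -⟩ := S.exists_line_mem A₀.one_mem
  haveI := hA.1
  have hinv : ∀ b ∈ A, ∀ u ∈ W, b * u * b⁻¹ ∈ W := by
    intro b hb u hu
    refine (S.le_of_points hL (hL.1.trans (Signalizer.le_normalizer_of_family hW)) hW.2.1
      (T := W.comap (MulAut.conj b).toMonoidHom) fun c hc hc1 x hx => ?_) hu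
    exact hWθ c (hL.1 hc) hc1 (hθ.1.2.2.1 c (hle (hL.1 hc)) hc1 b hb x (hW.2.2.2 c (hL.1 hc) hc1 hx))
  refine ⟨W, ⟨hW.1, hW.2.1, hinv, fun b hb hb1 => ?_⟩, fun b hb hb1 => ?_⟩
  · have hAW : A ≤ normalizer (W : Set G) := Signalizer.le_normalizer_of_conj_mem hinv
    refine S.le_of_points hL ((hL.1.trans hle).trans (Coprime.le_normalizer_inf_centralizer_singleton hAW hb))
      (fun h => hW.2.1 (h.trans (Subgroup.card_dvd_of_le inf_le_left))) fun c hc hc1 x hx => ?_
    exact hθ.1.2.2.2 c (hle (hL.1 hc)) hc1 b hb hb1 ⟨hW.2.2.2 c (hL.1 hc) hc1 ⟨hx.1.1, hx.2⟩, hx.1.2⟩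
  · refine S.le_of_points hL ((hL.1.trans hle).trans (Signalizer.theta_normalized hθ hb hb1))
      (hθ.1.2.1 b hb hb1) fun c hc hc1 => ?_
    exact (hθ.1.2.2.2 b hb hb1 c (hle (hL.1 hc)) hc1).trans (hWθ c (hL.1 hc) hc1)

/-- A `p'`-group with solvable centralizers under a rank three action is solvable. -/
theorem solvable_of_centralizers {A K : Subgroup G} (hA : IsElementaryAbelian p A) (hA3 : p ^ 3 ≤ Nat.card A)
    (hK : (Nat.card K).Coprime p) (hAK : A ≤ normalizer (K : Set G))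
    (hC : ∀ a ∈ A, a ≠ 1 → Group.IsSolvable (K ⊓ centralizer ({a} : Set G) : Subgroup G)) :
    Group.IsSolvable K := by
  haveI := hA.1
  have hKp : ¬ p ∣ Nat.card K := hpF.out.coprime_iff_not_dvd.1 hK.symm
  have hθ : IsSolvableSignalizerFunctor p A (fun a => K ⊓ centralizer {a}) :=
    ⟨⟨fun a _ _ => inf_le_right, fun a _ _ hd => hKp (hd.trans (Subgroup.card_dvd_of_le inf_le_left)),
      fun a ha _ b hb x hx =>
        (mem_normalizer_iff.1 (Coprime.le_normalizer_inf_centralizer_singleton hAK ha hb) x).1 hx,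
      fun a _ _ b _ _ x hx => ⟨hx.1.1, hx.2⟩⟩, hC⟩
  obtain ⟨W, hW, hWθ⟩ := solvable_signalizer hA hA3 hθ
  refine Coprime.isSolvable_of_le ?_ hW.1
  have hnc : ¬ IsCyclic A := by
    intro h
    obtain ⟨g, hg⟩ := h.exists_ofOrder_eq_natCard
    have h1 : orderOf g ∣ p := orderOf_dvd_of_pow_eq_one (Subtype.ext (by simpa using hA.2 g g.2))
    rw [hg] at h1
    have h2 := (hA3.trans (Nat.le_of_dvd hpF.out.pos h1))
    have := hpF.out.two_le
    nlinarith [pow_succ p 2, sq p]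
  have := Coprime.eq_of_forall_centralizer_le hnc hAK (Signalizer.coprime_A hA hKp) (inf_le_left : K ⊓ W ≤ K)
    fun a ha ha1 => le_inf inf_le_left (hWθ a ha ha1)
  exact this.ge.trans inf_le_right

end Cfsg.Agent.SSFT
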