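import Cfsg.Agent.S0217
import Cfsg.Agent.Lib.Signalizer.Equivariant

/-! The solvable signalizer functor theorem in the form used as a hypothesis by its consumers. -/

set_option autoImplicit false

namespace Cfsg.Agent.SSFT

open Cfsg

theorem hasSFT {p : ℕ} [Fact p.Prime] (G : Type*) [Group G] [Finite G] : Signalizer.HasSFT p G :=
  fun A h1 h2 h3 θ h4 h5 h6 h7 h8 => S0217.result A h1 h2 h3 θ h4 h5 h6 h7 h8

end Cfsg.Agent.SSFT
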