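import Cfsg.Agent.Lib.Signalizer.Family
import Cfsg.Agent.Lib.Coprime.Generation
import Cfsg.Agent.Lib.OddOrder.FittingLocal

/-!
# A solvable signalizer functor on an elementary group of order p³

Lines are the subgroups of order `p²`; any two of them meet nontrivially.
-/

set_option linter.unusedSectionVars false
set_option linter.style.haveILetI false

namespace Cfsg.Agent.SSFT

open Cfsg
open Subgroup (normalizer centralizer zpowers mem_normalizer_iff)
open scoped Pointwise commutatorElement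

universe u
variable {G : Type u} [Group G]

/-- A solvable signalizer functor on an elementary abelian group of order `p³`. -/
structure Setting (p : ℕ) (A : Subgroup G) (θ : G → Subgroup G) : Prop where
  hA : IsElementaryAbelian p A
  card : Nat.card A = p ^ 3
  hθ : IsSolvableSignalizerFunctor p A θ

/-- A subgroup of order `p²` of `A`. -/
def IsLine (p : ℕ) (A L : Subgroup G) : Prop := L ≤ A ∧ Nat.card L = p ^ 2

/-- Conjugation by an element of `X` fixing `Y` pointwise: `[Y, g] ≤ C(X)`. -/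
theorem commutator_le_centralizer_of {X Y : Subgroup G} {c : G} (hY : Y ≤ normalizer (X : Set G))
    (hc : c ∈ centralizer (X : Set G)) : ⁅Y, zpowers c⁆ ≤ centralizer (X : Set G) := by
  refine Subgroup.commutator_le.2 fun y hy g hg => Subgroup.mem_centralizer_iff.2 fun x hx => ?_
  have hg' : g ∈ centralizer (X : Set G) := (Subgroup.zpowers_le.2 hc) hg
  have hg1 : g ∈ centralizer (X : Set G) := hg'
  have hx1 : y⁻¹ * x * y ∈ X := (Subgroup.mem_normalizer_iff''.1 (hY hy) x).1 hx
  have e1 : x * g = g * x := Subgroup.mem_centralizer_iff.1 hg1 x hx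
  have e2 : y⁻¹ * x * y * g = g * (y⁻¹ * x * y) := Subgroup.mem_centralizer_iff.1 hg1 _ hx1
  calc x * ⁅y, g⁆ = y * (y⁻¹ * x * y * g) * y⁻¹ * g⁻¹ := by rw [commutatorElement_def]; group
    _ = y * g * y⁻¹ * (x * g⁻¹) := by rw [e2]; group
    _ = y * g * y⁻¹ * (g⁻¹ * x) := by
        rw [show x * g⁻¹ = g⁻¹ * x by rw [mul_inv_eq_iff_eq_mul, mul_assoc, e1, inv_mul_cancel_left]]
    _ = ⁅y, g⁆ * x := by rw [commutatorElement_def]; group

theorem le_normalizer_commutator_right (Y C : Subgroup G) :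
    Y ≤ normalizer ((⁅Y, C⁆ : Subgroup G) : Set G) :=
  Subgroup.normalizer_commutator_ge_left Y C

/-- `normalizer` of a subgroup normalizes its centralizer. -/
theorem le_normalizer_centralizer' {X Y : Subgroup G} (h : Y ≤ normalizer (X : Set G)) :
    Y ≤ normalizer ((centralizer (X : Set G) : Subgroup G) : Set G) :=
  Coprime.le_normalizer_centralizer h

theorem le_normalizer_commutator₂ {S H L : Subgroup G} (hH : S ≤ normalizer (H : Set G))
    (hL : S ≤ normalizer (L : Set G)) : S ≤ normalizer ((⁅H, L⁆ : Subgroup G) : Set G) := fun s hs => by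
  rw [Subgroup.mem_normalizer_iff_map_conj_eq, Subgroup.map_commutator,
    Subgroup.mem_normalizer_iff_map_conj_eq.mp (hH hs), Subgroup.mem_normalizer_iff_map_conj_eq.mp (hL hs)]

theorem le_normalizer_sup₂ {S H L : Subgroup G} (hH : S ≤ normalizer (H : Set G))
    (hL : S ≤ normalizer (L : Set G)) : S ≤ normalizer ((H ⊔ L : Subgroup G) : Set G) := fun s hs => by
  rw [Subgroup.mem_normalizer_iff_map_conj_eq, Subgroup.map_sup,
    Subgroup.mem_normalizer_iff_map_conj_eq.mp (hH hs), Subgroup.mem_normalizer_iff_map_conj_eq.mp (hL hs)]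

theorem le_normalizer_iSup' {ι : Sort*} {S : Subgroup G} (f : ι → Subgroup G)
    (h : ∀ i, S ≤ normalizer (f i : Set G)) : S ≤ normalizer ((⨆ i, f i : Subgroup G) : Set G) := fun s hs => by
  rw [Subgroup.mem_normalizer_iff_map_conj_eq, Subgroup.map_iSup]
  exact iSup_congr fun i => Subgroup.mem_normalizer_iff_map_conj_eq.mp (h i hs)

theorem le_normalizer_iInf' {ι : Sort*} {S : Subgroup G} (f : ι → Subgroup G)
    (h : ∀ i, S ≤ normalizer (f i : Set G)) : S ≤ normalizer ((⨅ i, f i : Subgroup G) : Set G) := fun s hs =>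
  mem_normalizer_iff.2 fun x => by
    simp only [Subgroup.mem_iInf]
    exact forall_congr' fun i => mem_normalizer_iff.1 (h i hs) x

namespace Setting

variable [Finite G] {p : ℕ} [hpF : Fact p.Prime] {A : Subgroup G} {θ : G → Subgroup G}
variable (S : Setting p A θ)
include S

omit [Finite G] hpF in
theorem comm {a b : G} (ha : a ∈ A) (hb : b ∈ A) : a * b = b * a :=
  congrArg Subtype.val (S.hA.1.is_comm.comm (⟨a, ha⟩ : A) ⟨b, hb⟩)

omit [Finite G] hpF in
theorem pow_eq {a : G} (ha : a ∈ A) : a ^ p = 1 := S.hA.2 a ha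

omit [Finite G] hpF in
theorem le_centralizer_of_le {B : Subgroup G} (hB : B ≤ A) : A ≤ centralizer (B : Set G) := fun _ ha =>
  Subgroup.mem_centralizer_iff.2 fun _ hb => S.comm (hB hb) ha

omit [Finite G] hpF in
theorem le_normalizer_of_sub {B : Subgroup G} (hB : B ≤ A) : A ≤ normalizer (B : Set G) :=
  (S.le_centralizer_of_le hB).trans (Subgroup.centralizer_le_normalizer _)

omit [Finite G] hpF in
theorem le_normalizer_centralizer {B : Subgroup G} (hB : B ≤ A) :
    A ≤ normalizer ((centralizer (B : Set G) : Subgroup G) : Set G) :=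
  (S.le_centralizer_of_le hB).trans Subgroup.le_normalizer

omit [Finite G] hpF in
theorem le_normalizer_centralizer_singleton {a : G} (ha : a ∈ A) :
    A ≤ normalizer ((centralizer ({a} : Set G) : Subgroup G) : Set G) := fun _ hb =>
  Subgroup.le_normalizer (Subgroup.mem_centralizer_singleton_iff.2 (S.comm hb ha))

theorem card_zpowers {a : G} (ha : a ∈ A) (ha1 : a ≠ 1) : Nat.card (zpowers a) = p := by
  rw [Nat.card_zpowers]; exact orderOf_eq_prime (S.pow_eq ha) ha1

theorem zpowers_eq {a b : G} (ha : a ∈ A) (ha1 : a ≠ 1) (hb : b ∈ zpowers a) (hb1 : b ≠ 1) :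
    zpowers b = zpowers a :=
  Subgroup.eq_of_le_of_card_ge (Subgroup.zpowers_le.2 hb)
    (by rw [S.card_zpowers ha ha1, S.card_zpowers (Subgroup.zpowers_le.2 ha hb) hb1])

theorem isPGroup : IsPGroup p A := fun a => ⟨1, Subtype.ext (by simpa using S.hA.2 a a.2)⟩

theorem not_isCyclic_line {L : Subgroup G} (hL : IsLine p A L) : ¬ IsCyclic L := by
  intro h
  obtain ⟨g, hg⟩ := h.exists_ofOrder_eq_natCard
  have h1 : orderOf g ∣ p := orderOf_dvd_of_pow_eq_one (Subtype.ext (by simpa using S.pow_eq (hL.1 g.2)))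
  rw [hg, hL.2] at h1
  have := Nat.le_of_dvd hpF.out.pos h1
  nlinarith [hpF.out.two_le]

omit [Finite G] in
theorem exists_ne_one_of_line {L : Subgroup G} (hL : IsLine p A L) : ∃ a ∈ L, a ≠ 1 := by
  refine L.bot_or_exists_ne_one.resolve_left fun h => ?_
  have := hL.2
  rw [h, Subgroup.card_bot] at this
  exact absurd this.symm (Nat.one_lt_pow (by norm_num) hpF.out.one_lt).ne'

/-- Two lines meet. -/
theorem meet {L L' : Subgroup G} (hL : IsLine p A L) (hL' : IsLine p A L') :
    ∃ c, c ∈ L ∧ c ∈ L' ∧ c ≠ 1 := by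
  by_contra hne
  push Not at hne
  have h0 : L ⊓ L' = ⊥ := (Subgroup.eq_bot_iff_forall _).2 fun c hc => hne c hc.1 hc.2
  have hn : L ≤ normalizer (L' : Set G) := hL.1.trans (S.le_normalizer_of_sub hL'.1)
  have e := Coprime.card_sup_of_le_normalizer hn h0
  have h' := Subgroup.card_le_of_le (sup_le hL.1 hL'.1)
  rw [e, hL.2, hL'.2, S.card, ← pow_add] at h'
  exact absurd h' (not_le.mpr (Nat.pow_lt_pow_right hpF.out.one_lt (by norm_num)))

/-- A proper subgroup of `A` lies in a line. -/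
theorem exists_line_ge {B : Subgroup G} (hB : B ≤ A) (hne : B ≠ A) : ∃ L, IsLine p A L ∧ B ≤ L := by
  obtain ⟨k, hk⟩ := (S.isPGroup.to_le hB).exists_card_eq
  have hk3 : k ≤ 2 := by
    have hlt : Nat.card B < Nat.card A := lt_of_le_of_ne (Subgroup.card_le_of_le hB)
      fun h => hne (Subgroup.eq_of_le_of_card_ge hB h.ge)
    rw [hk, S.card] at hlt
    have := (Nat.pow_lt_pow_iff_right hpF.out.one_lt).1 hlt
    omega
  obtain ⟨L, hL, hBL⟩ := Sylow.exists_subgroup_card_pow_prime_le p (G := A) (n := k) (m := 2)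
    (by rw [S.card]; exact pow_dvd_pow p (by norm_num)) (B.subgroupOf A)
    (by rw [Coprime.card_subgroupOf hB, hk]) hk3
  refine ⟨L.map A.subtype, ⟨Subgroup.map_subtype_le _, ?_⟩, ?_⟩
  · rw [Subgroup.card_map_of_injective A.subtype_injective, hL]
  · rw [← Subgroup.map_subgroupOf_eq_of_le hB]; exact Subgroup.map_mono hBL

theorem zpowers_ne {a : G} (ha : a ∈ A) (ha1 : a ≠ 1) : zpowers a ≠ A := by
  intro h
  have := S.card
  rw [← h, S.card_zpowers ha ha1] at this
  have h2 := hpF.out.two_le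
  have : p ^ 1 = p ^ 3 := by simpa using this
  exact absurd ((Nat.pow_right_injective h2) this) (by norm_num)

theorem exists_line_mem {a : G} (ha : a ∈ A) : ∃ L, IsLine p A L ∧ a ∈ L := by
  rcases eq_or_ne a 1 with rfl | ha1
  · obtain ⟨L, hL, -⟩ := S.exists_line_ge bot_le (fun h => by
      have := S.card
      rw [← h, Subgroup.card_bot] at this
      exact absurd this.symm (Nat.one_lt_pow (by norm_num) hpF.out.one_lt).ne')
    exact ⟨L, hL, L.one_mem⟩
  · obtain ⟨L, hL, h⟩ := S.exists_line_ge (Subgroup.zpowers_le.2 ha) (S.zpowers_ne ha ha1)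
    exact ⟨L, hL, h (Subgroup.mem_zpowers a)⟩

/-- A subgroup of `A` with cyclic quotient contains a line. -/
theorem exists_line_le {E : Subgroup G} (hE : E ≤ A) (hcyc : ∃ a ∈ A, E ⊔ zpowers a = A) :
    ∃ L, IsLine p A L ∧ L ≤ E := by
  obtain ⟨a, ha, he⟩ := hcyc
  obtain ⟨k, hk⟩ := (S.isPGroup.to_le hE).exists_card_eq
  have hk2 : 2 ≤ k := by
    by_contra hk'
    rcases eq_or_ne a 1 with rfl | ha1
    · rw [Subgroup.zpowers_one_eq_bot, sup_bot_eq] at he
      have := S.card
      rw [← he, hk] at this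
      have := Nat.pow_right_injective hpF.out.two_le this
      omega
    have hn : zpowers a ≤ normalizer (E : Set G) :=
      (Subgroup.zpowers_le.2 ha).trans (S.le_normalizer_of_sub hE)
    have h1 : (E.relIndex (E ⊔ zpowers a)) ∣ p := by
      rw [sup_comm, Coprime.relIndex_sup_right_of_le_normalizer hn]
      exact (Subgroup.relIndex_dvd_card _ _).trans (by
        rw [Nat.card_zpowers]; exact orderOf_dvd_of_pow_eq_one (S.pow_eq ha))
    have h2 := Subgroup.relIndex_mul_relIndex ⊥ E (E ⊔ zpowers a) bot_le le_sup_left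
    rw [Subgroup.relIndex_bot_left, Subgroup.relIndex_bot_left, he, S.card, hk] at h2
    rw [he] at h1
    have h3 : p ^ k * E.relIndex A ≤ p ^ k * p := Nat.mul_le_mul_left _ (Nat.le_of_dvd hpF.out.pos h1)
    rw [h2, ← pow_succ] at h3
    have := (Nat.pow_le_pow_iff_right hpF.out.one_lt).1 h3
    omega
  obtain ⟨L, hL⟩ := Sylow.exists_subgroup_card_pow_prime p (G := E) (n := 2) (hk ▸ pow_dvd_pow p hk2)
  exact ⟨L.map E.subtype, ⟨(Subgroup.map_subtype_le _).trans hE,
    by rw [Subgroup.card_map_of_injective E.subtype_injective, hL]⟩, Subgroup.map_subtype_le _⟩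

theorem coprime {X : Subgroup G} (hX : ¬ p ∣ Nat.card X) : (Nat.card A).Coprime (Nat.card X) :=
  Signalizer.coprime_A S.hA hX

theorem coprime_sub {B X : Subgroup G} (hB : B ≤ A) (hX : ¬ p ∣ Nat.card X) :
    (Nat.card B).Coprime (Nat.card X) :=
  (S.coprime hX).coprime_dvd_left (Subgroup.card_dvd_of_le hB)

omit [Finite G] hpF in
theorem isMulCommutative : IsMulCommutative A := S.hA.1

omit [Finite G] hpF in
theorem isMulCommutative_sub {B : Subgroup G} (hB : B ≤ A) : IsMulCommutative B :=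
  ⟨⟨fun x y => Subtype.ext (S.comm (hB x.2) (hB y.2))⟩⟩

theorem solvable_sub {B : Subgroup G} (hB : B ≤ A) : Group.IsSolvable B :=
  Coprime.isSolvable_of_le hB (Signalizer.isSolvable_A S.hA)

/-- `X = ⟨C_X(L) : L line⟩`. -/
theorem le_of_lines {X T : Subgroup G} (hX : A ≤ normalizer (X : Set G)) (hXp : ¬ p ∣ Nat.card X)
    (h : ∀ L, IsLine p A L → X ⊓ centralizer (L : Set G) ≤ T) : X ≤ T := by
  haveI := S.isMulCommutative
  refine Coprime.le_of_forall_cyclic_quotient hX (S.coprime hXp) fun E hE hcyc => ?_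
  obtain ⟨L, hL, hLE⟩ := S.exists_line_le hE hcyc
  exact (inf_le_inf_left _ (Subgroup.centralizer_le hLE)).trans (h L hL)

/-- `C_X(a) = ⟨C_X(L) : a ∈ L⟩`. -/
theorem le_of_lines_mem {X T : Subgroup G} {a : G} (ha : a ∈ A) (ha1 : a ≠ 1)
    (hX : A ≤ normalizer (X : Set G)) (hXp : ¬ p ∣ Nat.card X)
    (h : ∀ L, IsLine p A L → a ∈ L → X ⊓ centralizer (L : Set G) ≤ T) : X ⊓ centralizer {a} ≤ T := by
  haveI := S.isMulCommutative
  refine Coprime.le_of_forall_cyclic_quotient
    (Coprime.le_normalizer_inf_centralizer_singleton hX ha)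
    (S.coprime fun hd => hXp (hd.trans (Subgroup.card_dvd_of_le inf_le_left))) fun E hE hcyc => ?_
  set E' := E ⊔ zpowers a with hE'
  have hE'A : E' ≤ A := sup_le hE (Subgroup.zpowers_le.2 ha)
  have hsub : (X ⊓ centralizer {a}) ⊓ centralizer (E : Set G) ≤ X ⊓ centralizer (E' : Set G) := by
    refine le_inf (inf_le_left.trans inf_le_left) ?_
    rw [← Subgroup.le_centralizer_iff]
    refine sup_le (Subgroup.le_centralizer_iff.1 inf_le_right) (Subgroup.zpowers_le.2 ?_)
    exact Subgroup.mem_centralizer_iff.2 fun x hx =>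
      Subgroup.mem_centralizer_singleton_iff.1 hx.1.2
  obtain ⟨L, hL, hLE⟩ := S.exists_line_le hE hcyc
  by_cases haL : a ∈ E
  · by_cases h2 : E = A
    · obtain ⟨L', hL', haL'⟩ := S.exists_line_mem ha
      exact hsub.trans ((inf_le_inf_left _ (Subgroup.centralizer_le
        (hL'.1.trans (h2.ge.trans le_sup_left)))).trans (h L' hL' haL'))
    · obtain ⟨L', hL', hEL'⟩ := S.exists_line_ge hE h2
      have hc : Nat.card L' ≤ Nat.card E := hL'.2.le.trans (hL.2.ge.trans (Subgroup.card_le_of_le hLE))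
      have := Subgroup.eq_of_le_of_card_ge hEL' hc
      exact hsub.trans ((inf_le_inf_left _ (Subgroup.centralizer_le
        (this.ge.trans le_sup_left))).trans (h L' hL' (hEL' haL)))
  · obtain ⟨L', hL', haL'⟩ := S.exists_line_mem ha
    have hAE : E' = A := by
      by_contra hne'
      obtain ⟨L'', hL'', hle⟩ := S.exists_line_ge hE'A hne'
      have hc : Nat.card L'' ≤ Nat.card E := hL''.2.le.trans (hL.2.ge.trans (Subgroup.card_le_of_le hLE))
      have := Subgroup.eq_of_le_of_card_ge (le_sup_left.trans hle) hc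
      exact haL (this ▸ hle (le_sup_right (a := E) (Subgroup.mem_zpowers a)))
    exact hsub.trans ((inf_le_inf_left _ (Subgroup.centralizer_le (hAE ▸ hL'.1))).trans (h L' hL' haL'))

/-- `X = ⟨C_X(c) : c ∈ L⟩` for a line `L`. -/
theorem le_of_points {X T L : Subgroup G} (hL : IsLine p A L) (hX : L ≤ normalizer (X : Set G))
    (hXp : ¬ p ∣ Nat.card X) (h : ∀ c ∈ L, c ≠ 1 → X ⊓ centralizer {c} ≤ T) : X ≤ T := by
  haveI := S.isMulCommutative_sub hL.1
  have := Coprime.eq_of_forall_centralizer_le (S.not_isCyclic_line hL) hX (S.coprime_sub hL.1 hXp)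
    (inf_le_left : X ⊓ T ≤ X) fun c hc hc1 => le_inf inf_le_left (h c hc hc1)
  exact this ▸ inf_le_right

omit [Finite G] hpF in
theorem theta_le_centralizer {a : G} (ha : a ∈ A) (ha1 : a ≠ 1) : θ a ≤ centralizer {a} := S.hθ.1.1 a ha ha1

omit [Finite G] hpF in
theorem theta_mem {a : G} (ha : a ∈ A) (ha1 : a ≠ 1) : θ a ∈ signalizerFamily p A θ :=
  Signalizer.theta_mem_family S.hθ ha ha1

omit [Finite G] hpF in
theorem theta_le_normalizer {a : G} (ha : a ∈ A) (ha1 : a ≠ 1) : A ≤ normalizer (θ a : Set G) :=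
  Signalizer.theta_normalized S.hθ ha ha1

omit [Finite G] hpF in
theorem balance {a b : G} (ha : a ∈ A) (ha1 : a ≠ 1) (hb : b ∈ A) (hb1 : b ≠ 1) :
    θ a ⊓ centralizer {b} ≤ θ b := S.hθ.1.2.2.2 a ha ha1 b hb hb1

theorem theta_eq {a b : G} (ha : a ∈ A) (ha1 : a ≠ 1) (hb : b ∈ zpowers a) (hb1 : b ≠ 1) : θ b = θ a := by
  have hbA : b ∈ A := Subgroup.zpowers_le.2 ha hb
  have h1 : ∀ {a b : G}, a ∈ A → a ≠ 1 → b ∈ A → b ≠ 1 → b ∈ zpowers a → θ a ≤ θ b := by
    intro a b ha ha1 hbA hb1 hb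
    refine le_trans (le_inf le_rfl ?_) (S.balance ha ha1 hbA hb1)
    intro x hx
    have := S.theta_le_centralizer ha ha1 hx
    rw [← Signalizer.centralizer_zpowers] at this
    exact Subgroup.mem_centralizer_singleton_iff.2 (Subgroup.mem_centralizer_iff.1 this b hb).symm
  exact le_antisymm (h1 hbA hb1 ha ha1 (S.zpowers_eq ha ha1 hb hb1 ▸ Subgroup.mem_zpowers a))
    (h1 ha ha1 hbA hb1 hb)

omit [Finite G] hpF in
theorem inf_centralizer_le {L : Subgroup G} {X : Subgroup G} (hL : L ≤ A)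
    (hX : X ∈ signalizerFamily p A θ) : X ⊓ centralizer (L : Set G) ≤ signalizerInf L θ := fun _ hx =>
  Signalizer.mem_signalizerInf fun b hb hb1 => hX.2.2.2 b (hL hb) hb1
    ⟨hx.1, Subgroup.mem_centralizer_singleton_iff.2 (Subgroup.mem_centralizer_iff.1 hx.2 b hb).symm⟩

omit [Finite G] hpF in
theorem inf_le_centralizer {L : Subgroup G} (hL : L ≤ A) : signalizerInf L θ ≤ centralizer (L : Set G) :=
  Signalizer.signalizerInf_le_centralizer S.hθ hL

/-- `θ a = ⟨θ L : a ∈ L⟩`. -/
theorem theta_le_of_lines {a : G} (ha : a ∈ A) (ha1 : a ≠ 1) {T : Subgroup G}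
    (h : ∀ L, IsLine p A L → a ∈ L → signalizerInf L θ ≤ T) : θ a ≤ T := by
  refine le_trans (le_inf le_rfl (S.theta_le_centralizer ha ha1))
    (S.le_of_lines_mem ha ha1 (S.theta_le_normalizer ha ha1) (S.theta_mem ha ha1).2.1 fun L hL haL => ?_)
  exact (S.inf_centralizer_le hL.1 (S.theta_mem ha ha1)).trans (h L hL haL)

theorem exists_ne_one : ∃ a ∈ A, a ≠ 1 := by
  obtain ⟨L, hL, -⟩ := S.exists_line_mem A.one_mem
  obtain ⟨a, ha, h⟩ := S.exists_ne_one_of_line hL
  exact ⟨a, hL.1 ha, h⟩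

/-- `θ A` is in the family. -/
theorem inf_mem : signalizerInf A θ ∈ signalizerFamily p A θ := by
  obtain ⟨a, ha, ha1⟩ := S.exists_ne_one
  exact Signalizer.family_of_le (S.theta_mem ha ha1) (Signalizer.signalizerInf_le ha ha1)
    (le_normalizer_iInf' _ fun b => S.theta_le_normalizer b.2.1 b.2.2)

theorem inf_centralizer_A {X : Subgroup G} (hX : X ∈ signalizerFamily p A θ) :
    X ⊓ centralizer (A : Set G) ≤ signalizerInf A θ := S.inf_centralizer_le le_rfl hX

end Setting

end Cfsg.Agent.SSFT
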