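import Cfsg.Agent.S0620
import Cfsg.Agent.Lib.OddOrder.FittingLocal
import Cfsg.Agent.Lib.PCore.HallHigmanDual
import Cfsg.Agent.Lib.PCore.PSolvable
import Cfsg.Agent.Lib.PCore.UpperSeries
import Cfsg.Agent.Lib.PGroup.Thompson
import Cfsg.Agent.Lib.Replacement.Constrained

/-!
# Absorption of the Thompson subgroup in a pure solvable signalizer

`thompson_absorb`: if the elementary abelian `p`-group `A` acts on the solvable `p'`-group `L` with
`C_L(O_v(L)) ≤ O_v(L)`, and `S` is an `A`-invariant `v`-subgroup of `L` containing `O_v(L)` which is normalised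
by `C_L(A)` and by `C_L(Ω₁(Z(S)))`, then `J(S) = J(O_v(L))`.
-/

set_option autoImplicit false
set_option linter.style.haveILetI false

namespace Cfsg.Agent.SSFT

open Cfsg
open Subgroup (centralizer normalizer)
open Cfsg.Agent.OddOrder (pOf)

theorem thompson_absorb {G : Type*} [Group G] [Finite G] {v p : ℕ} [Fact v.Prime] [Fact p.Prime]
    {A L S : Subgroup G} (hA : IsElementaryAbelian p A) (hAL : A ≤ normalizer (L : Set G))
    (hLs : Group.IsSolvable L) (hLp : ¬ p ∣ Nat.card L)
    (hpure : L ⊓ centralizer (pOf v L : Set G) ≤ pOf v L)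
    (hS : IsPGroup v S) (hSL : S ≤ L) (hVS : pOf v L ≤ S)
    (hAS : A ≤ normalizer (S : Set G))
    (h1 : L ⊓ centralizer (A : Set G) ≤ normalizer (S : Set G))
    (h2 : L ⊓ centralizer (omegaOne v (S ⊓ centralizer (S : Set G)) : Set G) ≤
      normalizer (S : Set G)) :
    thompsonSubgroupOf v S = thompsonSubgroupOf v (pOf v L) := by
  haveI := hLs
  haveI : (pCore v ↥L).Characteristic := PCore.pCore_characteristic
  set π := QuotientGroup.mk' (pCore v ↥L) with hπ
  set Q := pPrimeCore v (↥L ⧸ pCore v ↥L) with hQ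
  set W := Q.comap π with hW
  haveI hQc : Q.Characteristic := PCore.pPrimeCore_characteristic
  haveI hWc : W.Characteristic := PCore.comap_mk'_characteristic _ _
  set S' := S.subgroupOf L with hS'
  set V := pCore v ↥L with hV
  have hVW : V ≤ W := fun x hx => by
    have : π x = 1 := (QuotientGroup.eq_one_iff x).mpr hx
    rw [hW, Subgroup.mem_comap, this]; exact one_mem _
  have hVS' : V ≤ S' := fun x hx => hVS ⟨x, hx, rfl⟩
  have hSn : normalizer (S : Set G) ≤ normalizer (thompsonSubgroupOf v S : Set G) :=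
    PGroup.normalizer_le_normalizer_thompsonOf S
  set K : Subgroup G := (W ⊔ S').map L.subtype with hK
  have hKL : K ≤ L := Subgroup.map_subtype_le _
  have hmapS : S'.map L.subtype = S := Subgroup.map_subgroupOf_eq_of_le hSL
  have hSK : S ≤ K := hmapS.ge.trans (Subgroup.map_mono le_sup_right)
  have hVK : pOf v L ≤ K := Subgroup.map_mono (hVW.trans le_sup_left)
  have hAK : A ≤ normalizer (K : Set G) := fun a ha => by
    rw [hK, Subgroup.map_sup, hmapS, Subgroup.mem_normalizer_iff_map_conj_eq, Subgroup.map_sup,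
      Subgroup.mem_normalizer_iff_map_conj_eq.mp
        (Components.normalizer_le_normalizer_map_of_characteristic L W (hAL ha)),
      Subgroup.mem_normalizer_iff_map_conj_eq.mp (hAS ha)]
  have hKp : ¬ p ∣ Nat.card K := fun h => hLp (h.trans (Subgroup.card_dvd_of_le hKL))
  haveI : Group.IsSolvable ↥K := solvable_of_solvable_injective (Subgroup.inclusion_injective hKL)
  -- `S` is a Sylow `v`-subgroup of `K`
  have hidx : ¬ v ∣ S.relIndex K := by
    have e1 : (V.subgroupOf W).index = Nat.card Q := by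
      show V.relIndex W = _
      rw [PCore.relIndex_eq_card_map_mk', hW,
        Subgroup.map_comap_eq_self_of_surjective (QuotientGroup.mk'_surjective _)]
    have e2 : (W ⊓ S').relIndex W ∣ Nat.card Q := by
      rw [← e1]
      exact Subgroup.relIndex_dvd_of_le_left W (le_inf hVW hVS')
    have e3 : S'.relIndex (W ⊔ S') = (W ⊓ S').relIndex W := by
      have a := Subgroup.relIndex_mul_relIndex ⊥ S' (W ⊔ S') bot_le le_sup_right
      have b := Subgroup.relIndex_mul_relIndex ⊥ W (W ⊔ S') bot_le le_sup_left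
      have c := Subgroup.relIndex_mul_relIndex ⊥ (W ⊓ S') W bot_le inf_le_left
      have d := Subgroup.relIndex_mul_relIndex ⊥ (W ⊓ S') S' bot_le inf_le_right
      simp only [Subgroup.relIndex_bot_left, Subgroup.relIndex_sup_left] at a b c d
      rw [Subgroup.inf_relIndex_right] at d
      have hpos : 0 < Nat.card S' := Nat.card_pos
      refine Nat.eq_of_mul_eq_mul_left hpos ?_
      rw [a, ← b, ← c, ← d]
      ring
    have e4 : S.relIndex K = S'.relIndex (W ⊔ S') := by
      conv_lhs => rw [← hmapS]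
      exact Subgroup.relIndex_map_map_of_injective _ _ L.subtype_injective
    intro hd
    rw [e4, e3] at hd
    exact (Fact.out : v.Prime).coprime_iff_not_dvd.mp
      (PCore.coprime_card_pPrimeCore (p := v)).symm (hd.trans e2)
  have hSKp : IsPGroup v (S.subgroupOf K) := hS.comap_of_injective K.subtype K.subtype_injective
  let P : Sylow v ↥K := hSKp.toSylow hidx
  have hP : (P : Subgroup ↥K) = S.subgroupOf K := rfl
  have hmapP : (P : Subgroup ↥K).map K.subtype = S := Subgroup.map_subgroupOf_eq_of_le hSK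
  -- `O_{v'}(K) = 1`
  have hO : pPrimeCore v ↥K = ⊥ := by
    haveI hVn : ((pOf v L).subgroupOf K).Normal :=
      (Subgroup.normal_subgroupOf_iff_le_normalizer hVK).2 (hKL.trans (OddOrder.le_normalizer_pOf L))
    have hdis : Disjoint ((pOf v L).subgroupOf K) (pPrimeCore v ↥K) :=
      PCore.disjoint_of_isPGroup_of_coprime
        ((OddOrder.isPGroup_pOf L).comap_of_injective K.subtype K.subtype_injective)
        PCore.coprime_card_pPrimeCore
    rw [← le_bot_iff]
    intro x hx
    have hxc : (x : G) ∈ centralizer (pOf v L : Set G) := Subgroup.mem_centralizer_iff.mpr fun y hy =>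
      congrArg Subtype.val
        (PCore.commute_of_normal_of_disjoint hVn PCore.pPrimeCore_normal hdis
          (a := (⟨y, hVK hy⟩ : ↥K)) hy hx)
    exact disjoint_iff.mp hdis ▸ Subgroup.mem_inf.mpr ⟨hpure ⟨hKL x.2, hxc⟩, hx⟩
  -- `K` normalises `J(S)`
  have hgen := Cfsg.Agent.S0620.result (p := v) (q := p) K A hAK hA hKp
    PCore.isPSolvable_of_isSolvable hO P
  have hJmap : (thompsonSubgroupOf v (P : Subgroup ↥K)).map K.subtype = thompsonSubgroupOf v S := by
    rw [← Replacement.thompsonSubgroupOf_map_injOn K.subtype (fun x _ hx => K.subtype_injective (by simpa using hx)),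
      hmapP]
  have hZmap : ((P : Subgroup ↥K) ⊓ centralizer ((P : Subgroup ↥K) : Set ↥K)).map K.subtype =
      S ⊓ centralizer (S : Set G) := by
    ext x
    constructor
    · rintro ⟨y, hy, rfl⟩
      refine ⟨hy.1, Subgroup.mem_centralizer_iff.mpr fun s hs => ?_⟩
      exact congrArg Subtype.val (Subgroup.mem_centralizer_iff.mp hy.2 (⟨s, hSK hs⟩ : ↥K) hs)
    · rintro ⟨hxS, hxc⟩
      exact ⟨⟨x, hSK hxS⟩, ⟨hxS, Subgroup.mem_centralizer_iff.mpr fun s hs =>
        Subtype.ext (Subgroup.mem_centralizer_iff.mp hxc (s : G) hs)⟩, rfl⟩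
  have hKJ : K ≤ normalizer (thompsonSubgroupOf v S : Set G) := by
    rw [← Subgroup.subgroupOf_eq_top, ← top_le_iff, ← hgen]
    refine sup_le (sup_le ?_ ?_) ?_
    · intro x hx
      rw [Subgroup.mem_subgroupOf, ← hJmap]
      exact Subgroup.le_normalizer_map K.subtype ⟨x, hx, rfl⟩
    · intro x hx
      refine hSn (h2 ⟨hKL x.2, ?_⟩)
      rw [← hZmap, ← PGroup.map_omegaOne_of_injective K.subtype_injective]
      refine Subgroup.mem_centralizer_iff.mpr ?_
      rintro _ ⟨y, hy, rfl⟩
      exact congrArg Subtype.val (Subgroup.mem_centralizer_iff.mp hx y hy)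
    · exact fun x hx => hSn (h1 ⟨hKL x.2, hx⟩)
  -- a `v`-subgroup normalised by `O_{v,v'}(L)` lies in `O_v(L)`
  have hJV : thompsonSubgroupOf v S ≤ pOf v L := by
    have hJS : thompsonSubgroupOf v S ≤ S := PGroup.thompsonSubgroupOf_le S
    set J' := (thompsonSubgroupOf v S).subgroupOf L with hJ'
    have hJp : IsPGroup v (J'.map π) :=
      ((hS.to_le hJS).comap_of_injective L.subtype L.subtype_injective).map π
    have hWJ : W ≤ normalizer (J' : Set ↥L) := fun w hw => by
      have := hKJ ⟨w, Subgroup.mem_sup_left hw, rfl⟩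
      refine Subgroup.mem_normalizer_iff.mpr fun x => ?_
      exact Subgroup.mem_normalizer_iff.mp this (x : G)
    have hQJ : Q ≤ normalizer (J'.map π : Set (↥L ⧸ pCore v ↥L)) := by
      rw [← Subgroup.map_comap_eq_self_of_surjective (f := π) (QuotientGroup.mk'_surjective _) Q]
      exact (Subgroup.map_mono hWJ).trans (Subgroup.le_normalizer_map π)
    have hdis : J'.map π ⊓ Q = ⊥ :=
      disjoint_iff.mp (PCore.disjoint_of_isPGroup_of_coprime hJp PCore.coprime_card_pPrimeCore)
    have hJQ : J'.map π ≤ Q := (OddOrder.le_centralizer_of_normalize hdis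
      (by rw [Subgroup.normalizer_eq_top]; exact le_top) hQJ).trans
      (PCore.centralizer_pPrimeCore_le PCore.isPSolvable_of_isSolvable PCore.pCore_quotient_self_eq_bot)
    have hJ0 : J'.map π = ⊥ := by rw [← hdis, inf_eq_left.mpr hJQ]
    rw [Subgroup.map_eq_bot_iff, hπ, QuotientGroup.ker_mk'] at hJ0
    exact (Subgroup.map_subgroupOf_eq_of_le (hJS.trans hSL)).ge.trans (Subgroup.map_mono hJ0)
  exact (PGroup.thompsonSubgroupOf_eq_of_le hJV hVS).symm

end Cfsg.Agent.SSFT
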