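import Cfsg.Agent.Lib.OddOrder.FittingLocal
import Cfsg.Agent.Lib.PCore.Constrained
import Cfsg.Agent.Lib.PCore.PSolvable
import Cfsg.Agent.Lib.PGroup.ElementaryAbelian
import Cfsg.Agent.Lib.Components.Subnormal
import Cfsg.Agent.Lib.Coprime.Generation
import Cfsg.Agent.Lib.Coprime.Commutator
import Cfsg.Agent.Lib.Coprime.ThreeSubgroup
import Cfsg.Agent.Lib.Fusion.CharWitness
import Cfsg.Agent.Lib.Signalizer.GenFixed

/-!
# Cores of solvable subgroups inside the ambient group

`O_{t'}`, `O_{t',t}`, `O_{u,s}` of a subgroup and the consequences of `C(F) ≤ F` used for solvable signalizer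
functors.
-/

set_option linter.unusedSectionVars false
set_option linter.style.haveILetI false

namespace Cfsg.Agent.SSFT

open Cfsg
open Subgroup (normalizer centralizer zpowers mem_normalizer_iff)
open scoped Pointwise commutatorElement
open Cfsg.Agent.OddOrder (pOf)
set_option autoImplicit false

universe w
variable {G : Type w} [Group G] [Finite G]

/-- `O_{t'}(H)` inside `G`. -/
def primeOf (t : ℕ) (H : Subgroup G) : Subgroup G := (pPrimeCore t H).map H.subtype

/-- `O_{t',t}(H)` inside `G`. -/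
def primePOf (t : ℕ) (H : Subgroup G) : Subgroup G := (pPrimePCore t H).map H.subtype

/-- `O_{u,s}(H)` inside `G`. -/
def usOf (u s : ℕ) (H : Subgroup G) : Subgroup G :=
  ((pCore s (H ⧸ pCore u H)).comap (QuotientGroup.mk' (pCore u H))).map H.subtype

/-- `Ω₁(Z(S))`. -/
def zq (v : ℕ) (S : Subgroup G) : Subgroup G := omegaOne v (S ⊓ centralizer (S : Set G))

variable {t u s v : ℕ} {H : Subgroup G}

theorem primeOf_le (H : Subgroup G) : primeOf t H ≤ H := Subgroup.map_subtype_le _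
theorem primePOf_le (H : Subgroup G) : primePOf t H ≤ H := Subgroup.map_subtype_le _
theorem usOf_le (H : Subgroup G) : usOf u s H ≤ H := Subgroup.map_subtype_le _

theorem primeOf_le_primePOf (H : Subgroup G) : primeOf t H ≤ primePOf t H :=
  Subgroup.map_mono PCore.pPrimeCore_le_pPrimePCore

theorem pOf_le_usOf (H : Subgroup G) : pOf u H ≤ usOf u s H :=
  Subgroup.map_mono (QuotientGroup.le_comap_mk' _ _)

theorem normalizer_le_normalizer_primeOf (H : Subgroup G) :
    normalizer (H : Set G) ≤ normalizer (primeOf t H : Set G) :=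
  Components.normalizer_le_normalizer_map_of_characteristic H _

theorem normalizer_le_normalizer_usOf (H : Subgroup G) :
    normalizer (H : Set G) ≤ normalizer (usOf u s H : Set G) := by
  haveI : ((pCore s (H ⧸ pCore u H)).comap (QuotientGroup.mk' (pCore u H))).Characteristic :=
    Fusion.characteristic_comap _ (QuotientGroup.mk'_surjective _)
      (by rw [QuotientGroup.ker_mk']; exact LocalChar.pCore_characteristic u)
      (LocalChar.pCore_characteristic s)
  exact Components.normalizer_le_normalizer_map_of_characteristic H _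

theorem le_normalizer_primeOf (H : Subgroup G) : H ≤ normalizer (primeOf t H : Set G) :=
  Subgroup.le_normalizer.trans (normalizer_le_normalizer_primeOf H)

theorem le_normalizer_usOf (H : Subgroup G) : H ≤ normalizer (usOf u s H : Set G) :=
  Subgroup.le_normalizer.trans (normalizer_le_normalizer_usOf H)

theorem le_normalizer_primePOf (H : Subgroup G) : H ≤ normalizer (primePOf t H : Set G) := by
  haveI : (pPrimePCore t ↥H).Normal := by unfold pPrimePCore; infer_instance
  exact OddOrder.le_normalizer_map_of_normal _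

theorem coprime_card_primeOf (H : Subgroup G) : (Nat.card (primeOf t H)).Coprime t := by
  rw [primeOf, Subgroup.card_map_of_injective H.subtype_injective]
  exact PCore.coprime_card_pPrimeCore

theorem le_primeOf {N : Subgroup G} (hle : N ≤ H) (hn : H ≤ normalizer (N : Set G))
    (hc : (Nat.card N).Coprime t) : N ≤ primeOf t H := by
  haveI : (N.subgroupOf H).Normal := (Subgroup.normal_subgroupOf_iff_le_normalizer hle).2 hn
  exact (Subgroup.map_subgroupOf_eq_of_le hle).ge.trans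
    (Subgroup.map_mono (PCore.le_pPrimeCore (by rwa [Coprime.card_subgroupOf hle])))

/-- A `u`-subgroup of `O_{u,s}(H)` lies in `O_u(H)`. -/
theorem le_pOf_of_le_usOf [Fact u.Prime] [Fact s.Prime] (hus : u ≠ s) {Y : Subgroup G}
    (hY : IsPGroup u Y) (hle : Y ≤ usOf u s H) : Y ≤ pOf u H := by
  intro y hy
  obtain ⟨x, hx, rfl⟩ := hle hy
  refine ⟨x, ?_, rfl⟩
  obtain ⟨k, hk⟩ := hY ⟨_, hy⟩
  obtain ⟨m, hm⟩ := (PCore.isPGroup_pCore (p := s) (G := H ⧸ pCore u H)) ⟨_, hx⟩
  have h1 : (QuotientGroup.mk' (pCore u H) x) ^ s ^ m = 1 := by simpa using congrArg Subtype.val hm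
  have hxk : x ^ u ^ k = 1 := Subtype.ext (by simpa using congrArg Subtype.val hk)
  have h2 : (QuotientGroup.mk' (pCore u H) x) ^ u ^ k = 1 := by rw [← map_pow, hxk, map_one]
  have hcop : (s ^ m).Coprime (u ^ k) :=
    Nat.Coprime.pow _ _ ((Nat.coprime_primes (Fact.out : s.Prime) (Fact.out : u.Prime)).2 (Ne.symm hus))
  have h3 : QuotientGroup.mk' (pCore u H) x = 1 := orderOf_eq_one_iff.1
    (Nat.eq_one_of_dvd_coprimes hcop (orderOf_dvd_of_pow_eq_one h1) (orderOf_dvd_of_pow_eq_one h2))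
  exact (QuotientGroup.eq_one_iff x).1 h3

/-- A subgroup of order prime to `t` of `O_{t',t}(H)` lies in `O_{t'}(H)`. -/
theorem le_primeOf_of_le_primePOf [Fact t.Prime] {Y : Subgroup G} (hY : (Nat.card Y).Coprime t)
    (hle : Y ≤ primePOf t H) : Y ≤ primeOf t H := by
  intro y hy
  obtain ⟨x, hx, rfl⟩ := hle hy
  refine ⟨x, ?_, rfl⟩
  obtain ⟨m, hm⟩ := (PCore.isPGroup_pCore (p := t) (G := H ⧸ pPrimeCore t H)) ⟨_, hx⟩
  have h1 : (QuotientGroup.mk' (pPrimeCore t H) x) ^ t ^ m = 1 := by simpa using congrArg Subtype.val hm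
  have h2 : orderOf (QuotientGroup.mk' (pPrimeCore t H) x) ∣ Nat.card Y :=
    (orderOf_map_dvd _ x).trans (by
      rw [← Subgroup.orderOf_coe]; exact Subgroup.orderOf_dvd_natCard Y hy)
  have h3 : QuotientGroup.mk' (pPrimeCore t H) x = 1 := orderOf_eq_one_iff.1
    (Nat.eq_one_of_dvd_coprimes (Nat.Coprime.pow_left m hY.symm) (orderOf_dvd_of_pow_eq_one h1) h2)
  exact (QuotientGroup.eq_one_iff x).1 h3

/-- A `u`-subgroup of a solvable `H` centralizing every `O_s(H/O_u(H))`, `s ≠ u`, lies in `O_u(H)`. -/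
theorem le_pOf_of_comm [hu : Fact u.Prime] (hs : Group.IsSolvable H) {Y : Subgroup G} (hYH : Y ≤ H)
    (hY : IsPGroup u Y)
    (h : ∀ s : ℕ, s.Prime → s ≠ u → ∀ y ∈ Y, ∀ k ∈ usOf u s H, ⁅y, k⁆ ∈ pOf u H) : Y ≤ pOf u H := by
  intro y hy
  haveI := hs
  refine ⟨⟨y, hYH hy⟩, ?_, rfl⟩
  set f := QuotientGroup.mk' (pCore u H)
  have hc : f ⟨y, hYH hy⟩ ∈ centralizer (fittingSubgroup (H ⧸ pCore u H) : Set (H ⧸ pCore u H)) := by
    suffices hF : fittingSubgroup (H ⧸ pCore u H) ≤ centralizer {f ⟨y, hYH hy⟩} from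
      Subgroup.mem_centralizer_iff.2 fun z hz => Subgroup.mem_centralizer_singleton_iff.1 (hF hz)
    rw [Components.fittingSubgroup_eq_iSup_pCore]
    refine iSup_le fun s => ?_
    rcases eq_or_ne (s : ℕ) u with e | hne
    · rw [e, PCore.pCore_quotient_self_eq_bot]; exact bot_le
    intro z hz
    obtain ⟨k, rfl⟩ := QuotientGroup.mk'_surjective (pCore u H) z
    have hk : (k : G) ∈ usOf u s H := ⟨k, hz, rfl⟩
    obtain ⟨w', hw', e⟩ := h s (Nat.prime_of_mem_primeFactors s.2) hne y hy k hk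
    have hw : ⁅(⟨y, hYH hy⟩ : H), k⁆ = w' := Subtype.ext (by simpa [commutatorElement_def] using e.symm)
    have h1 : f ⁅(⟨y, hYH hy⟩ : H), k⁆ = 1 := (QuotientGroup.eq_one_iff _).2 (hw ▸ hw')
    rw [map_commutatorElement, commutatorElement_eq_one_iff_mul_comm] at h1
    exact Subgroup.mem_centralizer_singleton_iff.2 h1.symm
  have hF := Components.centralizer_fittingSubgroup_le hc
  obtain ⟨n, hn⟩ := hY ⟨y, hy⟩
  have hyn : (⟨y, hYH hy⟩ : H) ^ u ^ n = 1 := Subtype.ext (by simpa using congrArg Subtype.val hn)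
  have h1 := Subnormal.mem_pCore_of_mem_fittingSubgroup (p := u) (k := n) hF (by rw [← map_pow, hyn, map_one])
  rw [PCore.pCore_quotient_self_eq_bot, Subgroup.mem_bot] at h1
  exact (QuotientGroup.eq_one_iff _).1 h1

/-- `O_{u,s}(H) = O_u(H) S` for a Sylow `s`-subgroup `S` of it. -/
theorem usOf_le_sup [Fact s.Prime] (P : Sylow s (usOf u s H)) :
    usOf u s H ≤ pOf u H ⊔ (P : Subgroup (usOf u s H)).map (usOf u s H).subtype := by
  haveI : ((pOf u H).subgroupOf (usOf u s H)).Normal := (Subgroup.normal_subgroupOf_iff_le_normalizer (pOf_le_usOf H)).2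
    ((usOf_le H).trans (OddOrder.le_normalizer_pOf H))
  have hidx : ∃ m, ((pOf u H).subgroupOf (usOf u s H)).index = s ^ m := by
    obtain ⟨m, hm⟩ := PCore.exists_card_pCore (p := s) (G := H ⧸ pCore u H)
    refine ⟨m, ?_⟩
    rw [← Subgroup.relIndex]
    rw [OddOrder.pOf, usOf, Subgroup.relIndex_map_map_of_injective _ _ H.subtype_injective,
      PCore.relIndex_comap_mk', hm]
  obtain ⟨m, hm⟩ := hidx
  have h := congrArg (Subgroup.map (usOf u s H).subtype) (PCore.sylow_sup_eq_top P _ hm)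
  rw [Subgroup.map_sup, Subgroup.map_subgroupOf_eq_of_le (pOf_le_usOf H), ← MonoidHom.range_eq_map,
    Subgroup.range_subtype] at h
  rw [sup_comm]
  exact h.ge

/-- The basic lemma: `Y` lies in `O_u(T)` if for every `c` in a noncyclic `L` it lies in a `u`-subgroup
normalized by `C_T(c)`. -/
theorem line_le_pOf [hu : Fact u.Prime] {T L Y : Subgroup G} [IsMulCommutative L] (hL : ¬ IsCyclic L)
    (hLT : L ≤ normalizer (T : Set G)) (hcop : (Nat.card L).Coprime (Nat.card T)) (hs : Group.IsSolvable T)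
    (hYT : Y ≤ T) (hY : IsPGroup u Y)
    (h : ∀ c ∈ L, c ≠ 1 → ∃ Q : Subgroup G, IsPGroup u Q ∧ Y ≤ Q ∧ T ⊓ centralizer {c} ≤ normalizer (Q : Set G)) :
    Y ≤ pOf u T := by
  refine le_pOf_of_comm hs hYT hY fun s hs' hne y hy k hk => ?_
  haveI := Fact.mk hs'
  set K := usOf u s T
  have hKT : K ≤ T := usOf_le T
  have hLK : L ≤ normalizer (K : Set G) := hLT.trans (normalizer_le_normalizer_usOf T)
  set M := Signalizer.GenFixed.modCent (pOf u T) y
  suffices hM : K ⊓ M = K from (Signalizer.GenFixed.mem_modCent.1 (hM.ge hk).2).2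
  refine Coprime.eq_of_forall_centralizer_le hL hLK (hcop.coprime_dvd_right (Subgroup.card_dvd_of_le hKT))
    inf_le_left fun c hc hc1 => ?_
  intro x hx
  obtain ⟨Q, hQ, hYQ, hn⟩ := h c hc hc1
  refine ⟨hx.1, Signalizer.GenFixed.mem_modCent.2 ⟨OddOrder.le_normalizer_pOf T (hKT hx.1), ?_⟩⟩
  have hxn := hn ⟨hKT hx.1, hx.2⟩
  have h1 : ⁅y, x⁆ ∈ Q ⊓ K := by
    refine ⟨?_, ?_⟩
    · rw [commutatorElement_def, mul_assoc y, mul_assoc]
      exact Q.mul_mem (hYQ hy) ((mem_normalizer_iff.1 hxn _).1 (Q.inv_mem (hYQ hy)))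
    · rw [commutatorElement_def]
      exact K.mul_mem ((mem_normalizer_iff.1 (le_normalizer_usOf T (hYT hy)) _).1 hx.1) (K.inv_mem hx.1)
  exact le_pOf_of_le_usOf hne.symm (hQ.to_le inf_le_left) inf_le_right h1

/-- A subgroup of `H` centralizing a Sylow `t`-subgroup lies in `O_{t',t}(H)` modulo `O_{t'}(H)`. -/
theorem le_primePOf_of_centralizer_sylow [Fact t.Prime] (hs : Group.IsSolvable H) (P : Sylow t H)
    {Z : Subgroup G} (hZH : Z ≤ H)
    (hZc : Z ≤ centralizer ((P : Subgroup H).map H.subtype : Set G)) : Z ≤ primePOf t H := by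
  intro z hz
  haveI := hs
  refine ⟨⟨z, hZH hz⟩, ?_, rfl⟩
  set f := QuotientGroup.mk' (pPrimeCore t H)
  refine Subgroup.mem_comap.2 (PCore.centralizer_pCore_le_of_isSolvable PCore.pPrimeCore_quotient_self_eq_bot
    (Subgroup.mem_centralizer_iff.2 fun w hw => ?_))
  have hP : pCore t (H ⧸ pPrimeCore t H) ≤ (P : Subgroup H).map f :=
    (PCore.pCore_le_sylow (P.mapSurjective (QuotientGroup.mk'_surjective _))).trans_eq rfl
  obtain ⟨x, hx, rfl⟩ := hP hw
  rw [← map_mul, ← map_mul]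
  congr 1
  exact Subtype.ext (Subgroup.mem_centralizer_iff.1 (hZc hz) x ⟨x, hx, rfl⟩)

/-- A coprime operator centralizing a Sylow `t`-subgroup of a solvable `H` acts trivially modulo `O_{t'}(H)`. -/
theorem commutator_le_primeOf [Fact t.Prime] (hs : Group.IsSolvable H) {C : Subgroup G}
    (hC : C ≤ normalizer (H : Set G)) (hcop : (Nat.card C).Coprime (Nat.card H)) (P : Sylow t H)
    (hCP : C ≤ centralizer ((P : Subgroup H).map H.subtype : Set G)) : ⁅H, C⁆ ≤ primeOf t H := by
  haveI := hs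
  set O := primeOf t H
  set K := primePOf t H
  haveI : (pPrimeCore t H).Normal := inferInstance
  have hHO : H ≤ normalizer (O : Set G) := le_normalizer_primeOf H
  have hCO : C ≤ normalizer (O : Set G) := hC.trans (normalizer_le_normalizer_primeOf H)
  have hPK : K ≤ O ⊔ (P : Subgroup H).map H.subtype := by
    intro k hk
    obtain ⟨x, hx, rfl⟩ := hk
    have hP : pCore t (H ⧸ pPrimeCore t H) ≤ (P : Subgroup H).map (QuotientGroup.mk' (pPrimeCore t H)) :=
      (PCore.pCore_le_sylow (P.mapSurjective (QuotientGroup.mk'_surjective _))).trans_eq rfl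
    obtain ⟨y, hy, e⟩ := hP hx
    have : y⁻¹ * x ∈ pPrimeCore t H := QuotientGroup.eq.1 e
    rw [show (H.subtype x : G) = H.subtype y * H.subtype (y⁻¹ * x) by rw [← map_mul, mul_inv_cancel_left]]
    exact Subgroup.mul_mem _ (Subgroup.mem_sup_right ⟨y, hy, rfl⟩) (Subgroup.mem_sup_left ⟨_, this, rfl⟩)
  have hKC : ⁅K, C⁆ ≤ O := by
    refine Subgroup.commutator_le.2 fun k hk c hc => ?_
    obtain ⟨a, ha, b, hb, rfl⟩ := (Coprime.mem_sup_iff_of_le_normalizer'
      (H := (P : Subgroup H).map H.subtype) (N := O) ((Subgroup.map_subtype_le _).trans hHO)).1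
      (show k ∈ (P : Subgroup H).map H.subtype ⊔ O by rw [sup_comm]; exact hPK hk)
    have hbc : b * c = c * b := (Subgroup.mem_centralizer_iff.1 (hCP hc) b hb)
    have : ⁅a * b, c⁆ = a * (c * a⁻¹ * c⁻¹) := by
      rw [commutatorElement_def, mul_assoc a b c, hbc]; group
    rw [this]
    exact O.mul_mem ha ((mem_normalizer_iff.1 (hCO hc) _).1 (O.inv_mem ha))
  have hKH : K ≤ H := primePOf_le H
  have hHK : H ≤ normalizer (K : Set G) := le_normalizer_primePOf H
  have hM : ⁅⁅H, C⁆, K⁆ ≤ O := by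
    refine Coprime.three_subgroup_le hHO hCO (hKH.trans hHO) ?_ ?_
    · exact (Subgroup.commutator_mono ((Subgroup.commutator_comm C K).le.trans hKC) le_rfl).trans
        (Coprime.commutator_le_left_of_le_normalizer hHO)
    · exact (Subgroup.commutator_mono (Coprime.commutator_le_left_of_le_normalizer hHK) le_rfl).trans hKC
  have hHC : ⁅H, C⁆ ≤ H := Coprime.commutator_le_left_of_le_normalizer hC
  have hMK : ⁅H, C⁆ ≤ K := by
    intro m hm
    refine ⟨⟨m, hHC hm⟩, Subgroup.mem_comap.2 ?_, rfl⟩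
    refine PCore.centralizer_pCore_le_of_isSolvable PCore.pPrimeCore_quotient_self_eq_bot
      (Subgroup.mem_centralizer_iff.2 fun w hw => ?_)
    obtain ⟨k, rfl⟩ := QuotientGroup.mk'_surjective _ w
    obtain ⟨o, ho, e⟩ := hM (Subgroup.commutator_mem_commutator hm (⟨k, hw, rfl⟩ : (k : G) ∈ K))
    have he : ⁅(⟨m, hHC hm⟩ : H), k⁆ = o := Subtype.ext (by simpa [commutatorElement_def] using e.symm)
    have h1 : QuotientGroup.mk' (pPrimeCore t H) ⁅(⟨m, hHC hm⟩ : H), k⁆ = 1 :=
      (QuotientGroup.eq_one_iff _).2 (he ▸ ho)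
    rw [map_commutatorElement, commutatorElement_eq_one_iff_mul_comm] at h1
    exact h1.symm
  exact (Coprime.commutator_commutator_eq hC hcop (Or.inr hs)).ge.trans
    ((Subgroup.commutator_mono hMK le_rfl).trans hKC)

/-- `O_{t'}(C_L(Q)) ≤ O_{t'}(L)`. -/
theorem le_primeOf_of_centralizer [Fact t.Prime] {L Q Y : Subgroup G} (hs : Group.IsSolvable L) (hQL : Q ≤ L)
    (hQ : IsPGroup t Q) (hYL : Y ≤ L) (hYQ : Y ≤ centralizer (Q : Set G))
    (hn : L ⊓ centralizer (Q : Set G) ≤ normalizer (Y : Set G)) (hY : (Nat.card Y).Coprime t) :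
    Y ≤ primeOf t L := by
  haveI := hs
  set Q' := Q.subgroupOf L
  set Y' := Y.subgroupOf L
  have hY'C : Y' ≤ centralizer (Q' : Set L) := fun y hy => Subgroup.mem_centralizer_iff.2 fun q hq =>
    Subtype.ext (Subgroup.mem_centralizer_iff.1 (hYQ hy) q hq)
  have hC : (centralizer (Q' : Set L)).map L.subtype ≤ L ⊓ centralizer (Q : Set G) := by
    rintro _ ⟨c, hc, rfl⟩
    exact ⟨c.2, Subgroup.mem_centralizer_iff.2 fun q hq =>
      congrArg Subtype.val (Subgroup.mem_centralizer_iff.1 hc ⟨q, hQL hq⟩ hq)⟩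
  haveI : (Y'.subgroupOf (centralizer (Q' : Set L))).Normal := by
    refine (Subgroup.normal_subgroupOf_iff_le_normalizer hY'C).2 fun c hc => mem_normalizer_iff.2 fun y => ?_
    exact mem_normalizer_iff.1 (hn (hC ⟨c, hc, rfl⟩)) (y : G)
  have h1 : Y' ≤ pPrimeCore t L := by
    have h := Subgroup.map_mono (f := (centralizer (Q' : Set L)).subtype)
      (PCore.le_pPrimeCore (p := t) (N := Y'.subgroupOf (centralizer (Q' : Set L)))
        (by rw [Coprime.card_subgroupOf hY'C, Coprime.card_subgroupOf hYL]; exact hY))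
    rw [Subgroup.map_subgroupOf_eq_of_le hY'C] at h
    refine h.trans ?_
    have e := PCore.map_pPrimeCore_centralizer (G := L) (p := t) (P := Q')
      (PCore.isPConstrained_of_isPSolvable PCore.isPSolvable_of_isSolvable)
      (hQ.comap_of_injective L.subtype L.subtype_injective)
    exact e.le.trans inf_le_left
  exact (Subgroup.map_subgroupOf_eq_of_le hYL).ge.trans (Subgroup.map_mono h1)

/-- Normalizers grow: a subgroup `Q` of an `r`-group `P` containing `P ∩ N(Q)` is `P`. -/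
theorem le_of_inf_normalizer_le {r : ℕ} [Fact r.Prime] {P Q : Subgroup G} (hP : IsPGroup r P) (hQP : Q ≤ P)
    (h : P ⊓ normalizer (Q : Set G) ≤ Q) : P ≤ Q := by
  by_contra hne
  haveI := hP.isNilpotent
  have hlt : Q.subgroupOf P < ⊤ := lt_top_iff_ne_top.2 fun e => hne (Subgroup.subgroupOf_eq_top.1 e)
  obtain ⟨x, hx, hxQ⟩ := SetLike.exists_of_lt (Group.normalizerCondition_of_isNilpotent _ hlt)
  refine hxQ (h ⟨x.2, mem_normalizer_iff.2 fun q => ⟨fun hq => ?_, fun hq => ?_⟩⟩)
  · exact (mem_normalizer_iff.1 hx ⟨q, hQP hq⟩).1 hq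
  · have hqP : q ∈ P := by simpa [mul_assoc] using P.mul_mem (P.mul_mem (P.inv_mem x.2) (hQP hq)) x.2
    exact (mem_normalizer_iff.1 hx ⟨q, hqP⟩).2 hq

theorem zq_le (S : Subgroup G) : zq v S ≤ S := (PGroup.omegaOne_le _).trans inf_le_left

theorem le_centralizer_zq (S : Subgroup G) : S ≤ centralizer (zq v S : Set G) :=
  Subgroup.le_centralizer_iff.1 ((PGroup.omegaOne_le _).trans inf_le_right)

theorem pow_eq_one_of_mem_zq {S : Subgroup G} {z : G} (hz : z ∈ zq v S) : z ^ v = 1 := by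
  haveI hc : IsMulCommutative (S ⊓ centralizer (S : Set G) : Subgroup G) := ⟨⟨fun a b => Subtype.ext
    (Subgroup.mem_centralizer_iff.1 b.2.2 (a : G) a.2.1)⟩⟩
  induction hz using Subgroup.closure_induction with
  | mem x hx => exact hx.2
  | one => simp
  | mul x y hx hy ihx ihy =>
    have hx' := (PGroup.omegaOne_le (p := v) _) hx
    have hy' := (PGroup.omegaOne_le (p := v) _) hy
    have hcm : Commute x y := (Subgroup.mem_centralizer_iff.1 hy'.2 x hx'.1)
    rw [hcm.mul_pow, ihx, ihy, one_mul]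
  | inv x _ ih => rw [inv_pow, ih, inv_one]

theorem mem_zq {S : Subgroup G} {z : G} (h1 : z ∈ S) (h2 : z ∈ centralizer (S : Set G)) (h3 : z ^ v = 1) :
    z ∈ zq v S := PGroup.mem_omegaOne_of_pow_eq_one ⟨h1, h2⟩ h3

theorem normalizer_le_normalizer_zq (S : Subgroup G) :
    normalizer (S : Set G) ≤ normalizer (zq v S : Set G) := by
  intro g hg
  rw [Subgroup.mem_normalizer_iff_map_conj_eq]
  refine Subgroup.eq_of_le_of_card_ge ?_ (Subgroup.card_map_of_injective (MulAut.conj g).injective).ge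
  have hS : S.map (MulAut.conj g).toMonoidHom = S := Subgroup.mem_normalizer_iff_map_conj_eq.mp hg
  refine (PGroup.map_omegaOne_le _ _).trans (PGroup.omegaOne_mono ?_)
  rw [Subgroup.map_le_iff_le_comap]
  intro x hx
  have h1 : g * x * g⁻¹ ∈ S := (mem_normalizer_iff.1 hg x).1 hx.1
  refine ⟨h1, Subgroup.mem_centralizer_iff.2 fun y hy => ?_⟩
  have hy' : g⁻¹ * y * g ∈ S := (Subgroup.mem_normalizer_iff''.1 hg y).1 hy
  have h2 := Subgroup.mem_centralizer_iff.1 hx.2 _ hy'
  show y * (g * x * g⁻¹) = g * x * g⁻¹ * y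
  calc y * (g * x * g⁻¹) = g * (g⁻¹ * y * g * x) * g⁻¹ := by group
    _ = g * (x * (g⁻¹ * y * g)) * g⁻¹ := by rw [h2]
    _ = g * x * g⁻¹ * y := by group

theorem zq_ne_bot [hv : Fact v.Prime] {S : Subgroup G} (hS : IsPGroup v S) (hne : S ≠ ⊥) : zq v S ≠ ⊥ := by
  haveI := (Subgroup.nontrivial_iff_ne_bot _).2 hne
  haveI := hS.center_nontrivial
  have hd : v ∣ Nat.card (Subgroup.center S) := by
    obtain ⟨n, hn⟩ := (hS.to_subgroup (Subgroup.center S)).exists_card_eq
    rw [hn]
    refine dvd_pow_self v fun h0 => ?_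
    rw [h0, pow_zero] at hn
    exact (Finite.one_lt_card (α := Subgroup.center S)).ne' hn
  obtain ⟨z, hz⟩ := exists_prime_orderOf_dvd_card' v hd
  intro h
  have hz1 : ((z : S) : G) ∈ zq v S := mem_zq (z : S).2 (Subgroup.mem_centralizer_iff.2 fun y hy =>
    congrArg Subtype.val (Subgroup.mem_center_iff.1 z.2 ⟨y, hy⟩))
    (by rw [← Subgroup.coe_pow, ← Subgroup.coe_pow, ← hz, pow_orderOf_eq_one]; rfl)
  rw [h, Subgroup.mem_bot] at hz1
  rw [show z = 1 from Subtype.ext (Subtype.ext hz1), orderOf_one] at hz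
  exact hv.out.ne_one hz.symm

/-- A `u`-subgroup centralizing all `O_s(H)` lies in `O_u(H)`. -/
theorem le_pOf_of_centralizer_cores [Fact u.Prime] (hs : Group.IsSolvable H) {Y : Subgroup G} (hYH : Y ≤ H)
    (hY : IsPGroup u Y) (h : ∀ s : ℕ, s.Prime → Y ≤ centralizer (pOf s H : Set G)) : Y ≤ pOf u H := by
  haveI := hs
  intro y hy
  have hc : y ∈ centralizer (fittingOf H : Set G) := by
    have := Subgroup.le_centralizer_iff.1 (OddOrder.fittingOf_le_of_forall (H := H)
      (D := centralizer (Y : Set G)) fun s hs' => Subgroup.le_centralizer_iff.1 (h s hs'))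
    exact this hy
  obtain ⟨n, hn⟩ := hY ⟨y, hy⟩
  exact OddOrder.mem_pOf (OddOrder.inf_centralizer_fittingOf_le H ⟨hYH hy, hc⟩)
    (by simpa using congrArg Subtype.val hn)

theorem pOf_le_of_forall_ne_bot (u : ℕ) [Fact u.Prime] (h : ∀ s : ℕ, s.Prime → s ≠ u → pOf s H = ⊥) :
    fittingOf H ≤ pOf u H :=
  OddOrder.fittingOf_le_of_forall fun s hs => by
    rcases eq_or_ne s u with rfl | hne
    · exact le_rfl
    · rw [h s hs hne]; exact bot_le

theorem inf_centralizer_pOf_le [Fact u.Prime] (hs : Group.IsSolvable H)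
    (h : ∀ s : ℕ, s.Prime → s ≠ u → pOf s H = ⊥) : H ⊓ centralizer (pOf u H : Set G) ≤ pOf u H := by
  haveI := hs
  exact ((inf_le_inf_left _ (Subgroup.centralizer_le (pOf_le_of_forall_ne_bot u h))).trans
    (OddOrder.inf_centralizer_fittingOf_le H)).trans (pOf_le_of_forall_ne_bot u h)

theorem eq_bot_of_forall_pOf (hs : Group.IsSolvable H) (h : ∀ s : ℕ, s.Prime → pOf s H = ⊥) : H = ⊥ := by
  haveI := hs
  have hF : fittingOf H ≤ ⊥ := OddOrder.fittingOf_le_of_forall fun s hs' => (h s hs').le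
  have h1 := OddOrder.inf_centralizer_fittingOf_le H
  rw [le_bot_iff.1 hF] at h1
  exact le_bot_iff.1 (le_trans (le_inf le_rfl (fun x _ => Subgroup.mem_centralizer_iff.2 fun y hy => by
    rw [Subgroup.mem_bot.1 hy, one_mul, mul_one])) h1)

end Cfsg.Agent.SSFT
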