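import Cfsg.Agent.S3765
import Cfsg.Agent.Lib.SSFT.Cores
import Cfsg.Agent.Lib.SSFT.Basic
import Cfsg.Agent.Lib.Coprime.Quotient
import Cfsg.Agent.Lib.Coprime.Commutator
import Cfsg.Agent.Lib.PGroup.Frattini

/-!
# The Bender lemma

`bl`: if `c` of order dividing the prime `p` acts on the solvable `p'`-group `T` and on its `t`-subgroup `U`, which
is normalised by `C_T(c)`, then `[U, c] ≤ O_t(T)` (for `t = 2` with `U` abelian).
-/

set_option autoImplicit false
set_option linter.style.haveILetI false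

namespace Cfsg.Agent.SSFT

open Cfsg
open Subgroup (centralizer normalizer zpowers)
open scoped commutatorElement
open Cfsg.Agent.OddOrder (pOf)

universe w
variable {G : Type w} [Group G] [Finite G] {p s t : ℕ} [Fact p.Prime] [Fact s.Prime] [Fact t.Prime]

omit [Finite G] [Fact p.Prime] in
theorem mem_centralizer_of_pow {c : G} {C : Subgroup G} (hord : orderOf c = p) {m : ℕ} (hm : m.Coprime p)
    (h : c ^ m ∈ C) : c ∈ C := by
  obtain ⟨j, hj⟩ := exists_pow_eq_self_of_coprime (x := c) (n := m) (hord ▸ hm)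
  exact hj ▸ pow_mem h j

omit [Finite G] in
theorem exists_pow_mul_mem {u g : G} {C : Subgroup G} (hu : u ∈ normalizer (C : Set G)) (hg : g ∈ C) :
    ∀ m : ℕ, ∃ g' ∈ C, (u * g) ^ m = u ^ m * g'
  | 0 => ⟨1, one_mem C, by simp⟩
  | m + 1 => by
    obtain ⟨g', hg', e⟩ := exists_pow_mul_mem hu hg m
    refine ⟨u⁻¹ * g' * u * g, mul_mem ?_ hg, ?_⟩
    · exact (Subgroup.mem_normalizer_iff''.1 hu g').1 hg'
    · rw [pow_succ, e, pow_succ]
      group

omit [Fact s.Prime] [Fact t.Prime] in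
/-- The fixed-point-free module case. -/
theorem bl_module {U V : Subgroup G} {c : G} (hc : c ^ p = 1) (hs : s.Prime) (ht : t.Prime) (hst : s ≠ t)
    (hsp : s ≠ p) (htp : t ≠ p) (hV : IsElementaryAbelian s V) (hU : IsPGroup t U)
    (hcV : c ∈ normalizer (V : Set G)) (hcU : c ∈ normalizer (U : Set G))
    (hUV : U ≤ normalizer (V : Set G)) (hfpf : V ⊓ centralizer {c} = ⊥)
    (hex : t = 2 → IsMulCommutative U) : ⁅U, zpowers c⁆ ≤ centralizer (V : Set G) := by
  haveI := Fact.mk hs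
  haveI := Fact.mk ht
  rcases eq_or_ne c 1 with rfl | hc1
  · rw [Subgroup.zpowers_one_eq_bot, Subgroup.commutator_bot_right]
    exact bot_le
  have hord : orderOf c = p := orderOf_eq_prime hc hc1
  have hYU : ⁅U, zpowers c⁆ ≤ U := Coprime.commutator_le_left_of_le_normalizer (Subgroup.zpowers_le.2 hcU)
  rcases eq_or_ne V ⊥ with hV1 | hV1
  · intro x _
    rw [hV1]
    exact Subgroup.mem_centralizer_iff.2 fun v hv => by
      rw [Subgroup.mem_bot.1 hv, one_mul, mul_one]
  by_contra hcon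
  set U₀ := U ⊓ centralizer (V : Set G) with hU₀
  set M := normalizer (U₀ : Set G) with hM
  have hcC : c ∈ normalizer ((centralizer (V : Set G) : Subgroup G) : Set G) :=
    le_normalizer_centralizer' (Subgroup.zpowers_le.2 hcV) (Subgroup.mem_zpowers c)
  have hcM : c ∈ M := Coprime.le_normalizer_inf_of_le (Subgroup.zpowers_le.2 hcU)
    (Subgroup.zpowers_le.2 hcC) (Subgroup.mem_zpowers c)
  have hUM : U ≤ M := Coprime.le_normalizer_inf_of_le Subgroup.le_normalizer (le_normalizer_centralizer' hUV)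
  have hVM : V ≤ M := (Subgroup.le_centralizer_iff.1 (inf_le_right : U₀ ≤ _)).trans
    (Subgroup.centralizer_le_normalizer _)
  have hUC : U ⊓ V = ⊥ := by
    refine PCore.eq_bot_of_isPGroup_of_coprime (hU.to_le inf_le_left) ?_
    have hVs : IsPGroup s V := fun a => ⟨1, Subtype.ext (by simpa using hV.2 a a.2)⟩
    obtain ⟨n, hn⟩ := IsPGroup.iff_card.mp (hVs.to_le (inf_le_right : U ⊓ V ≤ V))
    rw [hn]
    exact Nat.Coprime.pow_left n ((Nat.coprime_primes hs ht).2 hst)
  have hone : ∀ x, x ∈ U₀ → x ∈ V → x = 1 := fun x h1 h2 =>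
    Subgroup.mem_bot.1 (hUC ▸ Subgroup.mem_inf.2 ⟨h1.1, h2⟩)
  haveI : (U₀.subgroupOf M).Normal :=
    (Subgroup.normal_subgroupOf_iff_le_normalizer (inf_le_left.trans hUM)).2 le_rfl
  set f := QuotientGroup.mk' (U₀.subgroupOf M) with hf
  have hker : ∀ x : ↥M, f x = 1 ↔ (x : G) ∈ U₀ := fun x => (QuotientGroup.eq_one_iff x).trans Iff.rfl
  have hXne : f ⟨c, hcM⟩ ≠ 1 := fun h => by
    have h1 : IsPGroup t U₀ := hU.to_le inf_le_left
    obtain ⟨k, hk⟩ := h1 ⟨c, (hker _).1 h⟩
    have h2 : orderOf c ∣ t ^ k := orderOf_dvd_of_pow_eq_one (by simpa using congrArg Subtype.val hk)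
    rw [hord] at h2
    exact htp ((Nat.prime_dvd_prime_iff_eq Fact.out ht).1 ((Fact.out : p.Prime).dvd_of_dvd_pow h2)).symm
  have hfp : (f ⟨c, hcM⟩) ^ p = 1 := by
    rw [← map_pow, show (⟨c, hcM⟩ : ↥M) ^ p = 1 from Subtype.ext hc, map_one]
  set X := zpowers (f ⟨c, hcM⟩) with hX
  set Q := (U.subgroupOf M).map f with hQ
  set W := (V.subgroupOf M).map f with hW
  have hXcard : Nat.card X = p := by rw [hX, Nat.card_zpowers, orderOf_eq_prime hfp hXne]
  have hQn : X ≤ normalizer (Q : Set _) := by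
    rw [hX, ← MonoidHom.map_zpowers]
    refine (Subgroup.map_mono (Subgroup.zpowers_le.2 ?_)).trans (Subgroup.le_normalizer_map f)
    exact Subgroup.mem_normalizer_iff.2 fun x => Subgroup.mem_normalizer_iff.1 hcU (x : G)
  have hWn : ∀ x : ↥M, (x : G) ∈ normalizer (V : Set G) → f x ∈ normalizer (W : Set _) := fun x hx =>
    Subgroup.le_normalizer_map f (Subgroup.mem_map_of_mem f
      (Subgroup.mem_normalizer_iff.2 fun y => Subgroup.mem_normalizer_iff.1 hx (y : G)))
  have hXfaith : X ⊓ centralizer (Q : Set _) = ⊥ := by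
    haveI : Fact (Nat.card X).Prime := ⟨hXcard ▸ (Fact.out : p.Prime)⟩
    rcases Subgroup.eq_bot_or_eq_top_of_prime_card ((centralizer (Q : Set _)).subgroupOf X) with h | h
    · rw [inf_comm, ← disjoint_iff, ← Subgroup.subgroupOf_eq_bot]
      exact h
    exfalso
    refine hcon ((Subgroup.commutator_le.2 fun u hu x hx => ?_).trans (inf_le_right : U₀ ≤ _))
    have hxM : x ∈ M := Subgroup.zpowers_le.2 hcM hx
    have h1 : f ⟨x, hxM⟩ ∈ X := by
      obtain ⟨i, rfl⟩ := Subgroup.mem_zpowers_iff.1 hx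
      exact Subgroup.mem_zpowers_iff.2 ⟨i, by rw [← map_zpow]; rfl⟩
    have h2 := Subgroup.subgroupOf_eq_top.1 h h1
    have h3 : f ⁅(⟨u, hUM hu⟩ : ↥M), ⟨x, hxM⟩⁆ = 1 := by
      rw [map_commutatorElement, commutatorElement_eq_one_iff_mul_comm]
      exact Subgroup.mem_centralizer_iff.1 h2 _ (Subgroup.mem_map_of_mem f hu)
    exact (hker _).1 h3
  have hWel : IsElementaryAbelian s W :=
    PGroup.isElementaryAbelian_map (PGroup.isElementaryAbelian_comap hV M.subtype_injective) f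
  have hW1 : W ≠ ⊥ := fun h => hV1 ((Subgroup.eq_bot_iff_forall V).2 fun v hv =>
    hone v ((hker ⟨v, hVM hv⟩).1 (Subgroup.mem_bot.1 (h ▸ Subgroup.mem_map_of_mem f hv))) hv)
  have hXW : X ≤ normalizer (W : Set _) := Subgroup.zpowers_le.2 (hWn _ hcV)
  have hQW : Q ≤ normalizer (W : Set _) := by
    rintro _ ⟨x, hx, rfl⟩
    exact hWn _ (hUV hx)
  have hfaith : (X ⊔ Q) ⊓ centralizer (W : Set _) = ⊥ := by
    rw [eq_bot_iff]
    rintro y ⟨hy, hyc⟩
    obtain ⟨q, hq, x, hx, rfl⟩ := (Coprime.mem_sup_iff_of_le_normalizer' hQn).mp hy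
    obtain ⟨u, hu, rfl⟩ := hq
    obtain ⟨i, rfl⟩ := Subgroup.mem_zpowers_iff.1 hx
    rw [← map_zpow, ← map_mul] at hyc ⊢
    set d : ↥M := (⟨c, hcM⟩ : ↥M) ^ i with hd
    have hdV : (d : G) ∈ normalizer (V : Set G) := by
      rw [hd, Subgroup.coe_zpow]; exact zpow_mem hcV i
    have hg : ((u * d : ↥M) : G) ∈ centralizer (V : Set G) := by
      refine Subgroup.mem_centralizer_iff.2 fun v hv => ?_
      have h1 : f ⁅(⟨v, hVM hv⟩ : ↥M), u * d⁆ = 1 := by
        rw [map_commutatorElement, commutatorElement_eq_one_iff_mul_comm]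
        exact Subgroup.mem_centralizer_iff.1 hyc _ (Subgroup.mem_map_of_mem f hv)
      have h2 : ⁅v, ((u * d : ↥M) : G)⁆ ∈ V := by
        have hn : ((u * d : ↥M) : G) ∈ normalizer (V : Set G) := mul_mem (hUV hu) hdV
        rw [commutatorElement_def, mul_assoc, mul_assoc]
        refine mul_mem hv ?_
        rw [← mul_assoc]
        exact (Subgroup.mem_normalizer_iff.1 hn v⁻¹).1 (inv_mem hv)
      exact commutatorElement_eq_one_iff_mul_comm.1 (hone _ ((hker _).1 h1) h2)
    rcases eq_or_ne (d : G) 1 with hd1 | hd1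
    · rw [show d = 1 from Subtype.ext hd1, mul_one] at hg ⊢
      exact Subgroup.mem_bot.2 ((hker u).2 ⟨hu, hg⟩)
    exfalso
    have hdord : orderOf (d : G) = p := orderOf_eq_prime (by
      rw [hd, Subgroup.coe_zpow, ← zpow_natCast, ← zpow_mul, mul_comm, zpow_mul, zpow_natCast, hc,
        one_zpow]) hd1
    obtain ⟨k, hk⟩ := hU ⟨(u : G), hu⟩
    have hk1 : (u : G) ^ t ^ k = 1 := by simpa using congrArg Subtype.val hk
    obtain ⟨g', hg', e⟩ := exists_pow_mul_mem (u := ((u : G))⁻¹) (g := ((u * d : ↥M) : G))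
      (le_normalizer_centralizer' hUV (inv_mem hu)) hg (t ^ k)
    rw [Subgroup.coe_mul, inv_mul_cancel_left, inv_pow, hk1, inv_one, one_mul] at e
    have hdC : (d : G) ∈ centralizer (V : Set G) := mem_centralizer_of_pow hdord
      (Nat.Coprime.pow_left k ((Nat.coprime_primes ht Fact.out).2 htp)) (e ▸ hg')
    have hcd : c ∈ zpowers (d : G) := by
      have h1 : (d : G) ∈ zpowers c := by
        rw [hd, Subgroup.coe_zpow]; exact Subgroup.zpow_mem_zpowers c i
      have h2 : zpowers (d : G) = zpowers c := Subgroup.eq_of_le_of_card_ge (Subgroup.zpowers_le.2 h1)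
        (by rw [Nat.card_zpowers, Nat.card_zpowers, hord, hdord])
      exact h2 ▸ Subgroup.mem_zpowers c
    refine hV1 (le_bot_iff.1 ?_)
    rw [← hfpf]
    refine le_inf le_rfl fun v hv => Subgroup.mem_centralizer_singleton_iff.2 ?_
    exact Subgroup.mem_centralizer_iff.1 (Subgroup.zpowers_le.2 hdC hcd) v hv
  have hQp : IsPGroup t Q := (hU.comap_of_injective M.subtype M.subtype_injective).map f
  refine Cfsg.Agent.S3765.result hs ht Fact.out hst hsp htp X Q W hXcard hQp hQn hXfaith hWel hW1 hXW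
    hQW hfaith (fun h2 _ => ?_) ?_
  · haveI := hex h2
    exact Subgroup.map_isMulCommutative _ f
  · rw [eq_bot_iff]
    rintro y ⟨hy, hyc⟩
    obtain ⟨v, hv, rfl⟩ := hy
    have h1 : f ⁅v, (⟨c, hcM⟩ : ↥M)⁆ = 1 := by
      rw [map_commutatorElement, commutatorElement_eq_one_iff_mul_comm]
      exact (Subgroup.mem_centralizer_iff.1 hyc _ (Subgroup.mem_zpowers _)).symm
    have h2 : ⁅(v : G), c⁆ ∈ V := by
      rw [commutatorElement_def, mul_assoc, mul_assoc]
      refine mul_mem hv ?_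
      rw [← mul_assoc]
      exact (Subgroup.mem_normalizer_iff.1 hcV _).1 (inv_mem hv)
    have h3 : (v : G) ∈ V ⊓ centralizer {c} := ⟨hv, Subgroup.mem_centralizer_singleton_iff.2
      (commutatorElement_eq_one_iff_mul_comm.1 (hone _ ((hker _).1 h1) h2))⟩
    rw [hfpf, Subgroup.mem_bot] at h3
    rw [show v = 1 from Subtype.ext h3, map_one]
    exact one_mem _

omit [Fact s.Prime] [Fact t.Prime] in
/-- `[U, c]` centralises an elementary abelian group on which `U` centralises the fixed points of `c`. -/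
theorem bl_abelian {U V : Subgroup G} {c : G} (hc : c ^ p = 1) (hs : s.Prime) (ht : t.Prime) (hst : s ≠ t)
    (hsp : s ≠ p) (htp : t ≠ p) (hV : IsElementaryAbelian s V) (hU : IsPGroup t U)
    (hcV : c ∈ normalizer (V : Set G)) (hcU : c ∈ normalizer (U : Set G))
    (hUV : U ≤ normalizer (V : Set G)) (hfix : V ⊓ centralizer {c} ≤ centralizer (U : Set G))
    (hex : t = 2 → IsMulCommutative U) : ⁅U, zpowers c⁆ ≤ centralizer (V : Set G) := by
  haveI := Fact.mk hs
  haveI := Fact.mk ht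
  haveI : IsMulCommutative V := hV.1
  have hVs : IsPGroup s V := fun a => ⟨1, Subtype.ext (by simpa using hV.2 a a.2)⟩
  have hcop : (Nat.card U).Coprime (Nat.card V) :=
    IsPGroup.coprime_card_of_ne t s hst.symm U V hU hVs
  have hV'V : ⁅V, U⁆ ≤ V := Coprime.commutator_le_left_of_le_normalizer hUV
  have hV' : IsElementaryAbelian s (⁅V, U⁆ : Subgroup G) := ⟨⟨⟨fun a b =>
    Subtype.ext (by simpa using congrArg Subtype.val (mul_comm' (⟨_, hV'V a.2⟩ : V) ⟨_, hV'V b.2⟩))⟩⟩,
    fun x hx => hV.2 x (hV'V hx)⟩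
  have hUV' : U ≤ normalizer ((⁅V, U⁆ : Subgroup G) : Set G) := Subgroup.normalizer_commutator_ge_right V U
  have hcV' : c ∈ normalizer ((⁅V, U⁆ : Subgroup G) : Set G) := by
    rw [Subgroup.mem_normalizer_iff_map_conj_eq, Subgroup.map_commutator,
      Subgroup.mem_normalizer_iff_map_conj_eq.mp hcV, Subgroup.mem_normalizer_iff_map_conj_eq.mp hcU]
  have hfpf : ⁅V, U⁆ ⊓ centralizer {c} = ⊥ := by
    rw [eq_bot_iff, ← Coprime.inf_centralizer_inf_commutator_eq_bot hUV hcop]
    exact fun x hx => ⟨⟨hV'V hx.1, hfix ⟨hV'V hx.1, hx.2⟩⟩, hx.1⟩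
  have h1 := bl_module hc hs ht hst hsp htp hV' hU hcV' hcU hUV' hfpf hex
  have hYU : ⁅U, zpowers c⁆ ≤ U := Coprime.commutator_le_left_of_le_normalizer (Subgroup.zpowers_le.2 hcU)
  exact Coprime.le_centralizer_of_series (hYU.trans hUV)
    (hcop.coprime_dvd_left (Subgroup.card_dvd_of_le hYU))
    (Or.inr (Group.isSolvable_of_comm fun x y => mul_comm' x y))
    (Subgroup.commutator_mono le_rfl hYU) h1

omit [Fact s.Prime] [Fact t.Prime] in
/-- `[U, c]` centralises an `s`-group on which `U` centralises the fixed points of `c`. -/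
theorem bl_pgroup {U P : Subgroup G} {c : G} (hc : c ^ p = 1) (hs : s.Prime) (ht : t.Prime) (hst : s ≠ t)
    (hsp : s ≠ p) (htp : t ≠ p) (hP : IsPGroup s P) (hU : IsPGroup t U)
    (hcP : c ∈ normalizer (P : Set G)) (hcU : c ∈ normalizer (U : Set G))
    (hUP : U ≤ normalizer (P : Set G)) (hfix : P ⊓ centralizer {c} ≤ centralizer (U : Set G))
    (hex : t = 2 → IsMulCommutative U) : ⁅U, zpowers c⁆ ≤ centralizer (P : Set G) := by
  haveI := Fact.mk hs
  haveI := Fact.mk ht
  set Φ := (frattini ↥P).map P.subtype with hΦ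
  have hΦP : Φ ≤ P := Subgroup.map_subtype_le _
  set M := normalizer (Φ : Set G) with hM
  have hPn : normalizer (P : Set G) ≤ M :=
    Components.normalizer_le_normalizer_map_of_characteristic P _
  have hPM : P ≤ M := Subgroup.le_normalizer.trans hPn
  have hUM : U ≤ M := hUP.trans hPn
  have hcM : c ∈ M := hPn hcP
  haveI : (Φ.subgroupOf M).Normal :=
    (Subgroup.normal_subgroupOf_iff_le_normalizer (hΦP.trans hPM)).2 le_rfl
  set f := QuotientGroup.mk' (Φ.subgroupOf M) with hf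
  set c' : ↥M := ⟨c, hcM⟩ with hc'
  have hP' : IsPGroup s (P.subgroupOf M) := hP.comap_of_injective M.subtype M.subtype_injective
  have hU' : IsPGroup t (U.subgroupOf M) := hU.comap_of_injective M.subtype M.subtype_injective
  have hVel : IsElementaryAbelian s ((P.subgroupOf M).map f) := by
    have hmem : ∀ (z : ↥M) (hz : (z : G) ∈ P), (⟨z, hz⟩ : ↥P) ∈ frattini ↥P → f z = 1 := fun z hz h =>
      (QuotientGroup.eq_one_iff z).2 (show (z : G) ∈ Φ from ⟨_, h, rfl⟩)
    refine ⟨⟨⟨fun a b => ?_⟩⟩, fun a ha => ?_⟩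
    · obtain ⟨_, x, hx, rfl⟩ := a
      obtain ⟨_, y, hy, rfl⟩ := b
      refine Subtype.ext ?_
      show f x * f y = f y * f x
      rw [← commutatorElement_eq_one_iff_mul_comm, ← map_commutatorElement]
      have hP1 : ((⁅x, y⁆ : ↥M) : G) ∈ P :=
        mul_mem (mul_mem (mul_mem hx hy) (inv_mem hx)) (inv_mem hy)
      refine hmem _ hP1 ?_
      exact PGroup.commutator_le_frattini hP (Subgroup.commutator_mem_commutator
        (Subgroup.mem_top (⟨x, hx⟩ : ↥P)) (Subgroup.mem_top (⟨y, hy⟩ : ↥P)))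
    · obtain ⟨x, hx, rfl⟩ := ha
      rw [← map_pow]
      exact hmem _ (pow_mem (show (x : G) ∈ P from hx) s) (PGroup.pow_mem_frattini hP ⟨x, hx⟩)
  have hcop : (Nat.card (zpowers c')).Coprime (Nat.card (P.subgroupOf M)) := by
    refine IsPGroup.coprime_card_of_ne p s hsp.symm _ _ ?_ hP'
    exact fun x => ⟨1, by
      obtain ⟨i, hi⟩ := Subgroup.mem_zpowers_iff.1 x.2
      refine Subtype.ext ?_
      rw [Subgroup.coe_pow, pow_one, ← hi, ← zpow_natCast, ← zpow_mul, mul_comm, zpow_mul, zpow_natCast,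
        show c' ^ p = 1 from Subtype.ext hc, one_zpow, Subgroup.coe_one]⟩
  have hnorm : ∀ (X : Subgroup G) (x : ↥M), (x : G) ∈ normalizer (X : Set G) →
      x ∈ normalizer ((X.subgroupOf M : Subgroup ↥M) : Set ↥M) := fun X x hx =>
    Subgroup.mem_normalizer_iff.2 fun y => Subgroup.mem_normalizer_iff.1 hx (y : G)
  have hfix' : (P.subgroupOf M).map f ⊓ centralizer {f c'} ≤
      centralizer (((U.subgroupOf M).map f : Subgroup _) : Set _) := by
    intro y hy
    have h1 : y ∈ (P.subgroupOf M ⊓ centralizer ((zpowers c' : Subgroup ↥M) : Set ↥M)).map f := by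
      rw [Coprime.map_inf_centralizer f (Subgroup.zpowers_le.2 (hnorm P c' hcP)) hcop
        (Or.inl (Group.isSolvable_of_comm fun x y => mul_comm' x y))]
      refine ⟨hy.1, Subgroup.mem_centralizer_iff.2 ?_⟩
      rintro _ ⟨z, hz, rfl⟩
      obtain ⟨i, rfl⟩ := Subgroup.mem_zpowers_iff.1 hz
      rw [map_zpow]
      exact ((Commute.zpow_right (Subgroup.mem_centralizer_singleton_iff.1 hy.2) i).eq).symm
    obtain ⟨x, ⟨hxP, hxc⟩, rfl⟩ := h1
    refine Subgroup.mem_centralizer_iff.2 ?_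
    rintro _ ⟨u, hu, rfl⟩
    have hxc' : (x : G) ∈ centralizer {c} := Subgroup.mem_centralizer_singleton_iff.2
      (congrArg Subtype.val (Subgroup.mem_centralizer_iff.1 hxc c' (Subgroup.mem_zpowers c'))).symm
    rw [← map_mul, ← map_mul]
    exact congrArg f (Subtype.ext (Subgroup.mem_centralizer_iff.1 (hfix ⟨hxP, hxc'⟩) _ hu))
  have key := bl_abelian (p := p) (c := f c') (U := (U.subgroupOf M).map f)
    (by rw [← map_pow, show c' ^ p = 1 from Subtype.ext hc, map_one]) hs ht hst hsp htp hVel (hU'.map f)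
    (Subgroup.le_normalizer_map f (Subgroup.mem_map_of_mem f (hnorm P c' hcP)))
    (Subgroup.le_normalizer_map f (Subgroup.mem_map_of_mem f (hnorm U c' hcU)))
    ((Subgroup.map_mono fun x hx => hnorm P x (hUP hx)).trans (Subgroup.le_normalizer_map f))
    hfix' (fun h => by
      haveI := hex h
      exact Subgroup.map_isMulCommutative _ f)
  rw [← MonoidHom.map_zpowers, ← Subgroup.map_commutator] at key
  have hY : ⁅U, zpowers c⁆ = ⁅U.subgroupOf M, zpowers c'⁆.map M.subtype := by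
    rw [Subgroup.map_commutator, Subgroup.map_subgroupOf_eq_of_le hUM, MonoidHom.map_zpowers]
    rfl
  have hYU : ⁅U, zpowers c⁆ ≤ U := Coprime.commutator_le_left_of_le_normalizer (Subgroup.zpowers_le.2 hcU)
  refine Coprime.le_centralizer_of_frattini (hYU.trans hUP) ?_ ?_
  · exact IsPGroup.coprime_card_of_ne t s hst.symm _ _ (hU.to_le hYU) (hP.to_subgroup _)
  intro a ha k hk
  rw [hY] at ha
  obtain ⟨a', ha', rfl⟩ := ha
  have h1 : f ⁅a', (⟨k, hPM hk⟩ : ↥M)⁆ = 1 := by
    rw [map_commutatorElement, commutatorElement_eq_one_iff_mul_comm]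
    exact (Subgroup.mem_centralizer_iff.1 (key (Subgroup.mem_map_of_mem f ha')) _
      (Subgroup.mem_map_of_mem f (show (⟨k, hPM hk⟩ : ↥M) ∈ P.subgroupOf M from hk))).symm
  have h2 : ⁅a', (⟨k, hPM hk⟩ : ↥M)⁆ ∈ Φ.subgroupOf M := (QuotientGroup.eq_one_iff _).1 h1
  exact h2

omit [Fact s.Prime] in
/-- **Bender's lemma.** -/
theorem bl {G : Type*} [Group G] [Finite G] {p t : ℕ} [Fact p.Prime] [Fact t.Prime] (htp : t ≠ p)
    {T U : Subgroup G} {c : G} (hc : c ^ p = 1) (hTs : Group.IsSolvable T) (hTp : ¬ p ∣ Nat.card T)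
    (hUT : U ≤ T) (hU : IsPGroup t U) (hcT : c ∈ normalizer (T : Set G)) (hcU : c ∈ normalizer (U : Set G))
    (hfix : T ⊓ centralizer {c} ≤ normalizer (U : Set G)) (hex : t = 2 → IsMulCommutative U) :
    ⁅U, zpowers c⁆ ≤ pOf t T := by
  have hYU : ⁅U, zpowers c⁆ ≤ U := Coprime.commutator_le_left_of_le_normalizer (Subgroup.zpowers_le.2 hcU)
  refine le_pOf_of_comm hTs (hYU.trans hUT) (hU.to_le hYU) fun s hs hst y hy k hk => ?_
  haveI := Fact.mk hs
  set N := pOf t T with hN
  set K := usOf t s T with hK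
  set M := normalizer (N : Set G) with hM
  have hTM : T ≤ M := OddOrder.le_normalizer_pOf T
  have hKM : K ≤ M := (usOf_le T).trans hTM
  have hUM : U ≤ M := hUT.trans hTM
  have hcM : c ∈ M := OddOrder.normalizer_le_normalizer_pOf T hcT
  have hcK : c ∈ normalizer (K : Set G) := normalizer_le_normalizer_usOf T hcT
  have hUK : U ≤ normalizer (K : Set G) :=
    hUT.trans (Subgroup.le_normalizer.trans (normalizer_le_normalizer_usOf T))
  haveI : (N.subgroupOf M).Normal :=
    (Subgroup.normal_subgroupOf_iff_le_normalizer ((OddOrder.pOf_le T).trans hTM)).2 le_rfl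
  set f := QuotientGroup.mk' (N.subgroupOf M) with hf
  set c' : ↥M := ⟨c, hcM⟩ with hc'
  have hker : ∀ x : ↥M, f x = 1 ↔ (x : G) ∈ N := fun x => (QuotientGroup.eq_one_iff x).trans Iff.rfl
  have hPs : IsPGroup s ((K.subgroupOf M).map f) := by
    rintro ⟨_, x, hx, rfl⟩
    obtain ⟨z, hz, hzx⟩ := hx
    obtain ⟨m, hm⟩ := (PCore.isPGroup_pCore (p := s) (G := ↥T ⧸ pCore t ↥T)) ⟨_, hz⟩
    refine ⟨m, Subtype.ext ?_⟩
    have h1 : z ^ s ^ m ∈ pCore t ↥T := by
      rw [← QuotientGroup.eq_one_iff]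
      show QuotientGroup.mk' (pCore t ↥T) (z ^ s ^ m) = 1
      rw [map_pow]
      simpa using congrArg Subtype.val hm
    rw [Subgroup.coe_pow, Subgroup.coe_one, ← map_pow, hker, Subgroup.coe_pow]
    exact ⟨_, h1, by
      rw [map_pow]
      exact congrArg (fun g : G => g ^ s ^ m) hzx⟩
  rcases eq_or_ne s p with rfl | hsp
  · have hkT : k ∈ T := usOf_le T hk
    have hkN : k ∈ N := by
      obtain ⟨m, hm⟩ := hPs ⟨f ⟨k, hKM hk⟩, Subgroup.mem_map_of_mem f
        (show (⟨k, hKM hk⟩ : ↥M) ∈ K.subgroupOf M from hk)⟩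
      have h1 : orderOf (f ⟨k, hKM hk⟩) ∣ s ^ m :=
        orderOf_dvd_of_pow_eq_one (by simpa using congrArg Subtype.val hm)
      have h2 : orderOf (f ⟨k, hKM hk⟩) ∣ Nat.card T := by
        refine (orderOf_map_dvd f _).trans ?_
        rw [Subgroup.orderOf_mk]
        exact Subgroup.orderOf_dvd_natCard T hkT
      have h3 : (s ^ m).Coprime (Nat.card T) :=
        Nat.Coprime.pow_left m ((Fact.out : s.Prime).coprime_iff_not_dvd.2 hTp)
      exact (hker ⟨k, hKM hk⟩).1 (orderOf_eq_one_iff.1 (Nat.eq_one_of_dvd_coprimes h3 h1 h2))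
    rw [commutatorElement_def]
    exact mul_mem ((Subgroup.mem_normalizer_iff.1 (hTM (hUT (hYU hy))) k).1 hkN) (inv_mem hkN)
  have hcop : (Nat.card (zpowers c')).Coprime (Nat.card (K.subgroupOf M)) := by
    rw [Nat.card_zpowers]
    refine Nat.Coprime.coprime_dvd_left (orderOf_dvd_of_pow_eq_one (n := p) (Subtype.ext hc)) ?_
    refine Nat.Coprime.coprime_dvd_right ?_ ((Fact.out : p.Prime).coprime_iff_not_dvd.2 hTp)
    rw [Coprime.card_subgroupOf hKM]
    exact Subgroup.card_dvd_of_le (usOf_le T)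
  have hnorm : ∀ (X : Subgroup G) (x : ↥M), (x : G) ∈ normalizer (X : Set G) →
      x ∈ normalizer ((X.subgroupOf M : Subgroup ↥M) : Set ↥M) := fun X x hx =>
    Subgroup.mem_normalizer_iff.2 fun y => Subgroup.mem_normalizer_iff.1 hx (y : G)
  have hfix' : (K.subgroupOf M).map f ⊓ centralizer {f c'} ≤
      centralizer (((U.subgroupOf M).map f : Subgroup _) : Set _) := by
    intro z hz
    have h1 : z ∈ (K.subgroupOf M ⊓ centralizer ((zpowers c' : Subgroup ↥M) : Set ↥M)).map f := by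
      rw [Coprime.map_inf_centralizer f (Subgroup.zpowers_le.2 (hnorm K c' hcK)) hcop
        (Or.inl (Group.isSolvable_of_comm fun x y => mul_comm' x y))]
      refine ⟨hz.1, Subgroup.mem_centralizer_iff.2 ?_⟩
      rintro _ ⟨w, hw, rfl⟩
      obtain ⟨i, rfl⟩ := Subgroup.mem_zpowers_iff.1 hw
      rw [map_zpow]
      exact ((Commute.zpow_right (Subgroup.mem_centralizer_singleton_iff.1 hz.2) i).eq).symm
    obtain ⟨x, ⟨hxK, hxc⟩, rfl⟩ := h1
    refine Subgroup.mem_centralizer_iff.2 ?_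
    rintro _ ⟨u, hu, rfl⟩
    have hxc' : (x : G) ∈ centralizer {c} := Subgroup.mem_centralizer_singleton_iff.2
      (congrArg Subtype.val (Subgroup.mem_centralizer_iff.1 hxc c' (Subgroup.mem_zpowers c'))).symm
    have hxU : (x : G) ∈ normalizer (U : Set G) := hfix ⟨usOf_le T hxK, hxc'⟩
    rw [← commutatorElement_eq_one_iff_mul_comm, ← map_commutatorElement, hker]
    have hle : K ⊓ U ≤ N := le_pOf_of_le_usOf hst.symm (hU.to_le inf_le_right) inf_le_left
    refine hle ⟨?_, ?_⟩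
    · show (u : G) * (x : G) * (u : G)⁻¹ * (x : G)⁻¹ ∈ K
      exact mul_mem ((Subgroup.mem_normalizer_iff.1 (hUK hu) _).1 hxK) (inv_mem hxK)
    · show (u : G) * (x : G) * (u : G)⁻¹ * (x : G)⁻¹ ∈ U
      rw [mul_assoc, mul_assoc]
      refine mul_mem hu ?_
      rw [← mul_assoc]
      exact (Subgroup.mem_normalizer_iff.1 hxU _).1 (inv_mem hu)
  have key := bl_pgroup (p := p) (c := f c') (U := (U.subgroupOf M).map f)
    (by rw [← map_pow, show c' ^ p = 1 from Subtype.ext hc, map_one]) hs Fact.out hst hsp htp hPs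
    ((hU.comap_of_injective M.subtype M.subtype_injective).map f)
    (Subgroup.le_normalizer_map f (Subgroup.mem_map_of_mem f (hnorm K c' hcK)))
    (Subgroup.le_normalizer_map f (Subgroup.mem_map_of_mem f (hnorm U c' hcU)))
    ((Subgroup.map_mono fun x hx => hnorm K x (hUK hx)).trans (Subgroup.le_normalizer_map f))
    hfix' (fun h => by
      haveI := hex h
      exact Subgroup.map_isMulCommutative _ f)
  rw [← MonoidHom.map_zpowers, ← Subgroup.map_commutator] at key
  have hY : ⁅U, zpowers c⁆ = ⁅U.subgroupOf M, zpowers c'⁆.map M.subtype := by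
    rw [Subgroup.map_commutator, Subgroup.map_subgroupOf_eq_of_le hUM, MonoidHom.map_zpowers]
    rfl
  rw [hY] at hy
  obtain ⟨y', hy', rfl⟩ := hy
  have h1 : f ⁅y', (⟨k, hKM hk⟩ : ↥M)⁆ = 1 := by
    rw [map_commutatorElement, commutatorElement_eq_one_iff_mul_comm]
    exact (Subgroup.mem_centralizer_iff.1 (key (Subgroup.mem_map_of_mem f hy')) _
      (Subgroup.mem_map_of_mem f (show (⟨k, hKM hk⟩ : ↥M) ∈ K.subgroupOf M from hk))).symm
  exact (hker _).1 h1

end Cfsg.Agent.SSFT
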