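import Cfsg.Agent.Lib.SSFT.Member

/-!
# The greatest `θ A`-invariant `q`-member
-/

set_option linter.unusedSectionVars false
set_option linter.style.haveILetI false
set_option autoImplicit false

namespace Cfsg.Agent.SSFT

open Cfsg
open Subgroup (normalizer centralizer zpowers mem_normalizer_iff)
open scoped Pointwise commutatorElement
open Cfsg.Agent.OddOrder (pOf)
open Cfsg.Agent.Signalizer (IsMaxQ)

universe w
variable {G : Type w} [Group G]

/-- The intersection of the maximal `q`-members. -/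
def qCap (p : ℕ) (A : Subgroup G) (θ : G → Subgroup G) (q : ℕ) : Subgroup G :=
  ⨅ R : {R : Subgroup G // IsMaxQ p A θ q R}, (R : Subgroup G)

namespace Setting

variable [Finite G] {p : ℕ} [hpF : Fact p.Prime] {A : Subgroup G} {θ : G → Subgroup G}
variable (S : Setting p A θ) {q : ℕ}
include S

theorem exists_maxQ (q : ℕ) : ∃ R, IsMaxQ p A θ q R := by
  obtain ⟨R, hR, -⟩ := Signalizer.exists_maxQ_ge S.bot_mem (IsPGroup.of_bot (p := q))
  exact ⟨R, hR⟩

theorem qCap_le {R : Subgroup G} (hR : IsMaxQ p A θ q R) : qCap p A θ q ≤ R :=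
  iInf_le (fun R : {R : Subgroup G // IsMaxQ p A θ q R} => (R : Subgroup G)) ⟨R, hR⟩

theorem qCap_mem (q : ℕ) : qCap p A θ q ∈ signalizerFamily p A θ := by
  obtain ⟨R, hR⟩ := S.exists_maxQ q
  exact S.sub_mem hR.1 (S.qCap_le hR) (le_normalizer_iInf' _ fun R => S.inv R.2.1)

theorem isPGroup_qCap (q : ℕ) : IsPGroup q (qCap p A θ q) := by
  obtain ⟨R, hR⟩ := S.exists_maxQ q
  exact hR.2.1.to_le (S.qCap_le hR)

theorem inf_le_normalizer_qCap (q : ℕ) : signalizerInf A θ ≤ normalizer (qCap p A θ q : Set G) := by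
  refine Signalizer.le_normalizer_of_conj_mem fun k hk x hx => ?_
  simp only [qCap, Subgroup.mem_iInf] at hx ⊢
  intro R
  have h := hx ⟨_, Signalizer.smul_maxQ S.hθ (Subgroup.inv_mem _ hk) R.2⟩
  rw [Coprime.mem_conj_smul_iff, inv_inv] at h
  exact h

variable [hqF : Fact q.Prime]

/-- A `θ A`-invariant `q`-member lies in every maximal one. -/
theorem le_maxQ {Y R : Subgroup G} (hY : Y ∈ signalizerFamily p A θ) (hYq : IsPGroup q Y)
    (hYC : signalizerInf A θ ≤ normalizer (Y : Set G)) (hR : IsMaxQ p A θ q R) : Y ≤ R := by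
  obtain ⟨R', hR', hYR'⟩ := Signalizer.exists_maxQ_ge hY hYq
  obtain ⟨k, hk, rfl⟩ := Signalizer.transitivity S.hA S.card.ge S.hθ hR hR'
  intro y hy
  have h1 : k * y * k⁻¹ ∈ Y := (mem_normalizer_iff.1 (hYC hk) y).1 hy
  have h2 := Coprime.mem_conj_smul_iff.1 (hYR' h1)
  simpa [mul_assoc] using h2

theorem le_qCap {Y : Subgroup G} (hY : Y ∈ signalizerFamily p A θ) (hYq : IsPGroup q Y)
    (hYC : signalizerInf A θ ≤ normalizer (Y : Set G)) : Y ≤ qCap p A θ q :=
  le_iInf fun R => S.le_maxQ hY hYq hYC R.2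

/-- A maximal `q`-member meets a `θ A`-invariant member in a Sylow subgroup. -/
theorem sylow_inf {R X : Subgroup G} (hR : IsMaxQ p A θ q R) (hX : X ∈ signalizerFamily p A θ)
    (hXC : signalizerInf A θ ≤ normalizer (X : Set G)) :
    ∃ P : Sylow q X, (P : Subgroup X).map X.subtype = R ⊓ X := by
  obtain ⟨k, hk, P, hP⟩ := Signalizer.exists_sylow_inf S.hA S.card.ge S.hθ hR hX
  have hle : IsPGroup q ↥((R ⊓ X).subgroupOf X) :=
    (hR.2.1.to_le inf_le_left).comap_of_injective X.subtype X.subtype_injective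
  obtain ⟨P', hP'⟩ := hle.exists_le_sylow
  refine ⟨P', le_antisymm ?_ ((Subgroup.map_subgroupOf_eq_of_le inf_le_right).ge.trans (Subgroup.map_mono hP'))⟩
  refine (Subgroup.eq_of_le_of_card_ge ((Subgroup.map_subgroupOf_eq_of_le (inf_le_right : R ⊓ X ≤ X)).ge.trans
    (Subgroup.map_mono hP')) ?_).ge
  rw [Subgroup.card_map_of_injective X.subtype_injective, P'.card_eq_multiplicity, ← P.card_eq_multiplicity,
    ← Subgroup.card_map_of_injective X.subtype_injective, hP]
  have e : MulAut.conj k • R ⊓ X = MulAut.conj k • (R ⊓ X) := by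
    rw [Subgroup.smul_inf, Coprime.conj_smul_eq_self_of_mem (hXC hk)]
  rw [e, Coprime.card_conj_smul]

end Setting

end Cfsg.Agent.SSFT
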