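import Cfsg.Agent.Lib.SSFT.PrimeCap
import Cfsg.Agent.Lib.SSFT.QCore

/-!
# No operator centralizes the Fitting subgroup of a maximal member containing its signalizer
-/

set_option linter.unusedSectionVars false
set_option linter.style.haveILetI false
set_option autoImplicit false

namespace Cfsg.Agent.SSFT

open Cfsg
open Subgroup (normalizer centralizer zpowers mem_normalizer_iff)
open scoped Pointwise commutatorElement
open Cfsg.Agent.OddOrder (pOf)

universe w
variable {G : Type w} [Group G] [Finite G] {p : ℕ} [hpF : Fact p.Prime] {A : Subgroup G} {θ : G → Subgroup G}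

namespace CE

variable (K : CE p A θ)
include K

/-- **Magic**: a point `c` does not centralize every `O_r(H)` for a maximal member `H ≥ θ c`. -/
theorem magic {c : G} (hc : c ∈ A) (hc1 : c ≠ 1) {H : Subgroup G} (hH : IsMax p A θ H) (hcH : θ c ≤ H)
    (hF : ∀ r : ℕ, r.Prime → pOf r H ≤ centralizer {c}) : False := by
  haveI := hH.1.1
  have hcN : ∀ {X : Subgroup G}, A ≤ normalizer (X : Set G) → zpowers c ≤ normalizer (X : Set G) :=
    fun h => (Subgroup.zpowers_le.2 hc).trans h
  have hcHn : zpowers c ≤ normalizer (H : Set G) := hcN (K.inv hH.1)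
  have hcF : fittingOf H ≤ centralizer {c} := OddOrder.fittingOf_le_of_forall hF
  have hHc : H ≤ centralizer {c} := by
    rw [← Signalizer.centralizer_zpowers, Subgroup.le_centralizer_iff]
    refine Coprime.le_centralizer_of_commutator_le_centralizer hcHn
      (K.coprime_sub (Subgroup.zpowers_le.2 hc) hH.1.2.1) (Or.inr hH.1.1) ?_
    have h1 : ⁅H, zpowers c⁆ ≤ fittingOf H := (le_inf (Coprime.commutator_le_left_of_le_normalizer hcHn)
      (commutator_le_centralizer_of (OddOrder.le_normalizer_fittingOf H) (Subgroup.mem_centralizer_iff.2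
        fun x hx => Subgroup.mem_centralizer_singleton_iff.1 (hcF hx)))).trans
      (OddOrder.inf_centralizer_fittingOf_le H)
    rw [Subgroup.le_centralizer_iff, Signalizer.centralizer_zpowers]
    exact h1.trans hcF
  have hHθ : H ≤ θ c := (le_inf le_rfl hHc).trans (hH.1.2.2.2 c hc hc1)
  obtain ⟨t, ht, hR1⟩ : ∃ t : ℕ, t.Prime ∧ pOf t H ≠ ⊥ := by
    by_contra h
    push Not at h
    exact K.max_ne_bot hH (eq_bot_of_forall_pOf hH.1.1 h)
  haveI := Fact.mk ht
  set R := pOf t H with hR
  have hC : signalizerInf A θ ≤ H := (Signalizer.signalizerInf_le hc hc1).trans hcH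
  -- every maximal `t`-member is centralized by `c`
  have hall : ∀ R' : Subgroup G, Signalizer.IsMaxQ p A θ t R' → R' ≤ centralizer {c} := by
    intro R' hR'
    have hRR' : R ≤ R' := K.le_maxQ (K.pOf_mem hH.1 t) (OddOrder.isPGroup_pOf H)
      (hC.trans (OddOrder.le_normalizer_pOf H)) hR'
    set C := R' ⊓ centralizer {c} with hCdef
    have hRC : R ≤ C := le_inf hRR' (hF t ht)
    refine (le_of_inf_normalizer_le hR'.2.1 inf_le_left ?_).trans inf_le_right
    set N := R' ⊓ normalizer (C : Set G)
    have hNA : A ≤ normalizer (N : Set G) := Coprime.le_normalizer_inf_of_le (K.inv hR'.1)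
      ((Coprime.le_normalizer_inf_of_le (K.inv hR'.1) (K.le_normalizer_centralizer_singleton hc)).trans
        Subgroup.le_normalizer)
    have hNF : N ∈ signalizerFamily p A θ := K.sub_mem hR'.1 inf_le_left hNA
    have h1 : ⁅N, zpowers c⁆ ≤ centralizer (R : Set G) :=
      (commutator_le_centralizer_of (inf_le_right : N ≤ normalizer (C : Set G)) (Subgroup.mem_centralizer_iff.2
        fun x (hx : x ∈ C) => Subgroup.mem_centralizer_singleton_iff.1 hx.2)).trans (Subgroup.centralizer_le hRC)
    have h2 : ⁅N, zpowers c⁆ ≤ centralizer {c} :=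
      (K.absorb_centralizer hH hR1 (K.commutator_mem hNF hc) h1).trans hHc
    refine le_inf inf_le_left ?_
    rw [← Signalizer.centralizer_zpowers, Subgroup.le_centralizer_iff]
    refine Coprime.le_centralizer_of_commutator_le_centralizer (hcN hNA)
      (K.coprime_sub (Subgroup.zpowers_le.2 hc) hNF.2.1) (Or.inr hNF.1) ?_
    rw [Subgroup.le_centralizer_iff, Signalizer.centralizer_zpowers]
    exact h2
  have hd : t ∣ Nat.card (θ c) := by
    obtain ⟨k, hk⟩ := (OddOrder.isPGroup_pOf (r := t) H).exists_card_eq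
    have hk0 : k ≠ 0 := fun h0 => hR1 (Subgroup.card_eq_one.1 (by rw [hk, h0, pow_zero]))
    exact (hk ▸ dvd_pow_self t hk0 : t ∣ Nat.card R).trans
      (Subgroup.card_dvd_of_le ((OddOrder.pOf_le H).trans hHθ))
  obtain ⟨D, hD, -, -, hDmax⟩ := K.exists_primeCap (t := t) ⟨c, hc, hc1, hd⟩
  refine K.star hc hc1 hD fun L hL _ => ?_
  obtain ⟨d, hdL, hd1⟩ := K.exists_ne_one_of_line hL
  have hdA := hL.1 hdL
  have hθd := K.theta_mem hdA hd1
  refine (Subgroup.commutator_mono (Signalizer.signalizerInf_le hdL hd1) le_rfl).trans ?_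
  obtain ⟨R', hR'⟩ := K.exists_maxQ t
  obtain ⟨P, hP⟩ := K.sylow_inf hR' hθd ((Signalizer.signalizerInf_le hdA hd1).trans Subgroup.le_normalizer)
  refine (commutator_le_primeOf hθd.1 (hcN (K.theta_le_normalizer hdA hd1))
    (K.coprime_sub (Subgroup.zpowers_le.2 hc) hθd.2.1) P ?_).trans (hDmax _ ?_ ?_ ?_)
  · rw [hP, Subgroup.le_centralizer_iff, Signalizer.centralizer_zpowers]
    exact inf_le_left.trans (hall R' hR')
  · exact K.sub_mem hθd (primeOf_le _) ((K.theta_le_normalizer hdA hd1).trans (normalizer_le_normalizer_primeOf _))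
  · exact fun h => ht.not_dvd_one ((Nat.Coprime.coprime_dvd_left h (coprime_card_primeOf (t := t) (θ d))).gcd_eq_one ▸
      Nat.dvd_gcd dvd_rfl dvd_rfl)
  · exact (Signalizer.signalizerInf_le hdA hd1).trans (le_normalizer_primeOf _)

end CE

end Cfsg.Agent.SSFT
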