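import Cfsg.Agent.Lib.SSFT.Movers
import Cfsg.Agent.Lib.SSFT.Magic
import Cfsg.Agent.Lib.Coprime.Quotient

/-!
# No colour two; the nonmovers do not lie on a line
-/

set_option linter.unusedSectionVars false
set_option linter.style.haveILetI false
set_option autoImplicit false

namespace Cfsg.Agent.SSFT

open Cfsg
open Subgroup (normalizer centralizer zpowers mem_normalizer_iff)
open scoped Pointwise commutatorElement
open Cfsg.Agent.OddOrder (pOf)

universe w
variable {G : Type w} [Group G] [Finite G]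

theorem le_centralizer_singleton_of_commutator {X : Subgroup G} {c : G} (h : ⁅X, zpowers c⁆ = ⊥) :
    X ≤ centralizer {c} := by
  rw [← Signalizer.centralizer_zpowers]
  exact Subgroup.commutator_eq_bot_iff_le_centralizer.1 h

variable {p : ℕ} [hpF : Fact p.Prime] {A : Subgroup G} {θ : G → Subgroup G}

/-- `c` moves no colour. -/
def IsNonmover (p : ℕ) (A : Subgroup G) (θ : G → Subgroup G) (c : G) : Prop := ∀ t, ¬ IsMover p A θ c t

theorem IsNonmover.pOf_le {c : G} (h : IsNonmover p A θ c) {H : Subgroup G} (hH : IsMax p A θ H) (hcH : θ c ≤ H)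
    {r : ℕ} (hr : r.Prime) (h2 : r ≠ 2) : pOf r H ≤ centralizer {c} := by
  refine le_centralizer_singleton_of_commutator (by_contra fun hne => h r ⟨hr, H, hH, hcH, ?_⟩)
  rwa [colPart, if_neg h2]

theorem IsNonmover.zq_le {c : G} (h : IsNonmover p A θ c) {H : Subgroup G} (hH : IsMax p A θ H) (hcH : θ c ≤ H) :
    zq 2 (pOf 2 H) ≤ centralizer {c} := by
  refine le_centralizer_singleton_of_commutator (by_contra fun hne => h 2 ⟨Nat.prime_two, H, hH, hcH, ?_⟩)
  rwa [colPart, if_pos rfl]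

namespace CE

variable (K : CE p A θ)
include K

theorem exists_max_theta {c : G} (hc : c ∈ A) (hc1 : c ≠ 1) : ∃ H, IsMax p A θ H ∧ θ c ≤ H :=
  exists_max_ge (K.theta_mem hc hc1)

theorem inf_le_of_theta_le {c : G} {H : Subgroup G} (hc : c ∈ A) (hc1 : c ≠ 1) (h : θ c ≤ H) :
    signalizerInf A θ ≤ H := (Signalizer.signalizerInf_le hc hc1).trans h

/-- A nonmover has `O_2(H) ≠ 1` in every maximal member over its signalizer. -/
theorem pOf_two_ne_bot {c : G} (hc : c ∈ A) (hc1 : c ≠ 1) (h : IsNonmover p A θ c) {H : Subgroup G}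
    (hH : IsMax p A θ H) (hcH : θ c ≤ H) : pOf 2 H ≠ ⊥ := by
  intro h0
  refine K.magic hc hc1 hH hcH fun r hr => ?_
  rcases eq_or_ne r 2 with rfl | h2
  · rw [h0]; exact bot_le
  · exact h.pOf_le hH hcH hr h2

/-- Theorem A with the members chosen pointwise. -/
theorem theoremA' {q : ℕ} [Fact q.Prime] {Y : Subgroup G} (hY1 : Y ≠ ⊥)
    (h : ∀ c ∈ A, c ≠ 1 → ∃ H, IsMax p A θ H ∧ θ c ≤ H ∧ Y ≤ pOf q H) : False := by
  choose! H hH using h
  exact K.theoremA H (fun c hc hc1 => ⟨(hH c hc hc1).1, (hH c hc hc1).2.1⟩) hY1 fun c hc hc1 => (hH c hc hc1).2.2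

/-- **No colour two.** -/
theorem wCap_two : wCap p A θ 2 = ⊥ := by
  by_contra hne
  haveI := Fact.mk Nat.prime_two
  refine K.theoremA' (q := 2) hne fun c hc hc1 => ?_
  by_cases h : IsNonmover p A θ c
  · obtain ⟨H, hH, hcH⟩ := K.exists_max_theta hc hc1
    exact ⟨H, hH, hcH, K.wCap_le_max hH (K.inf_le_of_theta_le hc hc1 hcH) (K.pOf_two_ne_bot hc hc1 h hH hcH)⟩
  · simp only [IsNonmover, not_forall, not_not] at h
    obtain ⟨t, ht⟩ := h
    obtain ⟨M, hM, hcM, -, -, -, hW⟩ := K.mover_data hc hc1 ht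
    exact ⟨M, hM, hcM, hW 2 Nat.prime_two⟩

/-- A mover moves an odd colour. -/
theorem mover_odd {c : G} (hc : c ∈ A) (hc1 : c ≠ 1) {t : ℕ} (h : IsMover p A θ c t) : t ≠ 2 := by
  rintro rfl
  obtain ⟨M, -, -, -, hW, -⟩ := K.mover_data hc hc1 h
  exact hW K.wCap_two

theorem inf_mem_line {B : Subgroup G} (hB : IsLine p A B) : signalizerInf B θ ∈ signalizerFamily p A θ := by
  obtain ⟨b, hb, hb1⟩ := K.exists_ne_one_of_line hB
  exact K.sub_mem (K.theta_mem (hB.1 hb) hb1) (Signalizer.signalizerInf_le hb hb1)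
    (le_normalizer_iInf' _ fun b => K.theta_le_normalizer (hB.1 b.2.1) b.2.2)

theorem exists_not_mem_of_ne {B₀ B : Subgroup G} (hB₀ : IsLine p A B₀) (hB : IsLine p A B) (hne : B ≠ B₀) :
    ∃ b ∈ B, b ∉ B₀ ∧ b ≠ 1 := by
  by_contra h
  push Not at h
  refine hne (Subgroup.eq_of_le_of_card_ge (fun b hb => ?_) (by rw [hB.2, hB₀.2]))
  rcases eq_or_ne b 1 with rfl | hb1
  · exact B₀.one_mem
  · by_contra hb0
    exact hb1 (h b hb hb0)

/-- Two colours among movers is impossible when the nonmovers lie on a line. -/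
theorem collinear_two_colours {B₀ : Subgroup G} (hB₀ : IsLine p A B₀)
    (hmov : ∀ c ∈ A, c ∉ B₀ → ∃ t, IsMover p A θ c t) {u v : ℕ} [hu : Fact u.Prime] [hv : Fact v.Prime]
    (huv : u ≠ v) (hWu : wCap p A θ u ≠ ⊥) (hWv : wCap p A θ v ≠ ⊥) : False := by
  obtain ⟨c₀, hc₀, hc₀'⟩ := K.exists_not_mem_line hB₀
  obtain ⟨t₀, ht₀⟩ := hmov c₀ hc₀ hc₀'
  obtain ⟨M₀, hM₀, -, -, -, -, hW₀⟩ := K.mover_data hc₀ (fun e => hc₀' (e ▸ B₀.one_mem)) ht₀
  have hWF : ∀ r : ℕ, r.Prime → wCap p A θ r ∈ signalizerFamily p A θ := fun r hr =>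
    K.sub_mem hM₀.1 ((hW₀ r hr).trans (OddOrder.pOf_le M₀)) (K.wCap_inv r)
  have key : ∀ r : ℕ, r.Prime → wCap p A θ r ≠ ⊥ → ∃ M, IsMax p A θ M ∧
      (∀ Y ∈ signalizerFamily p A θ, Y ≤ centralizer (wCap p A θ r : Set G) → Y ≤ M) ∧
      ∀ s : ℕ, s.Prime → wCap p A θ s ≤ pOf s M := by
    intro r hr hne
    haveI := Fact.mk hr
    obtain ⟨M, hM, hMle⟩ := K.exists_max_normalizing (hWF r hr) hne
    refine ⟨M, hM, fun Y hY h => hMle Y hY (h.trans (Subgroup.centralizer_le_normalizer _)), fun s hs => ?_⟩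
    haveI := Fact.mk hs
    refine iSup_le fun L => K.pLine_le_pOf hM.1 L.2 ?_
    have hle : pLine s θ L ≤ wCap p A θ s :=
      le_iSup (fun L : {L : Subgroup G // IsLine p A L} => pLine s θ L) L
    rcases eq_or_ne s r with rfl | hsr
    · exact hle.trans (hMle _ (hWF s hs) Subgroup.le_normalizer)
    · exact hMle _ (K.pLine_mem L.2)
        ((hle.trans (K.wCap_commute hsr)).trans (Subgroup.centralizer_le_normalizer _))
  obtain ⟨Mu, hMu, hMuc, hMuW⟩ := key u hu.out hWu
  obtain ⟨Mv, hMv, hMvc, hMvW⟩ := key v hv.out hWv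
  have e : Mu = Mv := K.master hMu hMv huv hWu (K.wCap_inv u) hWv (K.wCap_inv v)
    (hMuW u hu.out) (hMvW u hu.out) (hMuW v hv.out) (hMvW v hv.out) hMuc hMvc
  refine K.cor hB₀ hMu.1 fun B hB hne => ?_
  obtain ⟨b, hb, hb0, hb1⟩ := K.exists_not_mem_of_ne hB₀ hB hne
  obtain ⟨t, ht⟩ := hmov b (hB.1 hb) hb0
  obtain ⟨M, hM, hbM, -, hWt, hMc, hMW⟩ := K.mover_data (hB.1 hb) hb1 ht
  haveI := Fact.mk ht.1
  refine (Signalizer.signalizerInf_le hb hb1).trans (hbM.trans ?_)
  rcases eq_or_ne t u with rfl | htu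
  · rw [e]
    exact (K.master hM hMv huv hWt (K.wCap_inv t) hWv (K.wCap_inv v) (hMW t ht.1) (hMvW t ht.1)
      (hMW v hv.out) (hMvW v hv.out) hMc hMvc).le
  · exact (K.master hM hMu htu hWt (K.wCap_inv t) hWu (K.wCap_inv u) (hMW t ht.1) (hMuW t ht.1)
      (hMW u hu.out) (hMuW u hu.out) hMc hMuc).le

theorem pOf_inf_centralizer_le {H : Subgroup G} (hH : IsMax p A θ H) {b : G} (hb : b ∈ A) (hb1 : b ≠ 1)
    (hbH : θ b ≤ H) (q : ℕ) : pOf q H ⊓ centralizer {b} ≤ pOf q (θ b) :=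
  OddOrder.le_pOf ((inf_le_inf_right _ (OddOrder.pOf_le H)).trans (hH.1.2.2.2 b hb hb1))
    (Coprime.le_normalizer_inf_of_le (hbH.trans (OddOrder.le_normalizer_pOf H))
      ((K.theta_le_centralizer hb hb1).trans Subgroup.le_normalizer))
    ((OddOrder.isPGroup_pOf H).to_le inf_le_left)

/-- One colour is impossible when the nonmovers lie on a line. -/
theorem collinear_one_colour {B₀ : Subgroup G} (hB₀ : IsLine p A B₀)
    (hmov : ∀ c ∈ A, c ∉ B₀ → ∃ t, IsMover p A θ c t) {q : ℕ} [hq : Fact q.Prime]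
    (huniq : ∀ t, t.Prime → wCap p A θ t ≠ ⊥ → t = q) : False := by
  haveI := K.isMulCommutative
  have hmov' : ∀ c ∈ A, c ∉ B₀ → IsMover p A θ c q := fun c hc hc0 => by
    obtain ⟨t, ht⟩ := hmov c hc hc0
    obtain ⟨M, -, -, -, hW, -⟩ := K.mover_data hc (fun e => hc0 (e ▸ B₀.one_mem)) ht
    exact huniq t ht.1 hW ▸ ht
  set W := wCap p A θ q with hWdef
  obtain ⟨c₀, hc₀, hc₀0⟩ := K.exists_not_mem_line hB₀
  have hne1 : ∀ {c : G}, c ∉ B₀ → c ≠ 1 := fun h e => h (e ▸ B₀.one_mem)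
  obtain ⟨M₀, hM₀, -, -, hW1, -, hW₀⟩ := K.mover_data hc₀ (hne1 hc₀0) (hmov' c₀ hc₀ hc₀0)
  have hWA : A ≤ normalizer (W : Set G) := K.wCap_inv q
  have hWF : W ∈ signalizerFamily p A θ := K.sub_mem hM₀.1 ((hW₀ q hq.out).trans (OddOrder.pOf_le M₀)) hWA
  have hq2 : q ≠ 2 := K.mover_odd hc₀ (hne1 hc₀0) (hmov' c₀ hc₀ hc₀0)
  have hWq : IsPGroup q W := (OddOrder.isPGroup_pOf M₀).to_le (hW₀ q hq.out)
  -- movers normalize their commutator with `W`
  have hgood : ∀ c ∈ A, c ∉ B₀ → θ c ≤ normalizer ((⁅W, zpowers c⁆ : Subgroup G) : Set G) ∧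
      ⁅W, zpowers c⁆ ≠ ⊥ := by
    intro c hc hc0
    obtain ⟨M, hM, hcM, -, -, -, hW⟩ := K.mover_data hc (hne1 hc0) (hmov' c hc hc0)
    have hcz : zpowers c ≤ A := Subgroup.zpowers_le.2 hc
    have habs : ∀ {H : Subgroup G}, IsMax p A θ H → θ c ≤ H → ⁅pOf q H, zpowers c⁆ ≤ ⁅W, zpowers c⁆ := by
      intro H hH hcH
      have h1 := K.commutator_colPart_le_wCap hc (hne1 hc0) hH hcH (t := q)
      rw [colPart, if_neg hq2] at h1
      exact (Coprime.commutator_commutator_eq (hcz.trans (K.pOf_inv hH.1 q))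
        (K.coprime_sub hcz (K.pOf_mem hH.1 q).2.1) (Or.inr (K.pOf_mem hH.1 q).1)).ge.trans
        (Subgroup.commutator_mono h1 le_rfl)
    have e : ⁅W, zpowers c⁆ = ⁅pOf q M, zpowers c⁆ :=
      le_antisymm (Subgroup.commutator_mono (hW q hq.out) le_rfl) (habs hM hcM)
    refine ⟨e ▸ le_normalizer_commutator₂ (hcM.trans (OddOrder.le_normalizer_pOf M))
      (((K.theta_le_centralizer hc (hne1 hc0)).trans_eq (Signalizer.centralizer_zpowers c).symm).trans
        (Subgroup.centralizer_le_normalizer _)), fun h0 => ?_⟩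
    obtain ⟨-, H, hH, hcH, hD⟩ := hmov' c hc hc0
    rw [colPart, if_neg hq2] at hD
    exact hD (le_bot_iff.1 ((habs hH hcH).trans h0.le))
  set Bad : G → Prop := fun c => ∀ H, IsMax p A θ H → θ c ≤ H → pOf q H = ⊥ with hBad
  have hgoodQ : ∀ c ∈ A, c ≠ 1 → ¬ Bad c → ∃ H, IsMax p A θ H ∧ θ c ≤ H ∧ W ≤ pOf q H := by
    intro c hc hc1 hb
    simp only [hBad, not_forall] at hb
    obtain ⟨H, hH, hcH, hne⟩ := hb
    exact ⟨H, hH, hcH, K.wCap_le_max hH (K.inf_le_of_theta_le hc hc1 hcH) hne⟩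
  have hnotbad : ∀ c ∈ A, c ∉ B₀ → ¬ Bad c := fun c hc hc0 hb => by
    obtain ⟨M, hM, hcM, hne, -⟩ := K.mover_data hc (hne1 hc0) (hmov' c hc hc0)
    exact hne (hb M hM hcM)
  by_cases hall : ∀ c ∈ A, c ≠ 1 → ¬ Bad c
  · exact K.theoremA' hW1 fun c hc hc1 => hgoodQ c hc hc1 (hall c hc hc1)
  by_cases hfull : ∃ f ∈ B₀, f ≠ 1 ∧ ¬ Bad f
  · obtain ⟨f, hf, hf1, hfb⟩ := hfull
    obtain ⟨L', hL', hfL', hcL'⟩ := K.exists_line_pair (hB₀.1 hf) hc₀
    have hL'good : ∀ d ∈ L', d ≠ 1 → ¬ Bad d := by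
      intro d hd hd1
      by_cases hd0 : d ∈ B₀
      · by_cases hdf : d ∈ zpowers f
        · simp only [hBad] at hfb ⊢
          rwa [K.theta_eq (hB₀.1 hf) hf1 hdf hd1]
        · exact absurd (K.line_le_of_mem hL' hfL' hd hf1 hdf hf hd0 hcL') hc₀0
      · exact hnotbad d (hL'.1 hd) hd0
    have hbad0 : ∀ e ∈ A, e ≠ 1 → Bad e → W ⊓ centralizer {e} = ⊥ := by
      intro e he he1 hb
      obtain ⟨H, hH, heH⟩ := K.exists_max_theta he he1
      haveI := K.isMulCommutative_sub hL'.1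
      refine le_bot_iff.1 (le_trans ?_ (hb H hH heH).le)
      refine line_le_pOf (K.not_isCyclic_line hL') (hL'.1.trans (K.inv hH.1)) (K.coprime_sub hL'.1 hH.1.2.1) hH.1.1
        ((hWF.2.2.2 e he he1).trans heH) (hWq.to_le inf_le_left) fun d hd hd1 => ?_
      obtain ⟨Hd, hHd, hdHd, hWd⟩ := hgoodQ d (hL'.1 hd) hd1 (hL'good d hd hd1)
      exact ⟨pOf q Hd, OddOrder.isPGroup_pOf _, inf_le_left.trans hWd,
        ((hH.1.2.2.2 d (hL'.1 hd) hd1).trans hdHd).trans (OddOrder.le_normalizer_pOf _)⟩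
    obtain ⟨M, hM, hMle⟩ := K.exists_max_normalizing hWF hW1
    refine K.cor hB₀ hM.1 fun B hB hne => hMle _ (K.inf_mem_line hB) ?_
    obtain ⟨b, hb, hb0, hb1⟩ := K.exists_not_mem_of_ne hB₀ hB hne
    obtain ⟨d, hdB, hd0, hd1⟩ := K.meet hB hB₀
    have hdb : d ∉ zpowers b := fun h =>
      hb0 (Subgroup.zpowers_le.2 hd0 (K.zpowers_eq (hB.1 hb) hb1 h hd1 ▸ Subgroup.mem_zpowers b))
    have hb' : b * d ∈ B := B.mul_mem hb hdB
    have hb'0 : b * d ∉ B₀ := fun h => hb0 (by simpa using B₀.mul_mem h (B₀.inv_mem hd0))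
    have hb'b : b * d ∉ zpowers b := fun h => hdb (by
      simpa using (zpowers b).mul_mem ((zpowers b).inv_mem (Subgroup.mem_zpowers b)) h)
    have hBC : signalizerInf B θ ≤ normalizer ((centralizer (B : Set G) : Subgroup G) : Set G) :=
      (K.inf_le_centralizer hB.1).trans Subgroup.le_normalizer
    have hCB : signalizerInf B θ ≤ normalizer ((W ⊓ centralizer (B : Set G) : Subgroup G) : Set G) := by
      by_cases hfl : ∀ c ∈ B, c ≠ 1 → ¬ Bad c
      · have e : W ⊓ centralizer (B : Set G) = pLine q θ B := by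
          refine le_antisymm (le_iInf fun c => ?_) (le_inf (le_iSup
            (fun L : {L : Subgroup G // IsLine p A L} => pLine q θ L) ⟨B, hB⟩) ?_)
          · obtain ⟨Hc, hHc, hcHc, hWc⟩ := hgoodQ c (hB.1 c.2.1) c.2.2 (hfl c c.2.1 c.2.2)
            exact (inf_le_inf hWc (Subgroup.centralizer_le (Set.singleton_subset_iff.2 c.2.1))).trans
              (K.pOf_inf_centralizer_le hHc (hB.1 c.2.1) c.2.2 hcHc q)
          · intro x hx
            refine Subgroup.mem_centralizer_iff.2 fun y hy => ?_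
            rcases eq_or_ne y 1 with rfl | hy1
            · simp
            · exact (Subgroup.mem_centralizer_singleton_iff.1 (K.theta_le_centralizer (hB.1 hy) hy1
                (OddOrder.pOf_le _ (pLine_le hy hy1 hx)))).symm
        rw [e]
        exact le_normalizer_iInf' _ fun c =>
          (Signalizer.signalizerInf_le c.2.1 c.2.2).trans (OddOrder.le_normalizer_pOf _)
      · push Not at hfl
        obtain ⟨e, he, he1, heb⟩ := hfl
        rw [le_bot_iff.1 ((inf_le_inf_left W (Subgroup.centralizer_le (Set.singleton_subset_iff.2 he))).trans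
          (hbad0 e (hB.1 he) he1 heb).le), Subgroup.normalizer_eq_top]
        exact le_top
    set S := ⁅W, zpowers b⁆ ⊔ ⁅W, zpowers (b * d)⁆ ⊔ (W ⊓ centralizer (B : Set G)) with hS
    have hzA : ∀ {a : G}, a ∈ A → zpowers a ≤ normalizer (W : Set G) := fun ha =>
      (Subgroup.zpowers_le.2 ha).trans hWA
    have hcopz : ∀ {X : Subgroup G}, X ≤ W → ∀ {a : G}, a ∈ A →
        (Nat.card (zpowers a)).Coprime (Nat.card X) := fun {X} hX {a} ha =>
      (K.coprime_sub (Subgroup.zpowers_le.2 ha) hWF.2.1).coprime_dvd_right (Subgroup.card_dvd_of_le hX)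
    have hWS : W = S := by
      refine le_antisymm ?_ (sup_le (sup_le (Coprime.commutator_le_left_of_le_normalizer (hzA (hB.1 hb)))
        (Coprime.commutator_le_left_of_le_normalizer (hzA (hB.1 hb')))) inf_le_left)
      refine (Coprime.commutator_sup_centralizer (hzA (hB.1 hb)) (hcopz le_rfl (hB.1 hb))
        (Or.inr hWF.1)).ge.trans (sup_le (le_sup_left.trans le_sup_left) ?_)
      have hW2 : W ⊓ centralizer (zpowers b : Set G) ≤ W := inf_le_left
      refine (Coprime.commutator_sup_centralizer (Coprime.le_normalizer_inf_of_le (hzA (hB.1 hb'))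
        ((Subgroup.zpowers_le.2 (hB.1 hb')).trans (K.le_normalizer_centralizer (Subgroup.zpowers_le.2 (hB.1 hb)))))
        (hcopz inf_le_left (hB.1 hb')) (Or.inr (Coprime.isSolvable_of_le hW2 hWF.1))).ge.trans (sup_le ?_ ?_)
      · exact (Subgroup.commutator_mono hW2 le_rfl).trans (le_sup_right.trans le_sup_left)
      · refine le_trans (le_inf (inf_le_left.trans inf_le_left) ?_) le_sup_right
        intro x hx
        refine Subgroup.mem_centralizer_iff.2 fun y hy => Subgroup.mem_centralizer_singleton_iff.1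
          (K.line_le_of_mem hB hb hb' hb1 hb'b ?_ ?_ hy : y ∈ centralizer {x})
        · exact Subgroup.mem_centralizer_singleton_iff.2
            (Subgroup.mem_centralizer_iff.1 hx.1.2 b (Subgroup.mem_zpowers b))
        · exact Subgroup.mem_centralizer_singleton_iff.2
            (Subgroup.mem_centralizer_iff.1 hx.2 _ (Subgroup.mem_zpowers _))
    rw [hWS]
    refine le_normalizer_sup₂ (le_normalizer_sup₂ ?_ ?_) hCB
    · exact (Signalizer.signalizerInf_le hb hb1).trans (hgood b (hB.1 hb) hb0).1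
    · exact (Signalizer.signalizerInf_le hb' (hne1 hb'0)).trans (hgood _ (hB.1 hb') hb'0).1
  · push Not at hfull
    have hYB : ∀ e ∈ B₀, e ≠ 1 → W ⊓ centralizer {e} ≤ centralizer (B₀ : Set G) := by
      intro e he he1
      obtain ⟨H, hH, heH⟩ := K.exists_max_theta (hB₀.1 he) he1
      have hH0 : pOf q H = ⊥ := hfull e he he1 H hH heH
      set Y := W ⊓ centralizer {e} with hY
      have hYH : Y ≤ H := (hWF.2.2.2 e (hB₀.1 he) he1).trans heH
      have hYA : A ≤ normalizer (Y : Set G) := Coprime.le_normalizer_inf_centralizer_singleton hWA (hB₀.1 he)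
      rw [Subgroup.le_centralizer_iff]
      intro b hb
      have hbA := hB₀.1 hb
      have hbY : zpowers b ≤ normalizer (Y : Set G) := (Subgroup.zpowers_le.2 hbA).trans hYA
      set P := ⁅Y, zpowers b⁆ with hP
      have hPY : P ≤ Y := Coprime.commutator_le_left_of_le_normalizer hbY
      have hPq : IsPGroup q P := hWq.to_le (hPY.trans inf_le_left)
      suffices h0 : P = ⊥ from Subgroup.mem_centralizer_iff.2 fun y hy =>
        Subgroup.mem_centralizer_singleton_iff.1 (le_centralizer_singleton_of_commutator h0 hy)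
      refine le_bot_iff.1 (le_trans (le_pOf_of_centralizer_cores hH.1.1 (hPY.trans hYH) hPq fun s hs => ?_) hH0.le)
      haveI := Fact.mk hs
      rcases eq_or_ne s q with rfl | hsq
      · rw [hH0]; intro x _; exact Subgroup.mem_centralizer_iff.2 fun z hz => by
          rw [Subgroup.mem_bot.1 hz, one_mul, mul_one]
      set F := pOf s H with hF
      have hFA : A ≤ normalizer (F : Set G) := K.pOf_inv hH.1 s
      have hFF := K.pOf_mem hH.1 s
      have hYF : Y ≤ normalizer (F : Set G) := hYH.trans (OddOrder.le_normalizer_pOf H)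
      have hout : ∀ L, IsLine p A L → L ≠ B₀ → F ⊓ centralizer (L : Set G) ≤ centralizer (Y : Set G) := by
        intro L hL hne
        obtain ⟨c, hcL, hc0, hc1⟩ := K.exists_not_mem_of_ne hB₀ hL hne
        obtain ⟨Hc, hHc, hcHc, hWc⟩ := hgoodQ c (hL.1 hcL) hc1 (hnotbad c (hL.1 hcL) hc0)
        refine (inf_le_inf_left F (Subgroup.centralizer_le (Set.singleton_subset_iff.2 hcL))).trans ?_
        intro x hx
        refine Subgroup.mem_centralizer_iff.2 fun y hy => commutatorElement_eq_one_iff_mul_comm.1 ?_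
        have hxn : x ∈ normalizer (pOf q Hc : Set G) :=
          OddOrder.le_normalizer_pOf Hc (hcHc (hFF.2.2.2 c (hL.1 hcL) hc1 hx))
        have hyQ : y ∈ pOf q Hc := hWc hy.1
        have h1 : ⁅y, x⁆ ∈ F ⊓ pOf q Hc := by
          refine ⟨?_, ?_⟩
          · rw [commutatorElement_def]
            exact F.mul_mem ((mem_normalizer_iff.1 (hYF hy) x).1 hx.1) (F.inv_mem hx.1)
          · rw [commutatorElement_def, mul_assoc y, mul_assoc]
            exact Subgroup.mul_mem _ hyQ ((mem_normalizer_iff.1 hxn _).1 (Subgroup.inv_mem _ hyQ))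
        rwa [OddOrder.inf_eq_bot_of_pgroup hsq (OddOrder.isPGroup_pOf H) (OddOrder.isPGroup_pOf Hc),
          Subgroup.mem_bot] at h1
      set F₀ := ⁅F, zpowers b⁆ with hF₀
      have hF₀Y : F₀ ≤ centralizer (Y : Set G) := by
        refine K.commutator_zpowers_le hbA hFA hFF.2.1 hFF.1 fun L hL => ?_
        by_cases hne : L = B₀
        · subst hne
          rw [Subgroup.commutator_eq_bot_iff_le_centralizer.2
            (inf_le_right.trans (Subgroup.centralizer_le (Subgroup.zpowers_le.2 hb)))]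
          exact bot_le
        · exact (Coprime.commutator_le_left_of_le_normalizer ((Subgroup.zpowers_le.2 hbA).trans
            (Coprime.le_normalizer_inf_of_le hFA (K.le_normalizer_centralizer hL.1)))).trans (hout L hL hne)
      have hYF₀ : Y ≤ normalizer (F₀ : Set G) :=
        (Subgroup.le_centralizer_iff.1 hF₀Y).trans (Subgroup.centralizer_le_normalizer _)
      have h3 : ⁅P, F⁆ ≤ F₀ := by
        refine Coprime.three_subgroup_le hYF₀ (Subgroup.normalizer_commutator_ge_right F _)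
          (Subgroup.normalizer_commutator_ge_left F _) ?_ ?_
        · rw [Subgroup.commutator_comm (zpowers b) F, Subgroup.commutator_eq_bot_iff_le_centralizer.2 hF₀Y]
          exact bot_le
        · exact Subgroup.commutator_mono (Coprime.commutator_le_left_of_le_normalizer hYF) le_rfl
      exact Coprime.le_centralizer_of_series (hPY.trans hYF) (coprime_card_of_isPGroup hsq.symm hPq
        (OddOrder.isPGroup_pOf H)) (Or.inr hFF.1) ((Subgroup.commutator_comm F P).le.trans h3)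
        (hPY.trans (Subgroup.le_centralizer_iff.1 hF₀Y))
    have hWB : W ≤ centralizer (B₀ : Set G) :=
      K.le_of_points hB₀ (hB₀.1.trans hWA) hWF.2.1 hYB
    have hWA_eq : ∀ c ∈ A, c ∉ B₀ → ⁅W, zpowers c⁆ = ⁅W, A⁆ := by
      intro c hc hc0
      refine le_antisymm (Subgroup.commutator_mono le_rfl (Subgroup.zpowers_le.2 hc)) ?_
      have hle : A ≤ ⨆ j, ![B₀, zpowers c] j := by
        by_contra hne
        have hle' : B₀ ⊔ zpowers c ≤ A := sup_le hB₀.1 (Subgroup.zpowers_le.2 hc)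
        obtain ⟨L, hL, h⟩ := K.exists_line_ge hle' fun e => hne (e.ge.trans
          (sup_le (le_iSup ![B₀, zpowers c] 0) (le_iSup ![B₀, zpowers c] 1)))
        have := Subgroup.eq_of_le_of_card_ge (le_sup_left.trans h) (by rw [hB₀.2, hL.2])
        exact hc0 (this.ge (h (Subgroup.mem_sup_right (Subgroup.mem_zpowers c))))
      refine (Subgroup.commutator_mono (le_iSup (fun _ : Unit => W) ()) hle).trans
        (Signalizer.GenFixed.commutator_le_of_gen _ (fun _ : Unit => W) ![B₀, zpowers c]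
          (fun _ => Subgroup.normalizer_commutator_ge_left W _)
          (fun j => ?_) fun _ j x hx y hy => ?_)
      · exact le_trans (by fin_cases j <;> simp [hB₀.1, Subgroup.zpowers_le.2 hc])
          (le_normalizer_commutator₂ hWA (K.le_normalizer_of_sub (Subgroup.zpowers_le.2 hc)))
      · fin_cases j
        · have h1 : ⁅x, y⁆ = 1 := commutatorElement_eq_one_iff_mul_comm.2
            (Subgroup.mem_centralizer_iff.1 (hWB hx) y hy).symm
          rw [h1]; exact Subgroup.one_mem _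
        · exact Subgroup.commutator_mem_commutator hx hy
    have hT1 : ⁅W, A⁆ ≠ ⊥ := hWA_eq c₀ hc₀ hc₀0 ▸ (hgood c₀ hc₀ hc₀0).2
    obtain ⟨M, hM, hMle⟩ := K.exists_max_normalizing (hWA_eq c₀ hc₀ hc₀0 ▸ K.commutator_mem hWF hc₀) hT1
    refine K.cor hB₀ hM.1 fun B hB hne => hMle _ (K.inf_mem_line hB) ?_
    obtain ⟨b, hb, hb0, hb1⟩ := K.exists_not_mem_of_ne hB₀ hB hne
    exact (Signalizer.signalizerInf_le hb hb1).trans (hWA_eq b (hB.1 hb) hb0 ▸ (hgood b (hB.1 hb) hb0).1)

/-- The nonmovers do not lie on a line. -/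
theorem not_collinear {B₀ : Subgroup G} (hB₀ : IsLine p A B₀) :
    ∃ c ∈ A, c ∉ B₀ ∧ IsNonmover p A θ c := by
  by_contra h
  push Not at h
  have hmov : ∀ c ∈ A, c ∉ B₀ → ∃ t, IsMover p A θ c t := fun c hc hc0 => by
    have := h c hc hc0
    simpa [IsNonmover] using this
  obtain ⟨c, hc, hc0⟩ := K.exists_not_mem_line hB₀
  obtain ⟨t, ht⟩ := hmov c hc hc0
  haveI := Fact.mk ht.1
  obtain ⟨M, -, -, -, hW, -⟩ := K.mover_data hc (fun e => hc0 (e ▸ B₀.one_mem)) ht
  by_cases h2 : ∃ u : ℕ, u.Prime ∧ u ≠ t ∧ wCap p A θ u ≠ ⊥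
  · obtain ⟨u, hu, hut, hWu⟩ := h2
    haveI := Fact.mk hu
    exact K.collinear_two_colours hB₀ hmov hut hWu hW
  · push Not at h2
    exact K.collinear_one_colour hB₀ hmov (q := t) fun u hu hWu => by_contra fun hut => hWu (h2 u hu hut)

end CE

end Cfsg.Agent.SSFT
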