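import Cfsg.Agent.Lib.Coprime.Sylow
import Cfsg.Agent.Lib.Solvable.Hall
import Cfsg.Agent.Lib.Components.Fitting

/-!
# Invariant complements to a Sylow subgroup in a solvable group

* `exists_invariant_complement`: a coprime operator group of a solvable `K` leaves a `t`-complement invariant;
* `le_invariant_complement`: it contains every invariant `t'`-subgroup normalised by the fixed points.
-/

set_option autoImplicit false
set_option linter.style.haveILetI false

namespace Cfsg.Agent.SSFT

open Subgroup (centralizer normalizer)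
open scoped Pointwise

/-- An `A`-invariant Hall `t'`-subgroup. -/
theorem exists_invariant_complement {G : Type*} [Group G] [Finite G] {t : ℕ} [Fact t.Prime]
    {A K : Subgroup G} [IsMulCommutative A] (hAK : A ≤ normalizer (K : Set G))
    (hcop : (Nat.card A).Coprime (Nat.card K)) (hKs : Group.IsSolvable K) :
    ∃ S : Subgroup G, S ≤ K ∧ A ≤ normalizer (S : Set G) ∧ ¬ t ∣ Nat.card S ∧
      ∃ k, S.relIndex K = t ^ k := by
  haveI := hKs
  obtain ⟨H₀, hidx, hH₀⟩ := Solvable.exists_pComplement (G := ↥K) (Fact.out : t.Prime)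
  set H := H₀.map K.subtype with hH
  have hHK : H ≤ K := Subgroup.map_subtype_le _
  have hmul : Nat.card K = Nat.card H₀ * t ^ (Nat.card K).factorization t := by
    rw [← hidx, H₀.card_mul_index]
  have hcopH : (Nat.card H₀).Coprime (t ^ (Nat.card K).factorization t) :=
    Nat.Coprime.pow_right _ ((Fact.out : t.Prime).coprime_iff_not_dvd.mpr hH₀).symm
  obtain ⟨k, hk, hkA⟩ := Coprime.exists_conj_le_of_le_mul (W := normalizer (H : Set G)) hAK hcop
    (Or.inr hKs) (by
      intro a ha
      have hle : MulAut.conj a • H ≤ K := by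
        rw [← Coprime.conj_smul_eq_self_of_mem (hAK ha)]
        exact Subgroup.pointwise_smul_le_pointwise_smul_iff.2 hHK
      have hc : Nat.card ((MulAut.conj a • H).subgroupOf K) = Nat.card H₀ := by
        rw [Coprime.card_subgroupOf hle, Coprime.card_conj_smul, hH,
          Subgroup.card_map_of_injective K.subtype_injective]
      obtain ⟨g, hg⟩ := Solvable.exists_conj_eq_hall hmul hcopH (H := H₀) rfl hc
      refine ⟨g, g.2, Coprime.mem_normalizer_of_conj_smul_eq ?_⟩
      have h1 := congrArg (fun T : Subgroup ↥K => T.map K.subtype) hg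
      simp only [Coprime.map_conj_smul, K.coe_subtype, Subgroup.map_subgroupOf_eq_of_le hle] at h1
      rw [← Coprime.conj_smul_smul, ← h1, Coprime.conj_smul_smul, inv_mul_cancel, map_one, one_smul])
  have hle : MulAut.conj k • H ≤ K := by
    rw [← Coprime.conj_smul_eq_self_of_mem (Subgroup.le_normalizer hk)]
    exact Subgroup.pointwise_smul_le_pointwise_smul_iff.2 hHK
  refine ⟨MulAut.conj k • H, hle, fun a ha => Coprime.mem_normalizer_of_conj_smul_eq ?_, ?_,
    (Nat.card K).factorization t, ?_⟩
  · have h1 := hkA ha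
    rw [Coprime.mem_conj_smul_iff] at h1
    rw [Coprime.conj_smul_smul, show a * k = k * (k⁻¹ * a * k) by group, ← Coprime.conj_smul_smul,
      Coprime.conj_smul_eq_self_of_mem h1]
  · rw [Coprime.card_conj_smul, hH, Subgroup.card_map_of_injective K.subtype_injective]
    exact hH₀
  · refine Nat.eq_of_mul_eq_mul_left (Nat.card_pos (α := H₀)) ?_
    have h2 : Nat.card (MulAut.conj k • H : Subgroup G) = Nat.card H₀ := by
      rw [Coprime.card_conj_smul, hH, Subgroup.card_map_of_injective K.subtype_injective]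
    rw [← hmul, ← h2, ← Coprime.card_subgroupOf hle, Subgroup.relIndex, Subgroup.card_mul_index]

/-- The invariant complement absorbs invariant `t'`-subgroups normalised by the fixed points. -/
theorem le_invariant_complement {G : Type*} [Group G] [Finite G] {t : ℕ} [Fact t.Prime]
    {A K : Subgroup G} [IsMulCommutative A] (hAK : A ≤ normalizer (K : Set G))
    (hcop : (Nat.card A).Coprime (Nat.card K)) (hKs : Group.IsSolvable K) {S Y : Subgroup G}
    (hSK : S ≤ K) (hAS : A ≤ normalizer (S : Set G)) (hSt : ¬ t ∣ Nat.card S)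
    (hidx : ∃ k, S.relIndex K = t ^ k) (hYK : Y ≤ K) (hAY : A ≤ normalizer (Y : Set G))
    (hfix : K ⊓ centralizer (A : Set G) ≤ normalizer (Y : Set G)) (hYt : ¬ t ∣ Nat.card Y) :
    Y ≤ S := by
  rw [← Subgroup.subgroupOf_eq_top]
  refine Components.eq_top_of_forall_sylow fun r hr hd => ?_
  haveI := Fact.mk hr
  have hrt : r ≠ t := fun h => hYt (h ▸ hd)
  obtain ⟨Q, hQA⟩ := Coprime.exists_invariant_sylow hAY
    (hcop.coprime_dvd_right (Subgroup.card_dvd_of_le hYK))
    (Or.inr (Coprime.isSolvable_of_le hYK hKs)) r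
  obtain ⟨R, hRA⟩ := Coprime.exists_invariant_sylow hAS
    (hcop.coprime_dvd_right (Subgroup.card_dvd_of_le hSK))
    (Or.inr (Coprime.isSolvable_of_le hSK hKs)) r
  set R₁ := (R : Subgroup ↥S).map S.subtype with hR₁
  have hR₁K : R₁ ≤ K := (Subgroup.map_subtype_le _).trans hSK
  let RK : Sylow r ↥K := Sylow.ofCard (R₁.subgroupOf K) (by
    rw [Coprime.card_subgroupOf hR₁K, hR₁, Subgroup.card_map_of_injective S.subtype_injective,
      R.card_eq_multiplicity]
    obtain ⟨k, hk⟩ := hidx
    have hc : Nat.card K = Nat.card S * t ^ k := by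
      rw [← hk, ← Coprime.card_subgroupOf hSK, Subgroup.relIndex, Subgroup.card_mul_index]
    rw [hc, Nat.factorization_mul Nat.card_pos.ne' (pow_ne_zero _ (Fact.out : t.Prime).ne_zero),
      Finsupp.add_apply, Nat.Prime.factorization_pow (Fact.out : t.Prime),
      Finsupp.single_apply, if_neg (Ne.symm hrt), add_zero])
  have hRK : (RK : Subgroup ↥K).map K.subtype = R₁ := Subgroup.map_subgroupOf_eq_of_le hR₁K
  set Q₁ := (Q : Subgroup ↥Y).map Y.subtype with hQ₁
  have hQ₁Y : Q₁ ≤ Y := Subgroup.map_subtype_le _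
  obtain ⟨P, hQP, hPA⟩ := Coprime.exists_invariant_sylow_ge hAK hcop (Or.inr hKs)
    (hQ₁Y.trans hYK) (Q.2.map _) hQA
  obtain ⟨c, hcA, hcP⟩ := Coprime.exists_centralizer_smul_sylow hAK hcop (Or.inr hKs) P RK hPA
    (hRK.symm ▸ hRA)
  have hcY : (c : G) ∈ normalizer (Y : Set G) := hfix ⟨c.2, hcA⟩
  have h1 : MulAut.conj (c : G) • Q₁ ≤ S := by
    refine le_trans ?_ (Subgroup.map_subtype_le (R : Subgroup ↥S))
    rw [← hR₁, ← hRK, ← hcP, Sylow.coe_subgroup_smul, Coprime.map_conj_smul, K.coe_subtype]
    exact Subgroup.pointwise_smul_le_pointwise_smul_iff.2 hQP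
  have h2 : MulAut.conj (c : G) • Q₁ ≤ Y := by
    rw [← Coprime.conj_smul_eq_self_of_mem hcY]
    exact Subgroup.pointwise_smul_le_pointwise_smul_iff.2 hQ₁Y
  refine ⟨Sylow.ofCard ((MulAut.conj (c : G) • Q₁).subgroupOf Y) (by
    rw [Coprime.card_subgroupOf h2, Coprime.card_conj_smul, hQ₁,
      Subgroup.card_map_of_injective Y.subtype_injective]
    exact Q.card_eq_multiplicity), fun y hy => ?_⟩
  exact h1 hy

end Cfsg.Agent.SSFT
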