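import Cfsg.Agent.Lib.SSFT.Basic
import Cfsg.Agent.Lib.Signalizer.GenFixed
import Cfsg.Agent.Lib.Coprime.ThreeSubgroup

/-!
# Generation of commutators by centralisers

`[X, Z]` is generated by the `[C_X(c), Z]` when `c` runs over a noncyclic group centralising the coprime operator
group `Z`.
-/

set_option linter.unusedSectionVars false
set_option linter.style.haveILetI false
set_option autoImplicit false

namespace Cfsg.Agent.SSFT

open Cfsg
open Subgroup (normalizer centralizer zpowers mem_normalizer_iff)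
open scoped Pointwise commutatorElement
open Cfsg.Agent.Signalizer.GenFixed (der der_le exists_der_eq_bot le_normalizer_der commutator_le_of_gen)

universe w
variable {G : Type w} [Group G] [Finite G]

/-- `[X, Z] = ⟨[C_X(c), Z] : c ∈ L⟩`. -/
theorem commutator_le_of_points {L X Z T : Subgroup G} [IsMulCommutative L] (hL : ¬ IsCyclic L)
    (hLX : L ≤ normalizer (X : Set G)) (hcopL : (Nat.card L).Coprime (Nat.card X))
    (hZX : Z ≤ normalizer (X : Set G)) (hcopZ : (Nat.card Z).Coprime (Nat.card X))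
    (hLZ : L ≤ centralizer (Z : Set G)) (hs : Group.IsSolvable X)
    (h : ∀ c ∈ L, c ≠ 1 → ⁅X ⊓ centralizer {c}, Z⁆ ≤ T) : ⁅X, Z⁆ ≤ T := by
  set M := ⁅X, Z⁆ with hM
  have hMX : M ≤ X := Coprime.commutator_le_left_of_le_normalizer hZX
  have hMZ : ⁅M, Z⁆ = M := Coprime.commutator_commutator_eq hZX hcopZ (Or.inr hs)
  have hMs : Group.IsSolvable M := Coprime.isSolvable_of_le hMX hs
  have hLM : L ≤ normalizer (M : Set G) :=
    le_normalizer_commutator₂ hLX (hLZ.trans (Subgroup.centralizer_le_normalizer _))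
  have hZM : Z ≤ normalizer (M : Set G) := Subgroup.normalizer_commutator_ge_right X Z
  set S := ⨆ c : {c : G // c ∈ L ∧ c ≠ 1}, ⁅M ⊓ centralizer {(c : G)}, Z⁆ with hS
  have hST : S ≤ T := iSup_le fun c =>
    (Subgroup.commutator_mono (inf_le_inf_right _ hMX) le_rfl).trans (h c c.2.1 c.2.2)
  have hSM : S ≤ M := iSup_le fun c => (Subgroup.commutator_mono inf_le_left le_rfl).trans hMZ.le
  have hSZ : Z ≤ normalizer (S : Set G) :=
    le_normalizer_iSup' _ fun c => Subgroup.normalizer_commutator_ge_right _ _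
  obtain ⟨d, hd⟩ := exists_der_eq_bot hMs
  suffices key : ∀ i, M ≤ S ⊔ der M i by
    have := key d
    rw [hd, sup_bot_eq] at this
    exact this.trans hST
  intro i
  induction i with
  | zero => exact le_sup_right
  | succ i ih =>
    set V := der M i
    set N₁ := der M (i + 1)
    set T₁ := S ⊔ N₁
    set W := T₁ ⊓ V with hW
    have hVM : V ≤ M := der_le M i
    have hN₁V : N₁ ≤ V := Subgroup.commutator_le.2 fun x hx y hy => by
      rw [commutatorElement_def]; exact mul_mem (mul_mem (mul_mem hx hy) (inv_mem hx)) (inv_mem hy)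
    have hMV : M ≤ normalizer (V : Set G) := le_normalizer_der Subgroup.le_normalizer i
    have hMN : M ≤ normalizer (N₁ : Set G) := le_normalizer_der Subgroup.le_normalizer (i + 1)
    have hN₁W : N₁ ≤ W := le_inf le_sup_right hN₁V
    have hVW : V ≤ normalizer (W : Set G) := by
      have key2 : ∀ v ∈ V, ∀ x ∈ W, v * x * v⁻¹ ∈ W := fun v hv x hx => by
        have h1 : ⁅v, x⁆ ∈ W := hN₁W (Subgroup.commutator_mem_commutator hv hx.2)
        simpa [commutatorElement_def] using W.mul_mem h1 hx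
      exact Signalizer.le_normalizer_of_conj_mem key2
    have hSW : S ≤ normalizer (W : Set G) :=
      Coprime.le_normalizer_inf_of_le (le_sup_left.trans Subgroup.le_normalizer) (hSM.trans hMV)
    have hMW : M ≤ normalizer (W : Set G) := ih.trans (sup_le hSW hVW)
    have hZW : Z ≤ normalizer (W : Set G) :=
      Coprime.le_normalizer_inf_of_le (le_normalizer_sup₂ hSZ (le_normalizer_der hZM (i + 1)))
        (le_normalizer_der hZM i)
    have hVZ : ⁅V, Z⁆ ≤ W := by
      have hgen : V ≤ ⨆ c : {c : G // c ∈ L ∧ c ≠ 1}, V ⊓ centralizer {(c : G)} := by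
        have := Coprime.eq_of_forall_centralizer_le hL (le_normalizer_der hLM i)
          (hcopL.coprime_dvd_right (Subgroup.card_dvd_of_le (hVM.trans hMX)))
          (iSup_le fun _ => inf_le_left) fun c hc hc1 =>
            le_iSup (fun c : {c : G // c ∈ L ∧ c ≠ 1} => V ⊓ centralizer {(c : G)}) ⟨c, hc, hc1⟩
        exact this.ge
      refine (Subgroup.commutator_mono hgen (le_iSup (fun _ : Unit => Z) ())).trans
        (commutator_le_of_gen W _ _ (fun _ => inf_le_left.trans hVW) (fun _ => hZW) fun c _ x hx z hz => ?_)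
      have h1 : ⁅x, z⁆ ∈ ⁅M ⊓ centralizer {(c : G)}, Z⁆ :=
        Subgroup.commutator_mem_commutator ⟨hVM hx.1, hx.2⟩ hz
      exact ⟨Subgroup.mem_sup_left (le_iSup (fun c : {c : G // c ∈ L ∧ c ≠ 1} =>
          ⁅M ⊓ centralizer {(c : G)}, Z⁆) c h1),
        Coprime.commutator_le_left_of_le_normalizer (le_normalizer_der hZM i)
          (Subgroup.commutator_mem_commutator hx.1 hz)⟩
    have hMVW : ⁅M, V⁆ ≤ W := by
      rw [← hMZ]
      refine Coprime.three_subgroup_le hMW hZW hVW ?_ ?_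
      · exact (Subgroup.commutator_mono ((Subgroup.commutator_comm Z V).le.trans hVZ) le_rfl).trans
          (Coprime.commutator_le_left_of_le_normalizer hMW)
      · exact (Subgroup.commutator_mono (Coprime.commutator_le_left_of_le_normalizer hMV) le_rfl).trans hVZ
    have hVT : V ≤ normalizer (T₁ : Set G) := by
      refine Signalizer.le_normalizer_of_conj_mem fun v hv x hx => ?_
      have hxM : x ∈ M := (sup_le hSM (hN₁V.trans hVM)) hx
      have h1 : ⁅x, v⁆ ∈ T₁ := (hMVW (Subgroup.commutator_mem_commutator hxM hv)).1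
      have e : v * x * v⁻¹ = ⁅x, v⁆⁻¹ * x := by rw [commutatorElement_def]; group
      rw [e]
      exact mul_mem (inv_mem h1) hx
    have hST₁ : S ≤ normalizer (T₁ : Set G) := le_sup_left.trans Subgroup.le_normalizer
    have hZT : Z ≤ normalizer (T₁ : Set G) := le_normalizer_sup₂ hSZ (le_normalizer_der hZM (i + 1))
    let H : Fin 2 → Subgroup G := ![S, V]
    have hgenM : M ≤ ⨆ j, H j := ih.trans (sup_le (le_iSup H 0) (le_iSup H 1))
    rw [← hMZ]
    refine (Subgroup.commutator_mono hgenM (le_iSup (fun _ : Unit => Z) ())).trans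
      (commutator_le_of_gen T₁ H (fun _ : Unit => Z) (fun j => ?_) (fun _ => hZT) fun j _ x hx z hz => ?_)
    · fin_cases j
      · exact hST₁
      · exact hVT
    · fin_cases j
      · exact Subgroup.mem_sup_left (Coprime.commutator_le_left_of_le_normalizer hSZ
          (Subgroup.commutator_mem_commutator hx hz))
      · exact (hVZ (Subgroup.commutator_mem_commutator hx hz)).1

namespace Setting

variable {p : ℕ} [hpF : Fact p.Prime] {A : Subgroup G} {θ : G → Subgroup G}
variable (S : Setting p A θ)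
include S

/-- A subgroup containing two independent elements of a line contains the line. -/
theorem line_le_of_mem {L K : Subgroup G} (hL : IsLine p A L) {b d : G} (hb : b ∈ L) (hd : d ∈ L) (hb1 : b ≠ 1)
    (hd' : d ∉ zpowers b) (hbK : b ∈ K) (hdK : d ∈ K) : L ≤ K := by
  set B := zpowers b ⊔ zpowers d with hB
  have hBL : B ≤ L := sup_le (Subgroup.zpowers_le.2 hb) (Subgroup.zpowers_le.2 hd)
  have hbA : b ∈ A := hL.1 hb
  have hlt : Nat.card (zpowers b) < Nat.card B := by
    refine lt_of_le_of_ne (Subgroup.card_le_of_le le_sup_left) fun h => hd' ?_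
    exact (Subgroup.eq_of_le_of_card_ge le_sup_left h.ge).ge (Subgroup.mem_sup_right (Subgroup.mem_zpowers d))
  obtain ⟨k, hk⟩ := (S.isPGroup.to_le (hBL.trans hL.1)).exists_card_eq
  rw [S.card_zpowers hbA hb1, hk] at hlt
  have hk2 : 2 ≤ k := by
    by_contra hk'
    have : p ^ k ≤ p ^ 1 := Nat.pow_le_pow_right hpF.out.pos (by omega)
    rw [pow_one] at this
    omega
  have : B = L := Subgroup.eq_of_le_of_card_ge hBL (by
    rw [hk, hL.2]; exact Nat.pow_le_pow_right hpF.out.pos hk2)
  exact this ▸ sup_le (Subgroup.zpowers_le.2 hbK) (Subgroup.zpowers_le.2 hdK)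

theorem exists_line_pair {b d : G} (hb : b ∈ A) (hd : d ∈ A) :
    ∃ L, IsLine p A L ∧ b ∈ L ∧ d ∈ L := by
  haveI := S.isMulCommutative
  have hn : zpowers b ≤ normalizer ((zpowers d : Subgroup G) : Set G) :=
    (Subgroup.zpowers_le.2 hb).trans (S.le_normalizer_of_sub (Subgroup.zpowers_le.2 hd))
  set B := zpowers b ⊔ zpowers d
  have hBA : B ≤ A := sup_le (Subgroup.zpowers_le.2 hb) (Subgroup.zpowers_le.2 hd)
  have hne : B ≠ A := by
    intro h
    have h1 : B.relIndex B = 1 := Subgroup.relIndex_self _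
    have e := Subgroup.relIndex_mul_relIndex ⊥ (zpowers d) B bot_le le_sup_right
    rw [Subgroup.relIndex_bot_left, Subgroup.relIndex_bot_left,
      Coprime.relIndex_sup_right_of_le_normalizer hn] at e
    have h2 : (zpowers d).relIndex (zpowers b) ≤ p := Nat.le_of_dvd hpF.out.pos
      ((Subgroup.relIndex_dvd_card _ _).trans (by
        rw [Nat.card_zpowers]; exact orderOf_dvd_of_pow_eq_one (S.pow_eq hb)))
    have h3 : Nat.card (zpowers d) ≤ p := Nat.le_of_dvd hpF.out.pos (by
      rw [Nat.card_zpowers]; exact orderOf_dvd_of_pow_eq_one (S.pow_eq hd))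
    have h4 := Nat.mul_le_mul h3 h2
    rw [e, h, S.card] at h4
    have := hpF.out.two_le
    nlinarith [pow_succ p 2, Nat.pos_of_ne_zero (pow_ne_zero 2 hpF.out.ne_zero)]
  obtain ⟨L, hL, hBL⟩ := S.exists_line_ge hBA hne
  exact ⟨L, hL, hBL (Subgroup.mem_sup_left (Subgroup.mem_zpowers b)),
    hBL (Subgroup.mem_sup_right (Subgroup.mem_zpowers d))⟩

theorem exists_not_mem_line {L : Subgroup G} (hL : IsLine p A L) : ∃ c ∈ A, c ∉ L := by
  by_contra h
  push Not at h
  have := Subgroup.card_le_of_le (show A ≤ L from h)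
  rw [S.card, hL.2] at this
  exact absurd this (not_le.2 (Nat.pow_lt_pow_right hpF.out.one_lt (by norm_num)))

theorem exists_mem_line_not_mem_zpowers {L : Subgroup G} (hL : IsLine p A L) {b : G} (hb : b ∈ A) :
    ∃ a ∈ L, a ∉ zpowers b := by
  by_contra h
  push Not at h
  have h1 : Nat.card L ∣ p := (Subgroup.card_dvd_of_le (show L ≤ zpowers b from h)).trans
    (by rw [Nat.card_zpowers]; exact orderOf_dvd_of_pow_eq_one (S.pow_eq hb))
  have := Nat.le_of_dvd hpF.out.pos h1
  rw [hL.2] at this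
  nlinarith [hpF.out.two_le]

theorem exists_line_not_mem {b : G} (hb : b ∈ A) (hb1 : b ≠ 1) : ∃ L, IsLine p A L ∧ b ∉ L := by
  obtain ⟨L, hL, hbL⟩ := S.exists_line_mem hb
  obtain ⟨c, hc, hcL⟩ := S.exists_not_mem_line hL
  obtain ⟨a, haL, hab⟩ := S.exists_mem_line_not_mem_zpowers hL hb
  obtain ⟨L₁, hL₁, haL₁, hcL₁⟩ := S.exists_line_pair (hL.1 haL) hc
  refine ⟨L₁, hL₁, fun hbL₁ => hcL ?_⟩
  have h1 := S.line_le_of_mem hL hbL haL hb1 hab hbL₁ haL₁
  exact (Subgroup.eq_of_le_of_card_ge h1 (by rw [hL.2, hL₁.2])).ge hcL₁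

/-- `[X, Z] = ⟨[C_X(L), Z] : L line⟩`. -/
theorem commutator_le_of_lines {X Z T : Subgroup G} (hAX : A ≤ normalizer (X : Set G)) (hXp : ¬ p ∣ Nat.card X)
    (hs : Group.IsSolvable X) (hZX : Z ≤ normalizer (X : Set G)) (hcopZ : (Nat.card Z).Coprime (Nat.card X))
    (hAZ : A ≤ centralizer (Z : Set G))
    (h : ∀ L, IsLine p A L → ⁅X ⊓ centralizer (L : Set G), Z⁆ ≤ T) : ⁅X, Z⁆ ≤ T := by
  haveI := S.isMulCommutative
  obtain ⟨L₀, hL₀, -⟩ := S.exists_line_mem A.one_mem
  haveI := S.isMulCommutative_sub hL₀.1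
  refine commutator_le_of_points (S.not_isCyclic_line hL₀) (hL₀.1.trans hAX) (S.coprime_sub hL₀.1 hXp) hZX hcopZ
    (hL₀.1.trans hAZ) hs fun b hb hb1 => ?_
  obtain ⟨L₁, hL₁, hbL₁⟩ := S.exists_line_not_mem (hL₀.1 hb) hb1
  haveI := S.isMulCommutative_sub hL₁.1
  have hdvd := Subgroup.card_dvd_of_le (inf_le_left : X ⊓ centralizer {b} ≤ X)
  have hZb : Z ≤ normalizer ((centralizer {b} : Subgroup G) : Set G) := fun z hz =>
    Subgroup.le_normalizer (Subgroup.mem_centralizer_singleton_iff.2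
      (Subgroup.mem_centralizer_iff.1 (hAZ (hL₀.1 hb)) z hz))
  refine commutator_le_of_points (S.not_isCyclic_line hL₁)
    (hL₁.1.trans (Coprime.le_normalizer_inf_centralizer_singleton hAX (hL₀.1 hb)))
    (S.coprime_sub hL₁.1 fun hd => hXp (hd.trans hdvd))
    (Coprime.le_normalizer_inf_of_le hZX hZb) (hcopZ.coprime_dvd_right hdvd) (hL₁.1.trans hAZ)
    (Coprime.isSolvable_of_le inf_le_left hs) fun d hd hd1 => ?_
  obtain ⟨L, hL, hbL, hdL⟩ := S.exists_line_pair (hL₀.1 hb) (hL₁.1 hd)
  refine le_trans (Subgroup.commutator_mono ?_ le_rfl) (h L hL)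
  intro x hx
  refine ⟨hx.1.1, ?_⟩
  have hdb : d ∉ zpowers b := fun hdb =>
    hbL₁ (Subgroup.zpowers_le.2 hd (S.zpowers_eq (hL₀.1 hb) hb1 hdb hd1 ▸ Subgroup.mem_zpowers b))
  have hLx : L ≤ centralizer {x} := S.line_le_of_mem hL hbL hdL hb1 hdb
    (Subgroup.mem_centralizer_singleton_iff.2 (Subgroup.mem_centralizer_singleton_iff.1 hx.1.2).symm)
    (Subgroup.mem_centralizer_singleton_iff.2 (Subgroup.mem_centralizer_singleton_iff.1 hx.2).symm)
  exact Subgroup.mem_centralizer_iff.2 fun l hl => Subgroup.mem_centralizer_singleton_iff.1 (hLx hl)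

end Setting

end Cfsg.Agent.SSFT
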