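import Cfsg.Agent.Lib.SSFT.Collinear

/-!
# The hub: three noncollinear nonmovers are impossible
-/

set_option linter.unusedSectionVars false
set_option linter.style.haveILetI false
set_option autoImplicit false

namespace Cfsg.Agent.SSFT

open Cfsg
open Subgroup (normalizer centralizer zpowers mem_normalizer_iff)
open scoped Pointwise commutatorElement
open Cfsg.Agent.OddOrder (pOf)

universe w
variable {G : Type w} [Group G] [Finite G]

theorem coprime_two_of_not_dvd {n : ℕ} (h : ¬ 2 ∣ n) : n.Coprime 2 :=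
  (Nat.prime_two.coprime_iff_not_dvd.2 h).symm

theorem not_two_dvd_card_of_isPGroup {u : ℕ} [hu : Fact u.Prime] (h2 : u ≠ 2) {X : Subgroup G}
    (hX : IsPGroup u X) : ¬ 2 ∣ Nat.card X := by
  obtain ⟨k, hk⟩ := hX.exists_card_eq
  rw [hk]
  exact fun h => h2 ((Nat.prime_dvd_prime_iff_eq Nat.prime_two hu.out).1 (Nat.prime_two.dvd_of_dvd_pow h)).symm

theorem not_two_dvd_card_usOf {u s : ℕ} [hu : Fact u.Prime] [hs : Fact s.Prime] (hu2 : u ≠ 2) (hs2 : s ≠ 2)
    (H : Subgroup G) : ¬ 2 ∣ Nat.card (usOf u s H) := by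
  intro hd
  obtain ⟨m, hm⟩ := PCore.exists_card_pCore (p := s) (G := H ⧸ pCore u H)
  have e := Subgroup.relIndex_mul_relIndex ⊥ (pOf u H) (usOf u s H) bot_le (pOf_le_usOf H)
  rw [Subgroup.relIndex_bot_left, Subgroup.relIndex_bot_left] at e
  have e2 : (pOf u H).relIndex (usOf u s H) = s ^ m := by
    rw [OddOrder.pOf, usOf, Subgroup.relIndex_map_map_of_injective _ _ H.subtype_injective,
      PCore.relIndex_comap_mk', hm]
  rw [← e, e2] at hd
  rcases Nat.prime_two.dvd_mul.1 hd with h | h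
  · exact not_two_dvd_card_of_isPGroup hu2 (OddOrder.isPGroup_pOf H) h
  · exact hs2 ((Nat.prime_dvd_prime_iff_eq Nat.prime_two hs.out).1 (Nat.prime_two.dvd_of_dvd_pow h)).symm

variable {p : ℕ} [hpF : Fact p.Prime] {A : Subgroup G} {θ : G → Subgroup G}

/-- The data of the hub `L`. -/
structure IsHub (p : ℕ) (A : Subgroup G) (θ : G → Subgroup G) (L R : Subgroup G) : Prop where
  max : IsMax p A θ L
  maxQ : Signalizer.IsMaxQ p A θ 2 R
  two_le : R ≤ L
  odd_le : ∀ Y ∈ signalizerFamily p A θ, ¬ 2 ∣ Nat.card Y → signalizerInf A θ ≤ normalizer (Y : Set G) → Y ≤ L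

namespace CE

variable (K : CE p A θ)
include K

theorem hub_pOf_le {L R : Subgroup G} (hub : IsHub p A θ L R) {H : Subgroup G} (hH : H ∈ signalizerFamily p A θ)
    (hC : signalizerInf A θ ≤ H) (r : ℕ) [Fact r.Prime] : pOf r H ≤ L := by
  rcases eq_or_ne r 2 with rfl | h2
  · exact (K.le_maxQ (K.pOf_mem hH 2) (OddOrder.isPGroup_pOf H) (K.inf_le_normalizer_pOf hC 2) hub.maxQ).trans
      hub.two_le
  · exact hub.odd_le _ (K.pOf_mem hH r) (not_two_dvd_card_of_isPGroup h2 (OddOrder.isPGroup_pOf H))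
      (K.inf_le_normalizer_pOf hC r)

/-- `O_u(L) ∩ H ≤ O_u(H)`. -/
theorem hub_inf_le {L R : Subgroup G} (hub : IsHub p A θ L R) {H : Subgroup G} (hH : H ∈ signalizerFamily p A θ)
    (hC : signalizerInf A θ ≤ H) {u : ℕ} [Fact u.Prime] (hu2 : u ≠ 2) : pOf u L ⊓ H ≤ pOf u H := by
  refine le_pOf_of_comm hH.1 inf_le_right ((OddOrder.isPGroup_pOf L).to_le inf_le_left) fun s hs hsu y hy k hk => ?_
  haveI := Fact.mk hs
  set T := usOf u s H with hT
  have hTC : signalizerInf A θ ≤ normalizer (T : Set G) := hC.trans (le_normalizer_usOf H)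
  have hTF : T ∈ signalizerFamily p A θ :=
    K.sub_mem hH (usOf_le H) ((K.inv hH).trans (normalizer_le_normalizer_usOf H))
  have hTL : T ≤ L := by
    rcases eq_or_ne s 2 with rfl | hs2
    · obtain ⟨P, hP⟩ := K.sylow_inf hub.maxQ hTF hTC
      refine (usOf_le_sup P).trans (sup_le (K.hub_pOf_le hub hH hC u) ?_)
      rw [hP]
      exact inf_le_left.trans hub.two_le
    · exact hub.odd_le T hTF (not_two_dvd_card_usOf hu2 hs2 H) hTC
  have h1 : ⁅y, k⁆ ∈ pOf u L ⊓ T := by
    refine ⟨?_, ?_⟩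
    · rw [commutatorElement_def, mul_assoc y, mul_assoc]
      exact Subgroup.mul_mem _ hy.1
        ((mem_normalizer_iff.1 (OddOrder.le_normalizer_pOf L (hTL hk)) _).1 (Subgroup.inv_mem _ hy.1))
    · rw [commutatorElement_def]
      exact T.mul_mem ((mem_normalizer_iff.1 (le_normalizer_usOf H hy.2) k).1 hk) (T.inv_mem hk)
  exact le_pOf_of_le_usOf hsu.symm ((OddOrder.isPGroup_pOf L).to_le inf_le_left) inf_le_right h1

theorem hub_wCap_le {L R : Subgroup G} (hub : IsHub p A θ L R) {t : ℕ} [Fact t.Prime] (ht : t ≠ 2) :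
    wCap p A θ t ≤ pOf t L := by
  refine iSup_le fun B => K.pLine_le_pOf hub.max.1 B.2 (hub.odd_le _ (K.pLine_mem B.2)
    (not_two_dvd_card_of_isPGroup ht (K.isPGroup_pLine B.2)) (le_normalizer_iInf' _ fun b => ?_))
  exact K.inf_le_normalizer_pOf (Signalizer.signalizerInf_le (B.2.1 b.2.1) b.2.2) t

/-- Movers have their signalizer in the hub. -/
theorem hub_mover_le {L R : Subgroup G} (hub : IsHub p A θ L R) {c : G} (hc : c ∈ A) (hc1 : c ≠ 1) {t : ℕ}
    (h : IsMover p A θ c t) : θ c ≤ L := by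
  have ht2 : t ≠ 2 := K.mover_odd hc hc1 h
  obtain ⟨M, hM, hcM, -, hW, hMc, hMW⟩ := K.mover_data hc hc1 h
  haveI := Fact.mk h.1
  have hL := hub.max
  set V := pOf t L with hV
  have hWV : wCap p A θ t ≤ V := K.hub_wCap_le hub ht2
  have hWM : wCap p A θ t ≤ pOf t M := hMW t h.1
  have hVne : V ≠ ⊥ := fun e => hW (le_bot_iff.1 (hWV.trans e.le))
  have hMne : pOf t M ≠ ⊥ := fun e => hW (le_bot_iff.1 (hWM.trans e.le))
  have hCM : signalizerInf A θ ≤ M := (Signalizer.signalizerInf_le hc hc1).trans hcM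
  set P := V ⊓ M with hP
  have hPM : P ≤ pOf t M := K.hub_inf_le hub hM.1 hCM ht2
  have hWP : wCap p A θ t ≤ P := le_inf hWV (hWM.trans (OddOrder.pOf_le M))
  have hCV : V ⊓ centralizer (P : Set G) ≤ P := le_inf inf_le_left (hMc _
    (K.sub_mem (K.pOf_mem hL.1 t) inf_le_left (Coprime.le_normalizer_inf_of_le (K.pOf_inv hL.1 t)
      (K.centralizer_inv (Coprime.le_normalizer_inf_of_le (K.pOf_inv hL.1 t) (K.inv hM.1)))))
    (inf_le_right.trans (Subgroup.centralizer_le hWP)))
  have hnormC : ∀ r : ℕ, L ⊓ centralizer (pOf r L : Set G) ∈ signalizerFamily p A θ ∧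
      L ≤ normalizer ((L ⊓ centralizer (pOf r L : Set G) : Subgroup G) : Set G) := fun r =>
    ⟨K.sub_mem hL.1 inf_le_left (Coprime.le_normalizer_inf_of_le (K.inv hL.1) (K.centralizer_inv (K.pOf_inv hL.1 r))),
      Coprime.le_normalizer_inf_of_le Subgroup.le_normalizer
        (Coprime.le_normalizer_centralizer (OddOrder.le_normalizer_pOf L))⟩
  have hC'M : L ⊓ centralizer (V : Set G) ≤ M :=
    hMc _ (hnormC t).1 (inf_le_right.trans (Subgroup.centralizer_le hWV))
  have hcores : ∀ s : ℕ, s.Prime → s ≠ t → pOf s M ≤ pOf s L ∧ pOf s M ≤ centralizer (V : Set G) := by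
    intro s hs hst
    haveI := Fact.mk hs
    have hSL : pOf s M ≤ L := K.hub_pOf_le hub hM.1 hCM s
    have hSP : pOf s M ≤ centralizer (P : Set G) :=
      (OddOrder.pOf_le_centralizer_pOf hst M).trans (Subgroup.centralizer_le hPM)
    have hSV : pOf s M ≤ centralizer (V : Set G) := by
      refine Coprime.le_centralizer_of_pq (p := t) (P := P) ((OddOrder.isPGroup_pOf L).to_le inf_le_left) ?_
        (OddOrder.isPGroup_pOf L) (Subgroup.le_centralizer_iff.1 hSP) (inf_le_left.trans Subgroup.le_normalizer)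
        (hSL.trans (OddOrder.le_normalizer_pOf L)) (hCV.trans (Subgroup.le_centralizer_iff.1 hSP))
      obtain ⟨k, hk⟩ := (OddOrder.isPGroup_pOf (r := s) M).exists_card_eq
      rw [hk]; exact ((Nat.coprime_primes hs h.1).2 hst).pow_left k
    exact ⟨le_pOf_of_normal inf_le_left (hnormC t).2 (le_inf hSL hSV)
      (hC'M.trans (OddOrder.le_normalizer_pOf M)) (OddOrder.isPGroup_pOf M), hSV⟩
  by_cases hmulti : ∃ s : ℕ, s.Prime ∧ s ≠ t ∧ pOf s L ≠ ⊥
  · obtain ⟨s, hs, hst, hS⟩ := hmulti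
    haveI := Fact.mk hs
    obtain ⟨hSM, hSV⟩ := hcores s hs hst
    have hSLM : pOf s L ≤ M := hMc _ (K.pOf_mem hL.1 s)
      ((OddOrder.pOf_le_centralizer_pOf hst L).trans (Subgroup.centralizer_le hWV))
    have hSMne : pOf s M ≠ ⊥ := by
      intro h0
      refine hS (le_bot_iff.1 (le_trans (le_pOf_of_centralizer_cores hM.1.1 hSLM (OddOrder.isPGroup_pOf L)
        fun r hr => ?_) h0.le))
      haveI := Fact.mk hr
      rcases eq_or_ne r s with rfl | hrs
      · rw [h0]; intro x _; exact Subgroup.mem_centralizer_iff.2 fun z hz => by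
          rw [Subgroup.mem_bot.1 hz, one_mul, mul_one]
      · exact pOf_le_centralizer_of_le hrs.symm hSLM (K.hub_pOf_le hub hM.1 hCM r)
    have hVM : V ≤ M :=
      K.absorb_centralizer hM hSMne (K.pOf_mem hL.1 t) (Subgroup.le_centralizer_iff.1 hSV)
    have hVpM : V ≤ pOf t M := (le_inf le_rfl hVM).trans hPM
    have hC''M : L ⊓ centralizer (pOf s L : Set G) ≤ M :=
      K.absorb_centralizer hM hSMne (hnormC s).1 (inf_le_right.trans (Subgroup.centralizer_le hSM))
    have hMV : pOf t M ≤ V := by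
      refine le_pOf_of_normal inf_le_left (hnormC s).2 (le_inf (K.hub_pOf_le hub hM.1 hCM t) ?_)
        (hC''M.trans (OddOrder.le_normalizer_pOf M)) (OddOrder.isPGroup_pOf M)
      exact pOf_le_centralizer_of_le hst.symm (K.hub_pOf_le hub hM.1 hCM t) hSLM
    have e : pOf t M = V := le_antisymm hMV hVpM
    exact hcM.trans (K.absorb_pOf hL hVne hM.1 (by rw [← hV, ← e]; exact OddOrder.le_normalizer_pOf M))
  · push Not at hmulti
    set Qk := pOf t M with hQk
    have hQF : Qk ∈ signalizerFamily p A θ := K.pOf_mem hM.1 t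
    have hQL : Qk ≤ L := K.hub_pOf_le hub hM.1 hCM t
    have hQV : Qk ≤ normalizer (V : Set G) := hQL.trans (OddOrder.le_normalizer_pOf L)
    have hVQ : V ≤ Qk := by
      have hsupF : V ⊔ Qk ∈ signalizerFamily p A θ := K.sup_mem (K.pOf_mem hL.1 t) hQF hQV
      have hsupP : IsPGroup t ↥(V ⊔ Qk) := by
        rw [sup_comm]
        exact (OddOrder.isPGroup_pOf M).to_sup_of_normal_right' (OddOrder.isPGroup_pOf L) hQV
      refine le_trans le_sup_left (le_of_inf_normalizer_le hsupP le_sup_right ?_)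
      set T := (V ⊔ Qk) ⊓ normalizer (Qk : Set G)
      have hTF : T ∈ signalizerFamily p A θ := K.sub_mem hsupF inf_le_left
        (Coprime.le_normalizer_inf_of_le (K.inv hsupF) (K.normalizer_inv (K.inv hQF)))
      have hTM : T ≤ M := K.absorb_pOf hM hMne hTF inf_le_right
      intro x hx
      obtain ⟨a, ha, b, hb, rfl⟩ := (Coprime.mem_sup_iff_of_le_normalizer' (H := Qk) (N := V) hQV).1
        (show x ∈ Qk ⊔ V by rw [sup_comm]; exact hx.1)
      have haM : a ∈ M := by simpa using M.mul_mem (hTM hx) (M.inv_mem (OddOrder.pOf_le M hb))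
      exact Qk.mul_mem (hPM ⟨ha, haM⟩) hb
    have hJ : thompsonSubgroupOf t Qk = thompsonSubgroupOf t V := by
      refine thompson_absorb (p := p) K.hA (K.inv hL.1) hL.1.1 hL.1.2.1
        (inf_centralizer_pOf_le hL.1.1 fun s hs hst => hmulti s hs hst) (OddOrder.isPGroup_pOf M) hQL hVQ
        (K.pOf_inv hM.1 t) (((K.inf_centralizer_A hL.1).trans hCM).trans (OddOrder.le_normalizer_pOf M)) ?_
      change L ⊓ centralizer (zq t Qk : Set G) ≤ _
      refine (K.absorb hM (K.zq_mem hQF t) (zq_ne_bot (OddOrder.isPGroup_pOf M) hMne)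
        ((OddOrder.le_normalizer_pOf M).trans (normalizer_le_normalizer_zq Qk)) ?_
        (inf_le_right.trans (Subgroup.centralizer_le_normalizer _))).trans (OddOrder.le_normalizer_pOf M)
      exact K.sub_mem hL.1 inf_le_left
        (Coprime.le_normalizer_inf_of_le (K.inv hL.1) (K.centralizer_inv (K.zq_inv (K.inv hQF) t)))
    have hJ1 : thompsonSubgroupOf t V ≠ ⊥ := by
      refine PGroup.thompsonSubgroupOf_ne_bot ?_
      obtain ⟨k, hk⟩ := (OddOrder.isPGroup_pOf (r := t) L).exists_card_eq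
      rw [hV, hk]
      refine dvd_pow_self t fun h0 => hVne ?_
      rw [h0, pow_zero] at hk
      exact Subgroup.card_eq_one.1 hk
    refine hcM.trans (K.absorb hL ?_ hJ1
      ((OddOrder.le_normalizer_pOf L).trans (Offender.normalizer_le_normalizer_thompsonSubgroupOf V)) hM.1 ?_)
    · exact K.sub_mem (K.pOf_mem hL.1 t) (PGroup.thompsonSubgroupOf_le V)
        ((K.pOf_inv hL.1 t).trans (Offender.normalizer_le_normalizer_thompsonSubgroupOf V))
    · rw [← hJ]
      exact (OddOrder.le_normalizer_pOf M).trans (Offender.normalizer_le_normalizer_thompsonSubgroupOf Qk)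

/-- The hub has an odd core. -/
theorem hub_exists_odd {L R : Subgroup G} (hub : IsHub p A θ L R) :
    ∃ u : ℕ, u.Prime ∧ u ≠ 2 ∧ pOf u L ≠ ⊥ := by
  by_contra h
  push Not at h
  haveI := Fact.mk Nat.prime_two
  choose! H hH using fun c (hc : c ∈ A) (hc1 : c ≠ 1) => K.exists_max_theta hc hc1
  have hnon : ∀ c ∈ A, c ≠ 1 → IsNonmover p A θ c := by
    intro c hc hc1 t ht
    haveI := Fact.mk ht.1
    have h2 := K.mover_odd hc hc1 ht
    obtain ⟨M, -, -, -, hW, -⟩ := K.mover_data hc hc1 ht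
    exact hW (le_bot_iff.1 ((K.hub_wCap_le hub h2).trans (h t ht.1 h2).le))
  have hQ : ∀ c ∈ A, c ≠ 1 → pOf 2 (H c) ≠ ⊥ := fun c hc hc1 =>
    K.pOf_two_ne_bot hc hc1 (hnon c hc hc1) (hH c hc hc1).1 (hH c hc hc1).2
  refine K.theoremA_pure H hH hQ fun c hc hc1 t ht ht2 => ?_
  haveI := Fact.mk ht
  obtain ⟨hHc, hcH⟩ := hH c hc hc1
  have hC := K.inf_le_of_theta_le hc hc1 hcH
  have hSL := K.hub_pOf_le hub hHc.1 hC t
  have hQL := K.hub_pOf_le hub hHc.1 hC 2
  set N := pOf 2 L with hN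
  set Q := pOf 2 (H c) with hQdef
  have hQS : Q ≤ centralizer (pOf t (H c) : Set G) := OddOrder.pOf_le_centralizer_pOf ht2.symm (H c)
  have hNC : pOf t (H c) ≤ centralizer (N : Set G) := by
    refine Coprime.le_centralizer_of_pq (p := 2) (P := Q) (OddOrder.isPGroup_pOf _)
      (coprime_two_of_not_dvd (not_two_dvd_card_of_isPGroup ht2 (OddOrder.isPGroup_pOf _)))
      (OddOrder.isPGroup_pOf L) hQS (hQL.trans (OddOrder.le_normalizer_pOf L))
      (hSL.trans (OddOrder.le_normalizer_pOf L)) ?_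
    have hle : N ⊓ centralizer (Q : Set G) ≤ H c := K.absorb_centralizer hHc (hQ c hc hc1)
      (K.sub_mem (K.pOf_mem hub.max.1 2) inf_le_left (Coprime.le_normalizer_inf_of_le (K.pOf_inv hub.max.1 2)
        (K.centralizer_inv (K.pOf_inv hHc.1 2)))) inf_le_right
    refine Subgroup.le_centralizer_iff.1 (le_centralizer_of_normalize' (A' := pOf t (H c)) le_rfl
      (hle.trans (OddOrder.le_normalizer_pOf _)) ?_ ?_)
    · exact Coprime.le_normalizer_inf_of_le (hSL.trans (OddOrder.le_normalizer_pOf L))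
        ((Subgroup.le_centralizer_iff.1 hQS).trans Subgroup.le_normalizer)
    · exact OddOrder.inf_eq_bot_of_pgroup ht2 (OddOrder.isPGroup_pOf _)
        ((OddOrder.isPGroup_pOf L).to_le inf_le_left)
  have h1 : pOf t (H c) ≤ N := (le_inf hSL hNC).trans
    (inf_centralizer_pOf_le hub.max.1.1 fun s hs hs2 => h s hs hs2)
  rw [← le_bot_iff, ← OddOrder.inf_eq_bot_of_pgroup ht2 (OddOrder.isPGroup_pOf (r := t) (H c))
    (OddOrder.isPGroup_pOf (r := 2) L)]
  exact le_inf le_rfl h1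

/-- A point with `C_U(d) ≠ 1` and signalizer outside the hub. -/
theorem hub_outside {L R : Subgroup G} (hub : IsHub p A θ L R) {u : ℕ} [Fact u.Prime] (hu2 : u ≠ 2)
    {d : G} (hd : d ∈ A) (hd1 : d ≠ 1) (hdU : pOf u L ⊓ centralizer {d} ≠ ⊥) (hdL : ¬ θ d ≤ L) :
    IsNonmover p A θ d ∧ ∀ H, IsMax p A θ H → θ d ≤ H → pOf u L ≤ pOf u H := by
  have hnon : IsNonmover p A θ d := fun t ht => hdL (K.hub_mover_le hub hd hd1 ht)
  refine ⟨hnon, fun H hH hdH => ?_⟩
  set U := pOf u L with hU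
  set P := pOf u H with hP
  have hC := K.inf_le_of_theta_le hd hd1 hdH
  have hUH : U ⊓ H ≤ P := K.hub_inf_le hub hH.1 hC hu2
  have hUF := K.pOf_mem hub.max.1 u
  have hPne : P ≠ ⊥ := fun e => hdU (le_bot_iff.1
    (le_trans (le_trans (le_inf inf_le_left ((hUF.2.2.2 d hd hd1).trans hdH)) hUH) e.le))
  have hPd : P ≤ centralizer {d} := hnon.pOf_le hH hdH Fact.out hu2
  have hPd' : P ≤ centralizer (zpowers d : Set G) := hPd.trans_eq (Signalizer.centralizer_zpowers d).symm
  have hdz : zpowers d ≤ A := Subgroup.zpowers_le.2 hd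
  have h1 : U ⊓ centralizer (P : Set G) ≤ P := (le_inf inf_le_left (K.absorb_centralizer hH hPne
    (K.sub_mem hUF inf_le_left (Coprime.le_normalizer_inf_of_le (K.inv hUF) (K.centralizer_inv (K.pOf_inv hH.1 u))))
    inf_le_right)).trans hUH
  have hUd : U ≤ centralizer (zpowers d : Set G) := by
    refine Subgroup.le_centralizer_iff.1 (Coprime.le_centralizer_of_pq (p := u) (P := P) (OddOrder.isPGroup_pOf H)
      ?_ (OddOrder.isPGroup_pOf L) hPd' ((K.hub_pOf_le hub hH.1 hC u).trans (OddOrder.le_normalizer_pOf L))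
      (hdz.trans (K.inv hUF)) (h1.trans hPd'))
    rw [K.card_zpowers hd hd1]
    exact (Nat.coprime_primes hpF.out Fact.out).2 (K.prime_ne_of_pOf hH.1 hPne).symm
  rw [Signalizer.centralizer_zpowers] at hUd
  exact (le_inf le_rfl (((le_inf le_rfl hUd).trans (hUF.2.2.2 d hd hd1)).trans hdH)).trans hUH

/-- The hub is impossible. -/
theorem hub_false {L R : Subgroup G} (hub : IsHub p A θ L R) : False := by
  obtain ⟨u, hu, hu2, hUne⟩ := K.hub_exists_odd hub
  haveI := Fact.mk hu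
  haveI := Fact.mk Nat.prime_two
  set U := pOf u L with hU
  have hUF := K.pOf_mem hub.max.1 u
  obtain ⟨B₁, hB₁, hB₁U⟩ : ∃ B, IsLine p A B ∧ U ⊓ centralizer (B : Set G) ≠ ⊥ := by
    by_contra h
    push Not at h
    exact hUne (le_bot_iff.1 (K.le_of_lines (K.inv hUF) hUF.2.1 fun B hB => (h B hB).le))
  have hpt : ∀ d ∈ B₁, U ⊓ centralizer {d} ≠ ⊥ := fun d hd e => hB₁U (le_bot_iff.1
    ((inf_le_inf_left U (Subgroup.centralizer_le (Set.singleton_subset_iff.2 hd))).trans e.le))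
  have hline : ∀ {B : Subgroup G}, IsLine p A B → ∀ e ∈ A, ∀ d, d ∈ B → d ≠ 1 →
      ⁅θ d, zpowers e⁆ ≤ L → ⁅signalizerInf B θ, zpowers e⁆ ≤ L := fun _ e _ d hd hd1 h =>
    (Subgroup.commutator_mono (Signalizer.signalizerInf_le hd hd1) le_rfl).trans h
  have hcomm : ∀ {e : G}, e ∈ A → ∀ {X : Subgroup G}, X ≤ L → ⁅X, zpowers e⁆ ≤ L := fun {e} he {X} hX =>
    (Subgroup.commutator_mono hX le_rfl).trans
      (Coprime.commutator_le_left_of_le_normalizer ((Subgroup.zpowers_le.2 he).trans (K.inv hub.max.1)))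
  by_cases hex : ∃ e ∈ B₁, e ≠ 1 ∧ ¬ θ e ≤ L
  swap
  · push Not at hex
    obtain ⟨e, he, he1⟩ := K.exists_ne_one
    refine K.star he he1 hub.max.1 fun B hB _ => ?_
    obtain ⟨d, hdB, hd1B, hd1⟩ := K.meet hB hB₁
    exact hline hB e he d hdB hd1 (hcomm he (hex d hd1B hd1))
  obtain ⟨e, heB, he1, heL⟩ := hex
  have heA := hB₁.1 heB
  refine K.star heA he1 hub.max.1 fun B hB _ => ?_
  obtain ⟨d, hdB, hdB₁, hd1⟩ := K.meet hB hB₁
  have hdA := hB.1 hdB
  refine hline hB e heA d hdB hd1 ?_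
  by_cases hdL : θ d ≤ L
  · exact hcomm heA hdL
  obtain ⟨hnd, hUd⟩ := K.hub_outside hub hu2 hdA hd1 (hpt d hdB₁) hdL
  obtain ⟨hne, hUe⟩ := K.hub_outside hub hu2 heA he1 (hpt e heB) heL
  obtain ⟨He, hHe, heHe⟩ := K.exists_max_theta heA he1
  obtain ⟨Hd, hHd, hdHd⟩ := K.exists_max_theta hdA hd1
  set V := qCap p A θ u ⊓ primeOf 2 L with hV
  have hin : ∀ {a : G} {H : Subgroup G}, a ∈ A → a ≠ 1 → IsNonmover p A θ a → IsMax p A θ H → θ a ≤ H →
      pOf u H ≤ V := by
    intro a H ha ha1 hna hH haH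
    have hC := K.inf_le_of_theta_le ha ha1 haH
    refine le_inf (K.le_qCap (K.pOf_mem hH.1 u) (OddOrder.isPGroup_pOf H) (K.inf_le_normalizer_pOf hC u)) ?_
    refine le_primeOf_of_centralizer hub.max.1.1 (K.hub_pOf_le hub hH.1 hC 2) (OddOrder.isPGroup_pOf H)
      (K.hub_pOf_le hub hH.1 hC u) (OddOrder.pOf_le_centralizer_pOf hu2 H) ?_
      (coprime_two_of_not_dvd (not_two_dvd_card_of_isPGroup hu2 (OddOrder.isPGroup_pOf H)))
    exact (K.absorb_centralizer hH (K.pOf_two_ne_bot ha ha1 hna hH haH)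
      (K.sub_mem hub.max.1 inf_le_left (Coprime.le_normalizer_inf_of_le (K.inv hub.max.1)
        (K.centralizer_inv (K.pOf_inv hH.1 2)))) inf_le_right).trans (OddOrder.le_normalizer_pOf H)
  have hVF : V ∈ signalizerFamily p A θ := K.sub_mem (K.qCap_mem u) inf_le_left
    (Coprime.le_normalizer_inf_of_le (K.inv (K.qCap_mem u))
      ((K.inv hub.max.1).trans (normalizer_le_normalizer_primeOf L)))
  have hVu : IsPGroup u V := (K.isPGroup_qCap u).to_le inf_le_left
  set Pe := pOf u He with hPe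
  have hez : zpowers e ≤ A := Subgroup.zpowers_le.2 heA
  have hPeV : Pe ≤ V := hin heA he1 hne hHe heHe
  have hPeU : U ≤ Pe := hUe He hHe heHe
  have hPee : Pe ≤ centralizer (zpowers e : Set G) :=
    (hne.pOf_le hHe heHe hu hu2).trans_eq (Signalizer.centralizer_zpowers e).symm
  set X := V ⊓ centralizer (Pe : Set G) with hX
  have hXF : X ∈ signalizerFamily p A θ := K.sub_mem hVF inf_le_left
    (Coprime.le_normalizer_inf_of_le (K.inv hVF) (K.centralizer_inv (K.pOf_inv hHe.1 u)))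
  have hXH : X ≤ He :=
    K.absorb_centralizer hHe (fun e' => hUne (le_bot_iff.1 (hPeU.trans e'.le))) hXF inf_le_right
  have hQeL : pOf 2 He ≤ L := K.hub_pOf_le hub hHe.1 (K.inf_le_of_theta_le heA he1 heHe) 2
  have hXQ : X ≤ centralizer (pOf 2 He : Set G) :=
    le_centralizer_of_normalize' (A' := primeOf 2 L) (inf_le_left.trans inf_le_right)
      (hQeL.trans (le_normalizer_primeOf L)) (hXH.trans (OddOrder.le_normalizer_pOf He))
      (PCore.eq_bot_of_isPGroup_of_coprime (p := 2) ((OddOrder.isPGroup_pOf He).to_le inf_le_right)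
        ((coprime_card_primeOf (t := 2) L).coprime_dvd_left (Subgroup.card_dvd_of_le inf_le_left)))
  have hXe : X ≤ centralizer (zpowers e : Set G) := by
    have heX : zpowers e ≤ normalizer (X : Set G) := hez.trans (K.inv hXF)
    refine Subgroup.le_centralizer_iff.1 (Coprime.le_centralizer_of_commutator_le_centralizer heX
      (K.coprime_sub hez hXF.2.1) (Or.inr hXF.1) ?_)
    have hle : ⁅X, zpowers e⁆ ≤ X := Coprime.commutator_le_left_of_le_normalizer heX
    rw [Subgroup.le_centralizer_iff]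
    refine le_trans (le_pOf_of_centralizer_cores hHe.1.1 (hle.trans hXH) (hVu.to_le (hle.trans inf_le_left))
      fun r hr => ?_) hPee
    haveI := Fact.mk hr
    rcases eq_or_ne r 2 with rfl | h2
    · exact hle.trans hXQ
    · exact commutator_le_centralizer_of (hXH.trans (OddOrder.le_normalizer_pOf He))
        (Subgroup.mem_centralizer_iff.2 fun x hx =>
          Subgroup.mem_centralizer_singleton_iff.1 (hne.pOf_le hHe heHe hr h2 hx))
  have hVe : V ≤ centralizer (zpowers e : Set G) := by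
    refine Subgroup.le_centralizer_iff.1 (Coprime.le_centralizer_of_pq (p := u) (P := Pe)
      (OddOrder.isPGroup_pOf He) ?_ hVu hPee (hPeV.trans Subgroup.le_normalizer) (hez.trans (K.inv hVF)) hXe)
    rw [K.card_zpowers heA he1]
    exact (Nat.coprime_primes hpF.out hu).2
      (K.prime_ne_of_pOf hHe.1 (fun e' => hUne (le_bot_iff.1 (hPeU.trans e'.le)))).symm
  refine K.absorb_centralizer hub.max hUne (K.commutator_mem (K.theta_mem hdA hd1) heA)
    ((commutator_le_centralizer_of (hdHd.trans (OddOrder.le_normalizer_pOf Hd)) ?_).trans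
      (Subgroup.centralizer_le (hUd Hd hHd hdHd)))
  exact Subgroup.mem_centralizer_iff.2 fun x hx =>
    (Subgroup.mem_centralizer_iff.1 (hVe (hin hdA hd1 hnd hHd hdHd hx)) e (Subgroup.mem_zpowers e)).symm

/-- Nonmovers fix `Ω₁(Z(R))` for a maximal `2`-member `R`. -/
theorem zq_le_centralizer_nonmover {R : Subgroup G} (hR : Signalizer.IsMaxQ p A θ 2 R) {i : G} (hi : i ∈ A)
    (hi1 : i ≠ 1) (hn : IsNonmover p A θ i) : zq 2 R ≤ centralizer {i} := by
  haveI := Fact.mk Nat.prime_two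
  obtain ⟨H, hH, hiH⟩ := K.exists_max_theta hi hi1
  have hC := K.inf_le_of_theta_le hi hi1 hiH
  set Q := pOf 2 H with hQ
  have hQR : Q ≤ R :=
    K.le_maxQ (K.pOf_mem hH.1 2) (OddOrder.isPGroup_pOf H) (K.inf_le_normalizer_pOf hC 2) hR
  have hZF := K.zq_mem hR.1 2
  have hZQ : zq 2 R ≤ centralizer (Q : Set G) :=
    Subgroup.le_centralizer_iff.1 (hQR.trans (le_centralizer_zq R))
  have hZH : zq 2 R ≤ H := K.absorb_centralizer hH (K.pOf_two_ne_bot hi hi1 hn hH hiH) hZF hZQ
  have hiz : zpowers i ≤ normalizer (zq 2 R : Set G) := (Subgroup.zpowers_le.2 hi).trans (K.inv hZF)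
  rw [← Signalizer.centralizer_zpowers]
  refine Subgroup.le_centralizer_iff.1 (Coprime.le_centralizer_of_commutator_le_centralizer hiz
    (K.coprime_sub (Subgroup.zpowers_le.2 hi) hZF.2.1) (Or.inr hZF.1) ?_)
  have hle : ⁅zq 2 R, zpowers i⁆ ≤ zq 2 R := Coprime.commutator_le_left_of_le_normalizer hiz
  rw [Subgroup.le_centralizer_iff, Signalizer.centralizer_zpowers]
  refine le_trans ?_ (hn.zq_le hH hiH)
  intro x hx
  refine mem_zq ?_ (Subgroup.mem_centralizer_iff.2 fun y hy => ?_) (pow_eq_one_of_mem_zq (hle hx))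
  · refine le_pOf_of_centralizer_cores hH.1.1 (hle.trans hZH)
      ((hR.2.1.to_le (zq_le R)).to_le hle) (fun r hr => ?_) hx
    haveI := Fact.mk hr
    rcases eq_or_ne r 2 with rfl | h2
    · exact hle.trans hZQ
    · exact commutator_le_centralizer_of (hZH.trans (OddOrder.le_normalizer_pOf H))
        (Subgroup.mem_centralizer_iff.2 fun z hz =>
          Subgroup.mem_centralizer_singleton_iff.1 (hn.pOf_le hH hiH hr h2 hz))
  · exact Subgroup.mem_centralizer_iff.1 (hZQ (hle hx)) y hy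

/-- A hub exists. -/
theorem exists_hub : ∃ L R, IsHub p A θ L R := by
  haveI := Fact.mk Nat.prime_two
  haveI := K.isMulCommutative
  obtain ⟨R, hR⟩ := K.exists_maxQ 2
  obtain ⟨B₀, hB₀, -⟩ := K.exists_line_mem A.one_mem
  obtain ⟨i, hi, hi0, hin⟩ := K.not_collinear hB₀
  have hi1 : i ≠ 1 := fun e => hi0 (e ▸ B₀.one_mem)
  obtain ⟨Hi, hHi, hiHi⟩ := K.exists_max_theta hi hi1
  have hRne : R ≠ ⊥ := fun e => K.pOf_two_ne_bot hi hi1 hin hHi hiHi (le_bot_iff.1
    ((K.le_maxQ (K.pOf_mem hHi.1 2) (OddOrder.isPGroup_pOf Hi)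
      (K.inf_le_normalizer_pOf (K.inf_le_of_theta_le hi hi1 hiHi) 2) hR).trans e.le))
  set Z := zq 2 R with hZ
  have hZne : Z ≠ ⊥ := zq_ne_bot hR.2.1 hRne
  have hZF := K.zq_mem hR.1 2
  have hZA : Z ≤ centralizer (A : Set G) := by
    rw [Subgroup.le_centralizer_iff]
    by_contra hne
    obtain ⟨B, hB, hle⟩ := K.exists_line_ge (inf_le_left : A ⊓ centralizer (Z : Set G) ≤ A)
      fun e => hne (e.ge.trans inf_le_right)
    obtain ⟨j, hj, hjB, hjn⟩ := K.not_collinear hB
    refine hjB (hle ⟨hj, Subgroup.mem_centralizer_iff.2 fun z hz => ?_⟩)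
    exact Subgroup.mem_centralizer_singleton_iff.1
      (K.zq_le_centralizer_nonmover hR hj (fun e => hjB (e ▸ B.one_mem)) hjn hz)
  have hAZ : A ≤ centralizer (Z : Set G) := Subgroup.le_centralizer_iff.1 hZA
  have hZC : Z ≤ signalizerInf A θ := (le_inf le_rfl hZA).trans (K.inf_centralizer_A hZF)
  obtain ⟨a, ha, ha1, had⟩ : ∃ a ∈ A, a ≠ 1 ∧ 2 ∣ Nat.card (θ a) := by
    by_contra h
    push Not at h
    refine hRne (le_bot_iff.1 (K.le_of_points hB₀ (hB₀.1.trans (K.inv hR.1)) hR.1.2.1 fun c hc hc1 => ?_))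
    exact (PCore.eq_bot_of_isPGroup_of_coprime (hR.2.1.to_le inf_le_left) (coprime_two_of_not_dvd
      fun hd => h c (hB₀.1 hc) hc1
        (hd.trans (Subgroup.card_dvd_of_le (hR.1.2.2.2 c (hB₀.1 hc) hc1))))).le
  obtain ⟨D, hDF, hD2, hDC, hDmax⟩ := K.exists_primeCap (t := 2) ⟨a, ha, ha1, had⟩
  set Γ := ⁅D, Z⁆ with hΓ
  have hZDn : Z ≤ normalizer (D : Set G) := hZC.trans hDC
  have hZ2 : ∀ {X : Subgroup G}, ¬ 2 ∣ Nat.card X → (Nat.card Z).Coprime (Nat.card X) := fun hX => by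
    obtain ⟨k, hk⟩ := (hR.2.1.to_le (zq_le R)).exists_card_eq
    rw [hk]; exact (coprime_two_of_not_dvd hX).symm.pow_left k
  have hΓeq : ∀ {B : Subgroup G}, IsLine p A B →
      Γ = ⨆ c : {c : G // c ∈ B ∧ c ≠ 1}, ⁅primeOf 2 (θ (c : G)), Z⁆ := by
    intro B hB
    haveI := K.isMulCommutative_sub hB.1
    refine le_antisymm ?_ (iSup_le fun c => Subgroup.commutator_mono ?_ le_rfl)
    · refine commutator_le_of_points (K.not_isCyclic_line hB) (hB.1.trans (K.inv hDF))
        (K.coprime_sub hB.1 hDF.2.1) hZDn (hZ2 hD2) (hB.1.trans hAZ) hDF.1 fun c hc hc1 => ?_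
      refine le_trans ?_ (le_iSup (fun c : {c : G // c ∈ B ∧ c ≠ 1} => ⁅primeOf 2 (θ (c : G)), Z⁆) ⟨c, hc, hc1⟩)
      have hcA := hB.1 hc
      set Y := D ⊓ centralizer {c} with hY
      have hYθ : Y ≤ θ c := hDF.2.2.2 c hcA hc1
      have hZY : Z ≤ normalizer (Y : Set G) := Coprime.le_normalizer_inf_of_le hZDn fun z hz =>
        Subgroup.le_normalizer (Subgroup.mem_centralizer_singleton_iff.2
          (Subgroup.mem_centralizer_iff.1 (hAZ hcA) z hz))
      have hY2 : ¬ 2 ∣ Nat.card Y := fun h => hD2 (h.trans (Subgroup.card_dvd_of_le inf_le_left))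
      have hθc := K.theta_mem hcA hc1
      obtain ⟨P, hP⟩ := K.sylow_inf hR hθc ((Signalizer.signalizerInf_le hcA hc1).trans Subgroup.le_normalizer)
      have hZθ : Z ≤ θ c := hZC.trans (Signalizer.signalizerInf_le hcA hc1)
      have hZp : Z ≤ primePOf 2 (θ c) := le_primePOf_of_centralizer_sylow hθc.1 P hZθ (by
        rw [hP]
        exact Subgroup.le_centralizer_iff.1 (inf_le_left.trans (le_centralizer_zq R)))
      have hYZ : ⁅Y, Z⁆ ≤ Y := Coprime.commutator_le_left_of_le_normalizer hZY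
      have hle : ⁅Y, Z⁆ ≤ primeOf 2 (θ c) := by
        refine le_primeOf_of_le_primePOf ((coprime_two_of_not_dvd hY2).coprime_dvd_left
          (Subgroup.card_dvd_of_le hYZ)) ?_
        exact (Subgroup.commutator_mono hYθ hZp).trans ((Subgroup.commutator_comm _ _).le.trans
          (Coprime.commutator_le_left_of_le_normalizer (le_normalizer_primePOf _)))
      exact (Coprime.commutator_commutator_eq hZY (hZ2 hY2) (Or.inr (Coprime.isSolvable_of_le inf_le_left hDF.1))).ge.trans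
        (Subgroup.commutator_mono hle le_rfl)
    · have hcA := hB.1 c.2.1
      refine hDmax _ (K.sub_mem (K.theta_mem hcA c.2.2) (primeOf_le _)
        ((K.theta_le_normalizer hcA c.2.2).trans (normalizer_le_normalizer_primeOf _))) ?_
        ((Signalizer.signalizerInf_le hcA c.2.2).trans (le_normalizer_primeOf _))
      exact Nat.prime_two.coprime_iff_not_dvd.1 (coprime_card_primeOf (θ (c : G))).symm
  have hΓnorm : ∀ Y ∈ signalizerFamily p A θ, Y ≤ centralizer (Z : Set G) → Y ≤ normalizer (Γ : Set G) := by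
    intro Y hY hYZ
    refine K.le_of_lines (K.inv hY) hY.2.1 fun B hB => ?_
    rw [hΓeq hB]
    refine le_normalizer_iSup' _ fun c => le_normalizer_commutator₂
      (((inf_le_inf_left Y (Subgroup.centralizer_le (Set.singleton_subset_iff.2 c.2.1))).trans
        (hY.2.2.2 c (hB.1 c.2.1) c.2.2)).trans (le_normalizer_primeOf _))
      ((inf_le_left.trans hYZ).trans (Subgroup.centralizer_le_normalizer _))
  by_cases hΓ1 : Γ = ⊥
  · obtain ⟨L, hL, hLle⟩ := K.exists_max_normalizing hZF hZne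
    refine ⟨L, R, hL, hR, hLle R hR.1 ((le_centralizer_zq R).trans (Subgroup.centralizer_le_normalizer _)),
      fun Y hY hY2 hYC => (hDmax Y hY hY2 hYC).trans (hLle D hDF ?_)⟩
    exact (Subgroup.commutator_eq_bot_iff_le_centralizer.1 hΓ1).trans (Subgroup.centralizer_le_normalizer _)
  · have hΓF : Γ ∈ signalizerFamily p A θ := K.sub_mem hDF
      (Coprime.commutator_le_left_of_le_normalizer hZDn) (le_normalizer_commutator₂ (K.inv hDF) (K.inv hZF))
    obtain ⟨L, hL, hLle⟩ := K.exists_max_normalizing hΓF hΓ1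
    exact ⟨L, R, hL, hR, hLle R hR.1 (hΓnorm R hR.1 (le_centralizer_zq R)), fun Y hY hY2 hYC =>
      (hDmax Y hY hY2 hYC).trans (hLle D hDF (Subgroup.normalizer_commutator_ge_left D Z))⟩

/-- There is no minimal counterexample. -/
theorem false : False := by
  obtain ⟨L, R, hub⟩ := K.exists_hub
  exact K.hub_false hub

end CE

end Cfsg.Agent.SSFT
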