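import Cfsg.Agent.Lib.SSFT.QCore
import Cfsg.Agent.Lib.SSFT.Absorb
import Cfsg.Agent.Lib.Offender.Factorization
import Cfsg.Agent.Lib.PGroup.Thompson

/-!
# Line intersections lie in `O_q` of every maximal member

`CE.lemmaA` and its consequence `CE.theoremA`.
-/

set_option linter.unusedSectionVars false
set_option linter.style.haveILetI false
set_option autoImplicit false

namespace Cfsg.Agent.SSFT

open Cfsg
open Subgroup (normalizer centralizer zpowers mem_normalizer_iff)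
open scoped Pointwise commutatorElement
open Cfsg.Agent.OddOrder (pOf)

universe w
variable {G : Type w} [Group G]

/-- `⋂ O_q(θ b)`, `b ∈ L`. -/
def pLine (q : ℕ) (θ : G → Subgroup G) (L : Subgroup G) : Subgroup G :=
  ⨅ b : {b : G // b ∈ L ∧ b ≠ 1}, pOf q (θ (b : G))

/-- The subgroup generated by the `pLine q θ L`. -/
def wCap (p : ℕ) (A : Subgroup G) (θ : G → Subgroup G) (q : ℕ) : Subgroup G :=
  ⨆ L : {L : Subgroup G // IsLine p A L}, pLine q θ L

theorem coprime_card_of_isPGroup [Finite G] {q t : ℕ} [Fact q.Prime] [Fact t.Prime] (h : q ≠ t)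
    {X Y : Subgroup G} (hX : IsPGroup q X) (hY : IsPGroup t Y) : (Nat.card X).Coprime (Nat.card Y) :=
  IsPGroup.coprime_card_of_ne q t h X Y hX hY

theorem pLine_le {q : ℕ} {θ : G → Subgroup G} {L : Subgroup G} {b : G} (hb : b ∈ L) (hb1 : b ≠ 1) :
    pLine q θ L ≤ pOf q (θ b) :=
  iInf_le (fun b : {b : G // b ∈ L ∧ b ≠ 1} => pOf q (θ (b : G))) ⟨b, hb, hb1⟩

namespace Setting

variable [Finite G] {p : ℕ} [hpF : Fact p.Prime] {A : Subgroup G} {θ : G → Subgroup G}
variable (S : Setting p A θ) {q : ℕ}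
include S

theorem inf_le_theta {a : G} (ha : a ∈ A) (ha1 : a ≠ 1) : signalizerInf A θ ≤ θ a :=
  Signalizer.signalizerInf_le ha ha1

theorem inf_le_normalizer_pOf {H : Subgroup G} (h : signalizerInf A θ ≤ H) (r : ℕ) :
    signalizerInf A θ ≤ normalizer (pOf r H : Set G) := h.trans (OddOrder.le_normalizer_pOf H)

theorem pLine_inv {L : Subgroup G} (hL : IsLine p A L) : A ≤ normalizer (pLine q θ L : Set G) :=
  le_normalizer_iInf' _ fun b => S.pOf_inv (S.theta_mem (hL.1 b.2.1) b.2.2) q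

theorem pLine_mem {L : Subgroup G} (hL : IsLine p A L) : pLine q θ L ∈ signalizerFamily p A θ := by
  obtain ⟨b, hb, hb1⟩ := S.exists_ne_one_of_line hL
  exact S.sub_mem (S.pOf_mem (S.theta_mem (hL.1 hb) hb1) q) (pLine_le hb hb1) (S.pLine_inv hL)

theorem isPGroup_pLine {L : Subgroup G} (hL : IsLine p A L) : IsPGroup q (pLine q θ L) := by
  obtain ⟨b, hb, hb1⟩ := S.exists_ne_one_of_line hL
  exact (OddOrder.isPGroup_pOf _).to_le (pLine_le hb hb1)

end Setting

namespace CE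

variable [Finite G] {p : ℕ} [hpF : Fact p.Prime] {A : Subgroup G} {θ : G → Subgroup G}
variable (K : CE p A θ) {q : ℕ} [hqF : Fact q.Prime]
include K

/-- **Lemma A**. -/
theorem lemmaA {H : Subgroup G} (hH : IsMax p A θ H) (hC : signalizerInf A θ ≤ H) (hQ : pOf q H ≠ ⊥)
    {L Y : Subgroup G} (hL : IsLine p A L) (hYA : A ≤ normalizer (Y : Set G))
    (hY : ∀ c ∈ L, c ≠ 1 → ∃ Q ∈ signalizerFamily p A θ, IsPGroup q Q ∧
      signalizerInf A θ ≤ normalizer (Q : Set G) ∧ θ c ≤ normalizer (Q : Set G) ∧ Y ≤ Q) :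
    Y ≤ pOf q H := by
  obtain ⟨c₀, hc₀, hc₀1⟩ := K.exists_ne_one_of_line hL
  obtain ⟨Q₀, hQ₀, hQ₀q, hQ₀C, -, hYQ₀⟩ := hY c₀ hc₀ hc₀1
  have hYq : IsPGroup q Y := hQ₀q.to_le hYQ₀
  have hYF : Y ∈ signalizerFamily p A θ := K.sub_mem hQ₀ hYQ₀ hYA
  haveI := K.isMulCommutative_sub hL.1
  have hline : ∀ T, T ∈ signalizerFamily p A θ → Y ≤ T → Y ≤ pOf q T := fun T hT hYT =>
    line_le_pOf (K.not_isCyclic_line hL) (hL.1.trans (K.inv hT)) (K.coprime_sub hL.1 hT.2.1) hT.1 hYT hYq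
      fun c hc hc1 => by
        obtain ⟨Q, -, hQq, -, hn, hYQ⟩ := hY c hc hc1
        exact ⟨Q, hQq, hYQ, (hT.2.2.2 c (hL.1 hc) hc1).trans hn⟩
  suffices hYH : Y ≤ H from hline H hH.1 hYH
  set E := qCap p A θ q
  set Q := pOf q H with hQdef
  have hQF : Q ∈ signalizerFamily p A θ := K.pOf_mem hH.1 q
  have hQE : Q ≤ E := K.le_qCap hQF (OddOrder.isPGroup_pOf H) (K.inf_le_normalizer_pOf hC q)
  have hE1 : E ≠ ⊥ := fun h => hQ (le_bot_iff.1 (hQE.trans h.le))
  set Z := zq q E with hZdef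
  have hZF : Z ∈ signalizerFamily p A θ := K.zq_mem (K.qCap_mem q) q
  have hEC : E ≤ centralizer (Z : Set G) := le_centralizer_zq E
  obtain ⟨M, hM, hMle⟩ := K.exists_max_normalizing hZF (zq_ne_bot (K.isPGroup_qCap q) hE1)
  have hEM : E ≤ M := hMle E (K.qCap_mem q) (hEC.trans (Subgroup.centralizer_le_normalizer _))
  have hCM : signalizerInf A θ ≤ M :=
    hMle _ K.inf_mem ((K.inf_le_normalizer_qCap q).trans (normalizer_le_normalizer_zq E))
  set N := pOf q M with hNdef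
  have hYE : Y ≤ E := hYQ₀.trans (K.le_qCap hQ₀ hQ₀q hQ₀C)
  have hYN : Y ≤ N := hline M hM.1 (hYE.trans hEM)
  have hQN : Q ≤ normalizer (N : Set G) := (hQE.trans hEM).trans (OddOrder.le_normalizer_pOf M)
  have hQle : Q ≤ H := OddOrder.pOf_le H
  have hZQ : Z ≤ centralizer (Q : Set G) :=
    Subgroup.le_centralizer_iff.1 (hQE.trans hEC)
  have hZH : Z ≤ H := K.absorb_centralizer hH hQ hZF hZQ
  by_cases hmulti : ∃ t : ℕ, t.Prime ∧ t ≠ q ∧ pOf t H ≠ ⊥
  · obtain ⟨t, ht, htq, hR⟩ := hmulti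
    haveI := Fact.mk ht
    set R := pOf t H with hRdef
    have hRH : R ≤ H := OddOrder.pOf_le H
    have hRt : IsPGroup t R := OddOrder.isPGroup_pOf H
    set R₀ := R ⊓ centralizer (Z : Set G) with hR₀
    have hR₀F : R₀ ∈ signalizerFamily p A θ := K.sub_mem (K.pOf_mem hH.1 t) inf_le_left
      (Coprime.le_normalizer_inf_of_le (K.pOf_inv hH.1 t) (K.centralizer_inv (K.inv hZF)))
    have hR₀M : R₀ ≤ M := hMle _ hR₀F (inf_le_right.trans (Subgroup.centralizer_le_normalizer _))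
    have hR₀N : R₀ ≤ normalizer (N : Set G) := hR₀M.trans (OddOrder.le_normalizer_pOf M)
    have hRQ : R ≤ centralizer (Q : Set G) := OddOrder.pOf_le_centralizer_pOf htq H
    have hR₀C : R₀ ≤ centralizer (N : Set G) := by
      refine Coprime.le_centralizer_of_pq (P := Q) (OddOrder.isPGroup_pOf H)
        ?_ (OddOrder.isPGroup_pOf M) (Subgroup.le_centralizer_iff.1 (inf_le_left.trans hRQ)) hQN hR₀N ?_
      · obtain ⟨k, hk⟩ := (hRt.to_le (inf_le_left : R₀ ≤ R)).exists_card_eq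
        rw [hk]; exact ((Nat.coprime_primes ht hqF.out).2 htq).pow_left k
      · have hXH : N ⊓ centralizer (Q : Set G) ≤ H := K.absorb_centralizer hH hQ
          (K.sub_mem (K.pOf_mem hM.1 q) inf_le_left
            (Coprime.le_normalizer_inf_of_le (K.pOf_inv hM.1 q) (K.centralizer_inv (K.pOf_inv hH.1 q))))
          inf_le_right
        refine Subgroup.commutator_eq_bot_iff_le_centralizer.1 (le_bot_iff.1 ?_)
        have h1 : (R : Subgroup G) ⊓ N = ⊥ :=
          OddOrder.inf_eq_bot_of_pgroup htq hRt (OddOrder.isPGroup_pOf M)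
        rw [← h1]
        refine Subgroup.commutator_le.2 fun x hx r hr => ⟨?_, ?_⟩
        · rw [commutatorElement_def]
          exact R.mul_mem ((mem_normalizer_iff.1 (OddOrder.le_normalizer_pOf H (hXH hx)) r).1 hr.1)
            (R.inv_mem hr.1)
        · rw [commutatorElement_def, mul_assoc x, mul_assoc]
          exact N.mul_mem hx.1 ((mem_normalizer_iff.1 (hR₀N hr) _).1 (N.inv_mem hx.1))
    have hRY : R ≤ centralizer (Y : Set G) := by
      refine K.le_of_points hL (hL.1.trans (K.pOf_inv hH.1 t)) (K.pOf_mem hH.1 t).2.1 fun c hc hc1 => ?_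
      set Rc := R ⊓ centralizer {c} with hRc
      obtain ⟨Qc, hQcF, hQcq, hQcC, hn, hYQc⟩ := hY c hc hc1
      have hQcE : Qc ≤ E := K.le_qCap hQcF hQcq hQcC
      have hRcn : Rc ≤ normalizer (Qc : Set G) :=
        ((inf_le_inf_right _ hRH).trans (hH.1.2.2.2 c (hL.1 hc) hc1)).trans hn
      have hcomm : ⁅Rc, Z⁆ ≤ centralizer (Y : Set G) := by
        refine Subgroup.commutator_le.2 fun r hr z hz => Subgroup.mem_centralizer_iff.2 fun y hy => ?_
        have hz' : ∀ e ∈ E, e * z = z * e := fun e he =>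
          (Subgroup.mem_centralizer_iff.1 (hEC he) z hz).symm
        have e1 := hz' _ (hYE hy)
        have hy' : r⁻¹ * y * r ∈ Qc := (Subgroup.mem_normalizer_iff''.1 (hRcn hr) y).1 (hYQc hy)
        have e2 := hz' _ (hQcE hy')
        calc y * ⁅r, z⁆ = r * (r⁻¹ * y * r * z) * r⁻¹ * z⁻¹ := by rw [commutatorElement_def]; group
          _ = r * z * r⁻¹ * (y * z⁻¹) := by rw [e2]; group
          _ = r * z * r⁻¹ * (z⁻¹ * y) := by
              rw [show y * z⁻¹ = z⁻¹ * y by rw [mul_inv_eq_iff_eq_mul, mul_assoc, e1, inv_mul_cancel_left]]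
          _ = ⁅r, z⁆ * y := by rw [commutatorElement_def]; group
      have hZR : Z ≤ normalizer (R : Set G) := hZH.trans (OddOrder.le_normalizer_pOf H)
      intro r hr
      obtain ⟨x, hx, hrx⟩ := Coprime.exists_mem_inf_centralizer_leftCoset (A := Z) (K := R) (N := ⁅Rc, Z⁆)
        (k := r) (Subgroup.normalizer_commutator_ge_right Rc Z)
        ((Subgroup.commutator_mono inf_le_left le_rfl).trans (Coprime.commutator_le_left_of_le_normalizer hZR))
        (coprime_card_of_isPGroup htq.symm ((K.isPGroup_qCap q).to_le (zq_le E)) hRt)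
        (Or.inr (K.pOf_mem hH.1 t).1) hr.1 fun z hz => by
          have := Subgroup.commutator_mem_commutator (Rc.inv_mem hr) hz
          simpa [commutatorElement_def] using this
      have hxY : x ∈ centralizer (Y : Set G) :=
        Subgroup.centralizer_le hYN (hR₀C hx)
      have : r = x * (r⁻¹ * x)⁻¹ := by group
      rw [this]
      exact Subgroup.mul_mem _ hxY (Subgroup.inv_mem _ (hcomm hrx))
    exact K.absorb_centralizer hH hR hYF (Subgroup.le_centralizer_iff.1 hRY)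
  · push Not at hmulti
    have hpure : H ⊓ centralizer (Q : Set G) ≤ Q :=
      inf_centralizer_pOf_le hH.1.1 fun t ht htq => hmulti t ht htq
    have hZleQ : Z ≤ Q := (le_inf hZH hZQ).trans hpure
    have hNE : N ≤ E := K.le_qCap (K.pOf_mem hM.1 q) (OddOrder.isPGroup_pOf M)
      (K.inf_le_normalizer_pOf hCM q)
    set S₀ := Q ⊔ (N ⊓ H) with hS₀
    have hS₀E : S₀ ≤ E := sup_le hQE (inf_le_left.trans hNE)
    have hS₀H : S₀ ≤ H := sup_le hQle inf_le_right
    have hnorm : ∀ X : Subgroup G, X ≤ H → X ≤ M → X ≤ normalizer (S₀ : Set G) := fun X hXH hXM =>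
      le_normalizer_sup₂ (hXH.trans (OddOrder.le_normalizer_pOf H))
        (Coprime.le_normalizer_inf_of_le (hXM.trans (OddOrder.le_normalizer_pOf M))
          (hXH.trans Subgroup.le_normalizer))
    have hS₀A : A ≤ normalizer (S₀ : Set G) :=
      le_normalizer_sup₂ (K.pOf_inv hH.1 q) (Coprime.le_normalizer_inf_of_le (K.pOf_inv hM.1 q) (K.inv hH.1))
    have hZS₀ : Z ≤ zq q S₀ := fun z hz => mem_zq (Subgroup.mem_sup_left (hZleQ hz))
      (Subgroup.centralizer_le hS₀E (Subgroup.le_centralizer_iff.1 hEC hz)) (pow_eq_one_of_mem_zq hz)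
    have hJ : thompsonSubgroupOf q S₀ = thompsonSubgroupOf q Q := by
      refine thompson_absorb (p := p) K.hA (K.inv hH.1) hH.1.1 hH.1.2.1 hpure ((K.isPGroup_qCap q).to_le hS₀E)
        hS₀H le_sup_left hS₀A ?_ ?_
      · exact hnorm _ inf_le_left ((K.inf_centralizer_A hH.1).trans hCM)
      · change H ⊓ centralizer (zq q S₀ : Set G) ≤ _
        refine hnorm _ inf_le_left (hMle _ ?_ ?_)
        · exact K.sub_mem hH.1 inf_le_left
            (Coprime.le_normalizer_inf_of_le (K.inv hH.1) (K.centralizer_inv (K.zq_inv hS₀A q)))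
        · exact inf_le_right.trans ((Subgroup.centralizer_le hZS₀).trans (Subgroup.centralizer_le_normalizer _))
    have hJ1 : thompsonSubgroupOf q Q ≠ ⊥ := by
      refine PGroup.thompsonSubgroupOf_ne_bot ?_
      obtain ⟨k, hk⟩ := (OddOrder.isPGroup_pOf (r := q) H).exists_card_eq
      rw [hk]
      refine dvd_pow_self q fun h0 => hQ ?_
      rw [h0, pow_zero] at hk
      exact Subgroup.card_eq_one.1 hk
    have hJH : H ≤ normalizer (thompsonSubgroupOf q Q : Set G) :=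
      (OddOrder.le_normalizer_pOf H).trans (Offender.normalizer_le_normalizer_thompsonSubgroupOf Q)
    have hJF : thompsonSubgroupOf q Q ∈ signalizerFamily p A θ :=
      K.sub_mem hQF (PGroup.thompsonSubgroupOf_le Q)
        ((K.pOf_inv hH.1 q).trans (Offender.normalizer_le_normalizer_thompsonSubgroupOf Q))
    have hS₁F : N ⊔ Q ∈ signalizerFamily p A θ := K.sup_mem (K.pOf_mem hM.1 q) hQF hQN
    have hgrow : N ⊔ Q ≤ S₀ := by
      refine le_of_inf_normalizer_le ((K.isPGroup_qCap q).to_le (sup_le hNE hQE))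
        (sup_le le_sup_right (inf_le_left.trans le_sup_left)) ?_
      set T := (N ⊔ Q) ⊓ normalizer (S₀ : Set G)
      have hTF : T ∈ signalizerFamily p A θ := K.sub_mem hS₁F inf_le_left
        (Coprime.le_normalizer_inf_of_le (K.inv hS₁F) (K.normalizer_inv hS₀A))
      have hTH : T ≤ H := K.absorb hH hJF hJ1 hJH hTF (by
        rw [← hJ]; exact inf_le_right.trans (Offender.normalizer_le_normalizer_thompsonSubgroupOf _))
      intro x hx
      obtain ⟨a, ha, b, hb, rfl⟩ := (Coprime.mem_sup_iff_of_le_normalizer' (H := Q) (N := N) hQN).1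
        (show x ∈ Q ⊔ N by rw [sup_comm]; exact hx.1)
      have haH : a ∈ H := by simpa using H.mul_mem (hTH hx) (H.inv_mem (hQle hb))
      exact S₀.mul_mem (Subgroup.mem_sup_right ⟨ha, haH⟩) (Subgroup.mem_sup_left hb)
    exact hYN.trans ((le_sup_left.trans hgrow).trans hS₀H)

/-- `⋂ O_q(θ b)` lies in every nontrivial `O_q(H)`. -/
theorem pLine_le_max {H : Subgroup G} (hH : IsMax p A θ H) (hC : signalizerInf A θ ≤ H)
    (hQ : pOf q H ≠ ⊥) {L : Subgroup G} (hL : IsLine p A L) : pLine q θ L ≤ pOf q H :=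
  K.lemmaA hH hC hQ hL (K.pLine_inv hL) fun c hc hc1 =>
    ⟨pOf q (θ c), K.pOf_mem (K.theta_mem (hL.1 hc) hc1) q, OddOrder.isPGroup_pOf _,
      K.inf_le_normalizer_pOf (K.inf_le_theta (hL.1 hc) hc1) q, OddOrder.le_normalizer_pOf _,
      pLine_le hc hc1⟩

theorem wCap_le_max {H : Subgroup G} (hH : IsMax p A θ H) (hC : signalizerInf A θ ≤ H)
    (hQ : pOf q H ≠ ⊥) : wCap p A θ q ≤ pOf q H :=
  iSup_le fun L => K.pLine_le_max hH hC hQ L.2

/-- **Theorem A**: points cannot all have `O_q(H_c)` meeting in a common nontrivial subgroup. -/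
theorem theoremA (H : G → Subgroup G) (hH : ∀ c ∈ A, c ≠ 1 → IsMax p A θ (H c) ∧ θ c ≤ H c)
    {Y : Subgroup G} (hY1 : Y ≠ ⊥) (hY : ∀ c ∈ A, c ≠ 1 → Y ≤ pOf q (H c)) : False := by
  set T := ⨅ c : {c : G // c ∈ A ∧ c ≠ 1}, pOf q (H c) with hT
  have hTY : Y ≤ T := le_iInf fun c => hY c c.2.1 c.2.2
  have hT1 : T ≠ ⊥ := fun h => hY1 (le_bot_iff.1 (hTY.trans h.le))
  obtain ⟨a₀, ha₀, ha₀1⟩ := K.exists_ne_one
  have hTA : A ≤ normalizer (T : Set G) := le_normalizer_iInf' _ fun c => K.pOf_inv (hH c c.2.1 c.2.2).1.1 q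
  have hTF : T ∈ signalizerFamily p A θ := K.sub_mem (K.pOf_mem (hH a₀ ha₀ ha₀1).1.1 q)
    (iInf_le (fun c : {c : G // c ∈ A ∧ c ≠ 1} => pOf q (H c)) ⟨a₀, ha₀, ha₀1⟩) hTA
  obtain ⟨a, ha, ha1, hna⟩ := K.not_normalized T hTF hT1
  refine hna (K.theta_le_of_lines ha ha1 fun L hL _ => ?_)
  set P := ⨅ c : {c : G // c ∈ L ∧ c ≠ 1}, pOf q (H c) with hP
  have hCH : ∀ c ∈ A, c ≠ 1 → signalizerInf A θ ≤ H c := fun c hc hc1 =>
    (K.inf_le_theta hc hc1).trans (hH c hc hc1).2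
  have hPT : P ≤ T := le_iInf fun d => K.lemmaA (hH d d.2.1 d.2.2).1 (hCH d d.2.1 d.2.2)
    (fun h => hY1 (le_bot_iff.1 ((hY d d.2.1 d.2.2).trans h.le))) hL
    (le_normalizer_iInf' _ fun c => K.pOf_inv (hH c (hL.1 c.2.1) c.2.2).1.1 q) fun c hc hc1 =>
      ⟨pOf q (H c), K.pOf_mem (hH c (hL.1 hc) hc1).1.1 q, OddOrder.isPGroup_pOf _,
        K.inf_le_normalizer_pOf (hCH c (hL.1 hc) hc1) q,
        (hH c (hL.1 hc) hc1).2.trans (OddOrder.le_normalizer_pOf _),
        iInf_le (fun c : {c : G // c ∈ L ∧ c ≠ 1} => pOf q (H c)) ⟨c, hc, hc1⟩⟩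
  have hTP : T ≤ P := le_iInf fun c =>
    iInf_le (fun c : {c : G // c ∈ A ∧ c ≠ 1} => pOf q (H c)) ⟨c, hL.1 c.2.1, c.2.2⟩
  rw [← le_antisymm hPT hTP]
  exact le_normalizer_iInf' _ fun c => ((Signalizer.signalizerInf_le c.2.1 c.2.2).trans
    (hH c (hL.1 c.2.1) c.2.2).2).trans (OddOrder.le_normalizer_pOf _)

/-- All points pure for `q` is impossible. -/
theorem theoremA_pure (H : G → Subgroup G) (hH : ∀ c ∈ A, c ≠ 1 → IsMax p A θ (H c) ∧ θ c ≤ H c)
    (hQ : ∀ c ∈ A, c ≠ 1 → pOf q (H c) ≠ ⊥)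
    (hpure : ∀ c ∈ A, c ≠ 1 → ∀ t : ℕ, t.Prime → t ≠ q → pOf t (H c) = ⊥) : False := by
  set E := qCap p A θ q
  have hQE : ∀ c ∈ A, c ≠ 1 → pOf q (H c) ≤ E := fun c hc hc1 =>
    K.le_qCap (K.pOf_mem (hH c hc hc1).1.1 q) (OddOrder.isPGroup_pOf _)
      (K.inf_le_normalizer_pOf ((K.inf_le_theta hc hc1).trans (hH c hc hc1).2) q)
  obtain ⟨a, ha, ha1⟩ := K.exists_ne_one
  refine K.theoremA (q := q) H hH (zq_ne_bot (K.isPGroup_qCap q) fun h =>
    hQ a ha ha1 (le_bot_iff.1 ((hQE a ha ha1).trans h.le))) fun c hc hc1 => ?_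
  have hZQ : zq q E ≤ centralizer (pOf q (H c) : Set G) :=
    Subgroup.le_centralizer_iff.1 ((hQE c hc hc1).trans (le_centralizer_zq E))
  exact (le_inf (K.absorb_centralizer (hH c hc hc1).1 (hQ c hc hc1) (K.zq_mem (K.qCap_mem q) q) hZQ) hZQ).trans
    (inf_centralizer_pOf_le (hH c hc hc1).1.1.1 (hpure c hc hc1))

end CE

end Cfsg.Agent.SSFT
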