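import Cfsg.Agent.Lib.SSFT.Gen
import Cfsg.Agent.Lib.SSFT.Cores

/-!
# A minimal counterexample: maximal members and the star criterion
-/

set_option linter.unusedSectionVars false
set_option linter.style.haveILetI false
set_option autoImplicit false

namespace Cfsg.Agent.SSFT

open Cfsg
open Subgroup (normalizer centralizer zpowers mem_normalizer_iff)
open scoped Pointwise commutatorElement
open Cfsg.Agent.OddOrder (pOf)

universe w
variable {G : Type w} [Group G]

/-- Some member contains every `θ a`. -/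
def Complete (p : ℕ) (A : Subgroup G) (θ : G → Subgroup G) : Prop :=
  ∃ W ∈ signalizerFamily p A θ, ∀ a ∈ A, a ≠ 1 → θ a ≤ W

/-- A minimal counterexample. -/
structure CE (p : ℕ) (A : Subgroup G) (θ : G → Subgroup G) : Prop extends Setting p A θ where
  not_complete : ¬ Complete p A θ
  ih : ∀ η : G → Subgroup G, IsSolvableSignalizerFunctor p A η → (∀ a ∈ A, a ≠ 1 → η a ≤ θ a) →
    (∃ a ∈ A, a ≠ 1 ∧ η a ≠ θ a) → Complete p A η
  not_normalized : ∀ Y ∈ signalizerFamily p A θ, Y ≠ ⊥ → ∃ a ∈ A, a ≠ 1 ∧ ¬ θ a ≤ normalizer (Y : Set G)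

/-- A maximal member of the family. -/
def IsMax (p : ℕ) (A : Subgroup G) (θ : G → Subgroup G) (M : Subgroup G) : Prop :=
  M ∈ signalizerFamily p A θ ∧ ∀ X ∈ signalizerFamily p A θ, M ≤ X → X ≤ M

variable [Finite G] {p : ℕ} [hpF : Fact p.Prime] {A : Subgroup G} {θ : G → Subgroup G}

theorem exists_max_ge {X : Subgroup G} (hX : X ∈ signalizerFamily p A θ) :
    ∃ M, IsMax p A θ M ∧ X ≤ M := by
  obtain ⟨M, hXM, hM⟩ := Set.Finite.exists_le_maximal (Set.toFinite (signalizerFamily p A θ)) hX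
  exact ⟨M, ⟨hM.1, fun Y hY h => hM.2 hY h⟩, hXM⟩

namespace Setting
variable (S : Setting p A θ)
include S

theorem bot_mem : (⊥ : Subgroup G) ∈ signalizerFamily p A θ :=
  Signalizer.family_of_le S.inf_mem bot_le (by rw [Subgroup.normalizer_eq_top]; exact le_top)

theorem sub_mem {X Y : Subgroup G} (hX : X ∈ signalizerFamily p A θ) (hYX : Y ≤ X)
    (hY : A ≤ normalizer (Y : Set G)) : Y ∈ signalizerFamily p A θ := Signalizer.family_of_le hX hYX hY

theorem inv {X : Subgroup G} (hX : X ∈ signalizerFamily p A θ) : A ≤ normalizer (X : Set G) :=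
  Signalizer.le_normalizer_of_family hX

theorem sup_mem {X Y : Subgroup G} (hX : X ∈ signalizerFamily p A θ) (hY : Y ∈ signalizerFamily p A θ)
    (hn : Y ≤ normalizer (X : Set G)) : X ⊔ Y ∈ signalizerFamily p A θ :=
  Signalizer.sup_mem_family S.hA S.hθ hX hY hn

theorem normalizer_inv {X : Subgroup G} (hX : A ≤ normalizer (X : Set G)) :
    A ≤ normalizer (normalizer (X : Set G) : Set G) := hX.trans Subgroup.le_normalizer

theorem centralizer_inv {X : Subgroup G} (hX : A ≤ normalizer (X : Set G)) :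
    A ≤ normalizer ((centralizer (X : Set G) : Subgroup G) : Set G) := Coprime.le_normalizer_centralizer hX

theorem pOf_inv {H : Subgroup G} (hH : H ∈ signalizerFamily p A θ) (r : ℕ) :
    A ≤ normalizer (pOf r H : Set G) := (S.inv hH).trans (OddOrder.normalizer_le_normalizer_pOf H)

theorem pOf_mem {H : Subgroup G} (hH : H ∈ signalizerFamily p A θ) (r : ℕ) :
    pOf r H ∈ signalizerFamily p A θ := S.sub_mem hH (OddOrder.pOf_le H) (S.pOf_inv hH r)

theorem zq_inv {X : Subgroup G} (hX : A ≤ normalizer (X : Set G)) (v : ℕ) :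
    A ≤ normalizer (zq v X : Set G) := hX.trans (normalizer_le_normalizer_zq X)

theorem zq_mem {X : Subgroup G} (hX : X ∈ signalizerFamily p A θ) (v : ℕ) :
    zq v X ∈ signalizerFamily p A θ := S.sub_mem hX (zq_le X) (S.zq_inv (S.inv hX) v)

theorem prime_ne_of_pOf {H : Subgroup G} (hH : H ∈ signalizerFamily p A θ) {r : ℕ} [Fact r.Prime]
    (hne : pOf r H ≠ ⊥) : r ≠ p := by
  rintro rfl
  exact hne (PCore.eq_bot_of_isPGroup_of_coprime (OddOrder.isPGroup_pOf H)
    ((Nat.Prime.coprime_iff_not_dvd hpF.out).2 (S.pOf_mem hH r).2.1).symm)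

theorem commutator_mem {X : Subgroup G} (hX : X ∈ signalizerFamily p A θ) {c : G} (hc : c ∈ A) :
    ⁅X, zpowers c⁆ ∈ signalizerFamily p A θ :=
  S.sub_mem hX (Coprime.commutator_le_left_of_le_normalizer ((Subgroup.zpowers_le.2 hc).trans (S.inv hX)))
    (le_normalizer_commutator₂ (S.inv hX) (S.le_normalizer_of_sub (Subgroup.zpowers_le.2 hc)))

theorem commutator_zpowers_le {X T : Subgroup G} {c : G} (hc : c ∈ A) (hX : A ≤ normalizer (X : Set G))
    (hXp : ¬ p ∣ Nat.card X) (hs : Group.IsSolvable X)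
    (h : ∀ L, IsLine p A L → ⁅X ⊓ centralizer (L : Set G), zpowers c⁆ ≤ T) : ⁅X, zpowers c⁆ ≤ T :=
  S.commutator_le_of_lines hX hXp hs ((Subgroup.zpowers_le.2 hc).trans hX)
    (S.coprime_sub (Subgroup.zpowers_le.2 hc) hXp) (S.le_centralizer_of_le (Subgroup.zpowers_le.2 hc)) h

end Setting

namespace CE

variable (K : CE p A θ)
include K

/-- The greatest member inside an `A`-invariant `T` not containing all `θ a`. -/
theorem exists_greatest {T : Subgroup G} (hT : A ≤ normalizer (T : Set G))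
    (hne : ∃ a ∈ A, a ≠ 1 ∧ ¬ θ a ≤ T) :
    ∃ W ∈ signalizerFamily p A θ, W ≤ T ∧ ∀ X ∈ signalizerFamily p A θ, X ≤ T → X ≤ W := by
  let η : G → Subgroup G := fun a => θ a ⊓ T
  have hη : IsSolvableSignalizerFunctor p A η := by
    refine ⟨⟨fun a ha ha1 => inf_le_left.trans (K.theta_le_centralizer ha ha1),
      fun a ha ha1 hd => (K.theta_mem ha ha1).2.1 (hd.trans (Subgroup.card_dvd_of_le inf_le_left)),
      fun a ha ha1 b hb x hx => ⟨(mem_normalizer_iff.1 (K.theta_le_normalizer ha ha1 hb) x).1 hx.1,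
        (mem_normalizer_iff.1 (hT hb) x).1 hx.2⟩,
      fun a ha ha1 b hb hb1 x hx => ⟨K.balance ha ha1 hb hb1 ⟨hx.1.1, hx.2⟩, hx.1.2⟩⟩,
      fun a ha ha1 => Coprime.isSolvable_of_le inf_le_left (K.theta_mem ha ha1).1⟩
  obtain ⟨a, ha, ha1, hna⟩ := hne
  obtain ⟨W, hW, hWη⟩ := K.ih η hη (fun _ _ _ => inf_le_left)
    ⟨a, ha, ha1, fun e => hna (e.ge.trans inf_le_right)⟩
  have hWF : W ∈ signalizerFamily p A θ :=
    ⟨hW.1, hW.2.1, hW.2.2.1, fun b hb hb1 => (hW.2.2.2 b hb hb1).trans inf_le_left⟩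
  obtain ⟨L, hL, -⟩ := K.exists_line_mem A.one_mem
  refine ⟨W, hWF, ?_, fun X hX hXT => ?_⟩
  · exact K.le_of_points hL (hL.1.trans (K.inv hWF)) hW.2.1 fun c hc hc1 =>
      (hW.2.2.2 c (hL.1 hc) hc1).trans inf_le_right
  · exact K.le_of_points hL (hL.1.trans (K.inv hX)) hX.2.1 fun c hc hc1 =>
      le_trans (le_inf (hX.2.2.2 c (hL.1 hc) hc1) (inf_le_left.trans hXT)) (hWη c (hL.1 hc) hc1)

theorem exists_not_le {M : Subgroup G} (hM : M ∈ signalizerFamily p A θ) : ∃ a ∈ A, a ≠ 1 ∧ ¬ θ a ≤ M := by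
  by_contra h
  push Not at h
  exact K.not_complete ⟨M, hM, h⟩

/-- A maximal member is the greatest member normalizing any of its nontrivial normal members. -/
theorem absorb {H X : Subgroup G} (hH : IsMax p A θ H) (hX : X ∈ signalizerFamily p A θ) (hX1 : X ≠ ⊥)
    (hHX : H ≤ normalizer (X : Set G)) {Y : Subgroup G} (hY : Y ∈ signalizerFamily p A θ)
    (hYX : Y ≤ normalizer (X : Set G)) : Y ≤ H := by
  obtain ⟨W, hW, -, hgr⟩ := K.exists_greatest (K.normalizer_inv (K.inv hX)) (K.not_normalized X hX hX1)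
  exact (hgr Y hY hYX).trans (hH.2 W hW (hgr H hH.1 hHX))

theorem absorb_pOf {H : Subgroup G} (hH : IsMax p A θ H) {r : ℕ} (hne : pOf r H ≠ ⊥) {Y : Subgroup G}
    (hY : Y ∈ signalizerFamily p A θ) (hYX : Y ≤ normalizer (pOf r H : Set G)) : Y ≤ H :=
  K.absorb hH (K.pOf_mem hH.1 r) hne (OddOrder.le_normalizer_pOf H) hY hYX

theorem absorb_centralizer {H : Subgroup G} (hH : IsMax p A θ H) {r : ℕ} (hne : pOf r H ≠ ⊥) {Y : Subgroup G}
    (hY : Y ∈ signalizerFamily p A θ) (hYX : Y ≤ centralizer (pOf r H : Set G)) : Y ≤ H :=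
  K.absorb_pOf hH hne hY (hYX.trans (Subgroup.centralizer_le_normalizer _))

/-- A maximal member containing all members normalizing `X`. -/
theorem exists_max_normalizing {X : Subgroup G} (hX : X ∈ signalizerFamily p A θ) (hX1 : X ≠ ⊥) :
    ∃ M, IsMax p A θ M ∧ ∀ Y ∈ signalizerFamily p A θ, Y ≤ normalizer (X : Set G) → Y ≤ M := by
  obtain ⟨W, hW, -, hgr⟩ := K.exists_greatest (K.normalizer_inv (K.inv hX)) (K.not_normalized X hX hX1)
  obtain ⟨M, hM, hWM⟩ := exists_max_ge hW
  exact ⟨M, hM, fun Y hY h => (hgr Y hY h).trans hWM⟩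

theorem max_ne_bot {M : Subgroup G} (hM : IsMax p A θ M) : M ≠ ⊥ := by
  rintro rfl
  obtain ⟨a, ha, ha1, hne⟩ := K.exists_not_le hM.1
  exact hne (hM.2 _ (K.theta_mem ha ha1) bot_le)

/-- **Star criterion**: no member contains all `[θ L, e]`. -/
theorem star {e : G} (he : e ∈ A) (he1 : e ≠ 1) {M : Subgroup G} (hM : M ∈ signalizerFamily p A θ)
    (h : ∀ L, IsLine p A L → e ∉ L → ⁅signalizerInf L θ, zpowers e⁆ ≤ M) : False := by
  haveI := K.isMulCommutative
  set W₀ := ⨆ d : {d : G // d ∈ A ∧ d ≠ 1}, ⁅θ (d : G), zpowers e⁆ with hW₀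
  have hbot : ∀ L, IsLine p A L → e ∈ L → ⁅signalizerInf L θ, zpowers e⁆ = ⊥ := fun L hL heL => by
    rw [Subgroup.commutator_eq_bot_iff_le_centralizer]
    exact (K.inf_le_centralizer hL.1).trans (Subgroup.centralizer_le (Subgroup.zpowers_le.2 heL))
  have hline : ∀ d ∈ A, d ≠ 1 → ∀ {T : Subgroup G}, (∀ L, IsLine p A L → d ∈ L →
      ⁅signalizerInf L θ, zpowers e⁆ ≤ T) → ⁅θ d, zpowers e⁆ ≤ T := by
    intro d hd hd1 T hT
    refine K.commutator_zpowers_le he (K.theta_le_normalizer hd hd1) (K.theta_mem hd hd1).2.1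
      (K.theta_mem hd hd1).1 fun L hL => ?_
    by_cases hdL : d ∈ L
    · exact (Subgroup.commutator_mono (K.inf_centralizer_le hL.1 (K.theta_mem hd hd1)) le_rfl).trans (hT L hL hdL)
    · obtain ⟨L', hL', hdL'⟩ := K.exists_line_mem hd
      have hA : A ≤ L ⊔ zpowers d := by
        by_contra hne
        have hle : L ⊔ zpowers d ≤ A := sup_le hL.1 (Subgroup.zpowers_le.2 hd)
        obtain ⟨L₁, hL₁, hle₁⟩ := K.exists_line_ge hle fun e => hne e.ge
        have := Subgroup.eq_of_le_of_card_ge (le_sup_left.trans hle₁) (by rw [hL.2, hL₁.2])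
        exact hdL (this.ge (hle₁ (Subgroup.mem_sup_right (Subgroup.mem_zpowers d))))
      have hsub : θ d ⊓ centralizer (L : Set G) ≤ signalizerInf L' θ := by
        refine le_trans (le_inf inf_le_left ?_) (K.inf_centralizer_le hL'.1 (K.theta_mem hd hd1))
        rw [← Subgroup.le_centralizer_iff]
        refine (hL'.1.trans hA).trans (sup_le (Subgroup.le_centralizer_iff.1 inf_le_right) (Subgroup.zpowers_le.2 ?_))
        exact Subgroup.mem_centralizer_iff.2 fun x hx =>
          Subgroup.mem_centralizer_singleton_iff.1 (K.theta_le_centralizer hd hd1 hx.1)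
      exact (Subgroup.commutator_mono hsub le_rfl).trans (hT L' hL' hdL')
  have hW₀M : W₀ ≤ M := iSup_le fun d => hline d d.2.1 d.2.2 fun L hL _ => by
    by_cases heL : e ∈ L
    · rw [hbot L hL heL]; exact bot_le
    · exact h L hL heL
  have hW₀A : A ≤ normalizer (W₀ : Set G) := le_normalizer_iSup' _ fun d =>
    le_normalizer_commutator₂ (K.theta_le_normalizer d.2.1 d.2.2)
      (K.le_normalizer_of_sub (Subgroup.zpowers_le.2 he))
  have hW₀F : W₀ ∈ signalizerFamily p A θ := K.sub_mem hM hW₀M hW₀A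
  have hnorm : θ e ≤ normalizer (W₀ : Set G) := by
    refine K.theta_le_of_lines he he1 fun B hB heB => ?_
    have hstep : ∀ x ∈ signalizerInf B θ, W₀ ≤ W₀.comap (MulAut.conj x).toMonoidHom := by
      intro x hx
      refine iSup_le fun d => hline d d.2.1 d.2.2 fun L hL _ => ?_
      obtain ⟨d', hdL, hdB, hd1⟩ := K.meet hL hB
      refine (Subgroup.commutator_mono (Signalizer.signalizerInf_le hdL hd1) le_rfl).trans ?_
      intro w hw
      refine Subgroup.mem_comap.2 (le_iSup (fun d : {d : G // d ∈ A ∧ d ≠ 1} => ⁅θ (d : G), zpowers e⁆)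
        ⟨d', hL.1 hdL, hd1⟩ ?_)
      have hxn : x ∈ normalizer ((⁅θ d', zpowers e⁆ : Subgroup G) : Set G) := by
        refine le_normalizer_commutator₂ (S := zpowers x) ?_ ?_ (Subgroup.mem_zpowers x)
        · exact (Subgroup.zpowers_le.2 (Signalizer.signalizerInf_le hdB hd1 hx)).trans Subgroup.le_normalizer
        · refine Subgroup.zpowers_le.2 (Subgroup.centralizer_le_normalizer _ ?_)
          exact Subgroup.centralizer_le (Subgroup.zpowers_le.2 heB) (K.inf_le_centralizer hB.1 hx)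
      exact (mem_normalizer_iff.1 hxn w).1 hw
    exact Signalizer.le_normalizer_of_conj_mem fun x hx w hw => hstep x hx hw
  refine K.not_complete ⟨W₀ ⊔ θ e, K.sup_mem hW₀F (K.theta_mem he he1) hnorm, fun d hd hd1 => ?_⟩
  have h2 : zpowers e ≤ normalizer (θ d : Set G) :=
    (Subgroup.zpowers_le.2 he).trans (K.theta_le_normalizer hd hd1)
  refine (Coprime.commutator_sup_centralizer h2 (K.coprime_sub (Subgroup.zpowers_le.2 he)
    (K.theta_mem hd hd1).2.1) (Or.inr (K.theta_mem hd hd1).1)).ge.trans (sup_le_sup ?_ ?_)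
  · exact le_iSup (fun d : {d : G // d ∈ A ∧ d ≠ 1} => ⁅θ (d : G), zpowers e⁆) ⟨d, hd, hd1⟩
  · rw [Signalizer.centralizer_zpowers]
    exact K.balance hd hd1 he he1

/-- If all lines but one have `θ L ≤ M`, contradiction. -/
theorem cor {B₀ M : Subgroup G} (hB₀ : IsLine p A B₀) (hM : M ∈ signalizerFamily p A θ)
    (h : ∀ L, IsLine p A L → L ≠ B₀ → signalizerInf L θ ≤ M) : False := by
  obtain ⟨e, he, he1⟩ := K.exists_ne_one_of_line hB₀
  refine K.star (hB₀.1 he) he1 hM fun L hL heL => ?_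
  exact (Subgroup.commutator_mono (h L hL fun e' => heL (e' ▸ he)) le_rfl).trans
    (Coprime.commutator_le_left_of_le_normalizer ((Subgroup.zpowers_le.2 (hB₀.1 he)).trans (K.inv hM)))

end CE

end Cfsg.Agent.SSFT
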