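import Cfsg.Agent.Lib.SSFT.LemmaA
import Cfsg.Agent.Lib.SSFT.BL

/-!
# Movers
-/

set_option linter.unusedSectionVars false
set_option linter.style.haveILetI false
set_option autoImplicit false

namespace Cfsg.Agent.SSFT

open Cfsg
open Subgroup (normalizer centralizer zpowers mem_normalizer_iff)
open scoped Pointwise commutatorElement
open Cfsg.Agent.OddOrder (pOf)

universe w
variable {G : Type w} [Group G]

/-- `O_t(H)` for odd `t` and `Ω₁(Z(O_2(H)))` for `t = 2`. -/
def colPart (t : ℕ) (H : Subgroup G) : Subgroup G := if t = 2 then zq 2 (pOf 2 H) else pOf t H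

/-- `c` moves the colour `t`. -/
def IsMover (p : ℕ) (A : Subgroup G) (θ : G → Subgroup G) (c : G) (t : ℕ) : Prop :=
  t.Prime ∧ ∃ H, IsMax p A θ H ∧ θ c ≤ H ∧ ⁅colPart t H, zpowers c⁆ ≠ ⊥

variable [Finite G]

theorem colPart_le_pOf (t : ℕ) (H : Subgroup G) : colPart t H ≤ pOf t H := by
  unfold colPart
  split
  · subst_vars; exact zq_le _
  · exact le_rfl

theorem normalizer_le_normalizer_colPart (t : ℕ) (H : Subgroup G) :
    normalizer (H : Set G) ≤ normalizer (colPart t H : Set G) := by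
  unfold colPart
  split
  · exact (OddOrder.normalizer_le_normalizer_pOf H).trans (normalizer_le_normalizer_zq _)
  · exact OddOrder.normalizer_le_normalizer_pOf H

theorem isMulCommutative_colPart_two (H : Subgroup G) : IsMulCommutative (colPart 2 H) := by
  refine ⟨⟨fun a b => Subtype.ext ?_⟩⟩
  have ha : (a : G) ∈ zq 2 (pOf 2 H) := by simpa [colPart] using a.2
  have hb : (b : G) ∈ zq 2 (pOf 2 H) := by simpa [colPart] using b.2
  exact (Subgroup.mem_centralizer_iff.1 (le_centralizer_zq _ (zq_le _ ha)) b hb).symm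

/-- A `u`-subgroup of a normal subgroup `C` of `H`, normalized by `C`, lies in `O_u(H)`. -/
theorem le_pOf_of_normal {u : ℕ} {H C Y : Subgroup G} (hCH : C ≤ H) (hHC : H ≤ normalizer (C : Set G))
    (hYC : Y ≤ C) (hn : C ≤ normalizer (Y : Set G)) (hY : IsPGroup u Y) : Y ≤ pOf u H :=
  (OddOrder.le_pOf hYC hn hY).trans (OddOrder.le_pOf ((OddOrder.pOf_le C).trans hCH)
    (hHC.trans (OddOrder.normalizer_le_normalizer_pOf C)) (OddOrder.isPGroup_pOf C))

/-- Cores of two subgroups inside each other commute. -/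
theorem pOf_le_centralizer_of_le {r s : ℕ} [Fact r.Prime] [Fact s.Prime] (hrs : r ≠ s) {H H' : Subgroup G}
    (h1 : pOf r H ≤ H') (h2 : pOf s H' ≤ H) : pOf r H ≤ centralizer (pOf s H' : Set G) :=
  OddOrder.le_centralizer_of_normalize
    (OddOrder.inf_eq_bot_of_pgroup hrs (OddOrder.isPGroup_pOf H) (OddOrder.isPGroup_pOf H'))
    (h1.trans (OddOrder.le_normalizer_pOf H')) (h2.trans (OddOrder.le_normalizer_pOf H))

/-- A variant of `le_centralizer_of_normalize`. -/
theorem le_centralizer_of_normalize' {A₁ A' B : Subgroup G} (hA : A₁ ≤ A') (hB : B ≤ normalizer (A' : Set G))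
    (hA₁ : A₁ ≤ normalizer (B : Set G)) (h : A' ⊓ B = ⊥) : A₁ ≤ centralizer (B : Set G) := by
  intro a ha
  refine Subgroup.mem_centralizer_iff.2 fun b hb => ?_
  have h1 : ⁅b, a⁆ ∈ A' ⊓ B := by
    refine ⟨?_, ?_⟩
    · rw [commutatorElement_def]
      exact A'.mul_mem ((mem_normalizer_iff.1 (hB hb) a).1 (hA ha)) (A'.inv_mem (hA ha))
    · rw [commutatorElement_def, mul_assoc b, mul_assoc]
      exact B.mul_mem hb ((mem_normalizer_iff.1 (hA₁ ha) _).1 (B.inv_mem hb))
  rw [h, Subgroup.mem_bot] at h1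
  exact commutatorElement_eq_one_iff_mul_comm.1 h1

variable {p : ℕ} [hpF : Fact p.Prime] {A : Subgroup G} {θ : G → Subgroup G}

namespace Setting

variable (S : Setting p A θ)
include S

theorem colPart_mem {H : Subgroup G} (hH : H ∈ signalizerFamily p A θ) (t : ℕ) :
    colPart t H ∈ signalizerFamily p A θ :=
  S.sub_mem hH ((colPart_le_pOf t H).trans (OddOrder.pOf_le H))
    ((S.inv hH).trans (normalizer_le_normalizer_colPart t H))

theorem pLine_commute {u t : ℕ} [Fact u.Prime] [Fact t.Prime] (hut : u ≠ t) {L L' : Subgroup G}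
    (hL : IsLine p A L) (hL' : IsLine p A L') : pLine u θ L ≤ centralizer (pLine t θ L' : Set G) := by
  obtain ⟨d, hd, hd', hd1⟩ := S.meet hL hL'
  exact (pLine_le hd hd1).trans ((OddOrder.pOf_le_centralizer_pOf hut (θ d)).trans
    (Subgroup.centralizer_le (pLine_le hd' hd1)))

theorem wCap_commute {u t : ℕ} [Fact u.Prime] [Fact t.Prime] (hut : u ≠ t) :
    wCap p A θ u ≤ centralizer (wCap p A θ t : Set G) :=
  iSup_le fun L => Subgroup.le_centralizer_iff.1
    (iSup_le fun L' => S.pLine_commute hut.symm L'.2 L.2)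

theorem pLine_le_pOf {u : ℕ} [Fact u.Prime] {T L : Subgroup G} (hT : T ∈ signalizerFamily p A θ)
    (hL : IsLine p A L) (hle : pLine u θ L ≤ T) : pLine u θ L ≤ pOf u T := by
  haveI := S.isMulCommutative_sub hL.1
  exact line_le_pOf (S.not_isCyclic_line hL) (hL.1.trans (S.inv hT)) (S.coprime_sub hL.1 hT.2.1) hT.1 hle
    (S.isPGroup_pLine hL) fun c hc hc1 => ⟨pOf u (θ c), OddOrder.isPGroup_pOf _, pLine_le hc hc1,
      (hT.2.2.2 c (hL.1 hc) hc1).trans (OddOrder.le_normalizer_pOf _)⟩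

theorem wCap_inv (u : ℕ) : A ≤ normalizer (wCap p A θ u : Set G) :=
  le_normalizer_iSup' _ fun L => S.pLine_inv L.2

end Setting

namespace CE

variable (K : CE p A θ)
include K

theorem commutator_colPart_le {c : G} (hc : c ∈ A) (hc1 : c ≠ 1) {H : Subgroup G} (hH : IsMax p A θ H)
    (hcH : θ c ≤ H) {t : ℕ} [Fact t.Prime] {L : Subgroup G} (hL : IsLine p A L) :
    ⁅colPart t H ⊓ centralizer (L : Set G), zpowers c⁆ ≤ pLine t θ L := by
  by_cases htp : t = p
  · have h0 : pOf t H = ⊥ := by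
      by_contra hne
      exact K.prime_ne_of_pOf hH.1 hne htp
    have h1 : colPart t H = ⊥ := le_bot_iff.1 ((colPart_le_pOf t H).trans h0.le)
    rw [h1, bot_inf_eq, Subgroup.commutator_bot_left]
    exact bot_le
  refine le_iInf fun b => ?_
  obtain ⟨b, hb, hb1⟩ := b
  have hbA := hL.1 hb
  set U := colPart t H ⊓ centralizer {b} with hU
  refine le_trans (Subgroup.commutator_mono (inf_le_inf_left _
    (Subgroup.centralizer_le (Set.singleton_subset_iff.2 hb))) le_rfl) ?_
  have hUA : A ≤ normalizer (U : Set G) := Coprime.le_normalizer_inf_of_le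
    ((K.inv hH.1).trans (normalizer_le_normalizer_colPart t H)) (K.le_normalizer_centralizer_singleton hbA)
  have hUθ : U ≤ θ b := (inf_le_inf_right _ ((colPart_le_pOf t H).trans (OddOrder.pOf_le H))).trans
    (hH.1.2.2.2 b hbA hb1)
  refine bl htp (K.pow_eq hc) (K.theta_mem hbA hb1).1 (K.theta_mem hbA hb1).2.1 hUθ
    ((OddOrder.isPGroup_pOf H).to_le (inf_le_left.trans (colPart_le_pOf t H)))
    (K.theta_le_normalizer hbA hb1 hc) (hUA hc) ?_ fun ht2 => ?_
  · refine Coprime.le_normalizer_inf_of_le ?_ ?_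
    · exact (((K.balance hbA hb1 hc hc1).trans hcH).trans Subgroup.le_normalizer).trans
        (normalizer_le_normalizer_colPart t H)
    · exact (inf_le_left.trans (K.theta_le_centralizer hbA hb1)).trans Subgroup.le_normalizer
  · subst ht2
    haveI := isMulCommutative_colPart_two H
    exact ⟨⟨fun x y => Subtype.ext (congrArg (Subtype.val : colPart 2 H → G)
      (mul_comm' (⟨x, x.2.1⟩ : colPart 2 H) ⟨y, y.2.1⟩))⟩⟩

theorem commutator_colPart_le_wCap {c : G} (hc : c ∈ A) (hc1 : c ≠ 1) {H : Subgroup G} (hH : IsMax p A θ H)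
    (hcH : θ c ≤ H) {t : ℕ} [Fact t.Prime] : ⁅colPart t H, zpowers c⁆ ≤ wCap p A θ t := by
  have hX := K.colPart_mem hH.1 t
  exact K.commutator_zpowers_le hc (K.inv hX) hX.2.1 hX.1 fun L hL => (K.commutator_colPart_le hc hc1 hH hcH hL).trans
    (le_iSup (fun L : {L : Subgroup G // IsLine p A L} => pLine t θ L) ⟨L, hL⟩)

/-- A mover lies with its signalizer in a maximal member absorbing the centralizer of `W_t`. -/
theorem mover_data {c : G} (hc : c ∈ A) (hc1 : c ≠ 1) {t : ℕ} (h : IsMover p A θ c t) :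
    ∃ M, IsMax p A θ M ∧ θ c ≤ M ∧ pOf t M ≠ ⊥ ∧ wCap p A θ t ≠ ⊥ ∧
      (∀ Y ∈ signalizerFamily p A θ, Y ≤ centralizer (wCap p A θ t : Set G) → Y ≤ M) ∧
      ∀ u : ℕ, u.Prime → wCap p A θ u ≤ pOf u M := by
  obtain ⟨ht, H, hH, hcH, hD⟩ := h
  haveI := Fact.mk ht
  set D := ⁅colPart t H, zpowers c⁆ with hDdef
  have hDW : D ≤ wCap p A θ t := K.commutator_colPart_le_wCap hc hc1 hH hcH
  have hX := K.colPart_mem hH.1 t
  have hDF : D ∈ signalizerFamily p A θ := K.commutator_mem hX hc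
  obtain ⟨M, hM, hMle⟩ := K.exists_max_normalizing hDF hD
  have hcM : θ c ≤ M := hMle _ (K.theta_mem hc hc1) <| le_normalizer_commutator₂
    ((hcH.trans Subgroup.le_normalizer).trans (normalizer_le_normalizer_colPart t H))
    (((K.theta_le_centralizer hc hc1).trans_eq (Signalizer.centralizer_zpowers c).symm).trans
      (Subgroup.centralizer_le_normalizer _))
  have hCM : signalizerInf A θ ≤ M := (Signalizer.signalizerInf_le hc hc1).trans hcM
  have hW1 : wCap p A θ t ≠ ⊥ := fun e => hD (le_bot_iff.1 (hDW.trans e.le))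
  have hcent : ∀ Y ∈ signalizerFamily p A θ, Y ≤ centralizer (wCap p A θ t : Set G) → Y ≤ M := fun Y hY hYc =>
    hMle Y hY ((hYc.trans (Subgroup.centralizer_le hDW)).trans (Subgroup.centralizer_le_normalizer _))
  have hDM : D ≤ M := hMle D hDF Subgroup.le_normalizer
  have hDt : D ≤ pOf t M := by
    refine K.commutator_zpowers_le hc (K.inv hX) hX.2.1 hX.1 fun L hL => ?_
    haveI := K.isMulCommutative_sub hL.1
    have hY1 := K.commutator_colPart_le (t := t) hc hc1 hH hcH hL
    refine line_le_pOf (K.not_isCyclic_line hL) (hL.1.trans (K.inv hM.1)) (K.coprime_sub hL.1 hM.1.2.1) hM.1.1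
      ((Subgroup.commutator_mono inf_le_left le_rfl).trans hDM) ((K.isPGroup_pLine hL).to_le hY1)
      fun d hd hd1 => ⟨pOf t (θ d), OddOrder.isPGroup_pOf _, hY1.trans (pLine_le hd hd1),
        (hM.1.2.2.2 d (hL.1 hd) hd1).trans (OddOrder.le_normalizer_pOf _)⟩
  have ht1 : pOf t M ≠ ⊥ := fun e => hD (le_bot_iff.1 (hDt.trans e.le))
  refine ⟨M, hM, hcM, ht1, hW1, hcent, fun u hu => ?_⟩
  haveI := Fact.mk hu
  rcases eq_or_ne u t with rfl | hut
  · exact K.wCap_le_max hM hCM ht1
  · refine iSup_le fun L => K.pLine_le_pOf hM.1 L.2 (hcent _ (K.pLine_mem L.2) ?_)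
    exact (le_iSup (fun L : {L : Subgroup G // IsLine p A L} => pLine u θ L) L).trans (K.wCap_commute hut)

theorem master_half {H H' : Subgroup G} (hH : IsMax p A θ H) (hH' : IsMax p A θ H') {u v : ℕ} [Fact u.Prime]
    [Fact v.Prime] (huv : u ≠ v) {Au Av : Subgroup G} (hu1 : Au ≠ ⊥) (hAuA : A ≤ normalizer (Au : Set G))
    (hAv : Av ≠ ⊥) (hu : Au ≤ pOf u H) (hu' : Au ≤ pOf u H') (hv : Av ≤ pOf v H) (hv' : Av ≤ pOf v H')
    (hcu : ∀ Y ∈ signalizerFamily p A θ, Y ≤ centralizer (Au : Set G) → Y ≤ H)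
    (hcv : ∀ Y ∈ signalizerFamily p A θ, Y ≤ centralizer (Av : Set G) → Y ≤ H') : pOf v H ≤ H' := by
  set Y := pOf v H with hY
  set X := Y ⊓ H' with hX
  have hXF : X ∈ signalizerFamily p A θ :=
    K.sub_mem (K.pOf_mem hH.1 v) inf_le_left (Coprime.le_normalizer_inf_of_le (K.pOf_inv hH.1 v) (K.inv hH'.1))
  have hAvX : Av ≤ X := le_inf hv (hv'.trans (OddOrder.pOf_le H'))
  have hXne : X ≠ ⊥ := fun e => hAv (le_bot_iff.1 (hAvX.trans e.le))
  obtain ⟨W, hW, hWN, hWmax⟩ := K.exists_greatest (K.normalizer_inv (K.inv hXF)) (K.not_normalized X hXF hXne)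
  set C := W ⊓ centralizer (X : Set G) with hC
  have hCF : C ∈ signalizerFamily p A θ :=
    K.sub_mem hW inf_le_left (Coprime.le_normalizer_inf_of_le (K.inv hW) (K.centralizer_inv (K.inv hXF)))
  have hCH' : C ≤ H' := hcv C hCF (inf_le_right.trans (Subgroup.centralizer_le hAvX))
  set U₁ := pOf u C with hU₁
  have hU₁F : U₁ ∈ signalizerFamily p A θ := K.pOf_mem hCF u
  have hWU₁ : W ≤ normalizer (U₁ : Set G) :=
    (Coprime.le_normalizer_inf_of_le Subgroup.le_normalizer (Coprime.le_normalizer_centralizer hWN)).trans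
      (OddOrder.normalizer_le_normalizer_pOf C)
  set O := pOf u H' with hO
  have hXH : X ≤ H := inf_le_left.trans (OddOrder.pOf_le H)
  have hYAu : Y ≤ centralizer (Au : Set G) :=
    (OddOrder.pOf_le_centralizer_pOf huv.symm H).trans (Subgroup.centralizer_le hu)
  have hXO : X ≤ centralizer (O : Set G) := by
    refine Coprime.le_centralizer_of_pq (p := u) (P := Au) ((OddOrder.isPGroup_pOf H').to_le hu')
      ?_ (OddOrder.isPGroup_pOf H') (Subgroup.le_centralizer_iff.1 (inf_le_left.trans hYAu))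
      (hu'.trans Subgroup.le_normalizer) (inf_le_right.trans (OddOrder.le_normalizer_pOf H')) ?_
    · obtain ⟨k, hk⟩ := ((OddOrder.isPGroup_pOf H).to_le (inf_le_left : X ≤ Y)).exists_card_eq
      rw [hk]; exact ((Nat.coprime_primes (Fact.out : v.Prime) (Fact.out : u.Prime)).2 huv.symm).pow_left k
    · have hN : O ⊓ centralizer (Au : Set G) ≤ H := hcu _ (K.sub_mem (K.pOf_mem hH'.1 u) inf_le_left
        (Coprime.le_normalizer_inf_of_le (K.pOf_inv hH'.1 u) (K.centralizer_inv hAuA))) inf_le_right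
      refine Subgroup.le_centralizer_iff.1 (le_centralizer_of_normalize' (A' := Y) inf_le_left
        (hN.trans (OddOrder.le_normalizer_pOf H)) ?_ ?_)
      · exact Coprime.le_normalizer_inf_of_le (inf_le_right.trans (OddOrder.le_normalizer_pOf H'))
          ((inf_le_left.trans hYAu).trans Subgroup.le_normalizer)
      · exact OddOrder.inf_eq_bot_of_pgroup huv.symm (OddOrder.isPGroup_pOf H)
          ((OddOrder.isPGroup_pOf H').to_le inf_le_left)
  have hOF : O ∈ signalizerFamily p A θ := K.pOf_mem hH'.1 u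
  have hOC : O ≤ C := le_inf (hWmax O hOF ((Subgroup.le_centralizer_iff.1 hXO).trans
    (Subgroup.centralizer_le_normalizer _))) (Subgroup.le_centralizer_iff.1 hXO)
  have hOU₁ : O ≤ U₁ :=
    OddOrder.le_pOf hOC (hCH'.trans (OddOrder.le_normalizer_pOf H')) (OddOrder.isPGroup_pOf H')
  refine (le_of_inf_normalizer_le (OddOrder.isPGroup_pOf H) inf_le_left ?_ : Y ≤ X).trans inf_le_right
  set T := Y ⊓ normalizer (X : Set G) with hT
  have hTF : T ∈ signalizerFamily p A θ := K.sub_mem (K.pOf_mem hH.1 v) inf_le_left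
    (Coprime.le_normalizer_inf_of_le (K.pOf_inv hH.1 v) (K.normalizer_inv (K.inv hXF)))
  have hTU : T ≤ normalizer (U₁ : Set G) := (hWmax T hTF inf_le_right).trans hWU₁
  set P := U₁ ⊓ H with hP
  have hTP : T ≤ centralizer (P : Set G) := le_centralizer_of_normalize' (A' := Y) inf_le_left
    (inf_le_right.trans (OddOrder.le_normalizer_pOf H))
    (Coprime.le_normalizer_inf_of_le hTU
      ((inf_le_left.trans (OddOrder.pOf_le H)).trans Subgroup.le_normalizer))
    (OddOrder.inf_eq_bot_of_pgroup huv.symm (OddOrder.isPGroup_pOf H)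
      ((OddOrder.isPGroup_pOf C).to_le inf_le_left))
  have hTU₁ : T ≤ centralizer (U₁ : Set G) := by
    refine Coprime.le_centralizer_of_pq (p := u) (P := P) ((OddOrder.isPGroup_pOf C).to_le inf_le_left)
      ?_ (OddOrder.isPGroup_pOf C) (Subgroup.le_centralizer_iff.1 hTP) (inf_le_left.trans Subgroup.le_normalizer)
      hTU ?_
    · obtain ⟨k, hk⟩ := ((OddOrder.isPGroup_pOf H).to_le (inf_le_left : T ≤ Y)).exists_card_eq
      rw [hk]; exact ((Nat.coprime_primes (Fact.out : v.Prime) (Fact.out : u.Prime)).2 huv.symm).pow_left k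
    · have hAuP : Au ≤ P := le_inf (hu'.trans hOU₁) (hu.trans (OddOrder.pOf_le H))
      have hN : U₁ ⊓ centralizer (P : Set G) ≤ H := hcu _ (K.sub_mem hU₁F inf_le_left
        (Coprime.le_normalizer_inf_of_le (K.inv hU₁F)
          (K.centralizer_inv (Coprime.le_normalizer_inf_of_le (K.inv hU₁F) (K.inv hH.1)))))
        (inf_le_right.trans (Subgroup.centralizer_le hAuP))
      exact (le_inf inf_le_left hN).trans (Subgroup.le_centralizer_iff.1 hTP)
  refine le_inf inf_le_left (K.absorb_centralizer hH' (fun e => hu1 (le_bot_iff.1 (hu'.trans e.le))) hTF ?_)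
  exact hTU₁.trans (Subgroup.centralizer_le hOU₁)

/-- Two maximal members linked through two colours coincide. -/
theorem master {H H' : Subgroup G} (hH : IsMax p A θ H) (hH' : IsMax p A θ H') {u v : ℕ} [Fact u.Prime]
    [Fact v.Prime] (huv : u ≠ v) {Au Av : Subgroup G} (hu1 : Au ≠ ⊥) (hAuA : A ≤ normalizer (Au : Set G))
    (hAv : Av ≠ ⊥) (hAvA : A ≤ normalizer (Av : Set G))
    (hu : Au ≤ pOf u H) (hu' : Au ≤ pOf u H') (hv : Av ≤ pOf v H) (hv' : Av ≤ pOf v H')
    (hcu : ∀ Y ∈ signalizerFamily p A θ, Y ≤ centralizer (Au : Set G) → Y ≤ H)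
    (hcv : ∀ Y ∈ signalizerFamily p A θ, Y ≤ centralizer (Av : Set G) → Y ≤ H') : H = H' := by
  have h1 : pOf v H ≤ H' := K.master_half hH hH' huv hu1 hAuA hAv hu hu' hv hv' hcu hcv
  have h2 : pOf u H' ≤ H := K.master_half hH' hH huv.symm hAv hAvA hu1 hv' hv hu' hu hcv hcu
  have hv1 : pOf v H ≠ ⊥ := fun e => hAv (le_bot_iff.1 (hv.trans e.le))
  have hu'1 : pOf u H' ≠ ⊥ := fun e => hu1 (le_bot_iff.1 (hu'.trans e.le))
  have hu0 : pOf u H ≤ H' := hcv _ (K.pOf_mem hH.1 u) ((OddOrder.pOf_le_centralizer_pOf huv H).trans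
    (Subgroup.centralizer_le hv))
  have hv0 : pOf v H' ≤ H := hcu _ (K.pOf_mem hH'.1 v) ((OddOrder.pOf_le_centralizer_pOf huv.symm H').trans
    (Subgroup.centralizer_le hu'))
  have hmem : ∀ {M : Subgroup G}, IsMax p A θ M → ∀ r : ℕ,
      M ⊓ centralizer (pOf r M : Set G) ∈ signalizerFamily p A θ := fun hM r =>
    K.sub_mem hM.1 inf_le_left (Coprime.le_normalizer_inf_of_le (K.inv hM.1) (K.centralizer_inv (K.pOf_inv hM.1 r)))
  have hnorm : ∀ (M : Subgroup G) (r : ℕ),
      M ≤ normalizer ((M ⊓ centralizer (pOf r M : Set G) : Subgroup G) : Set G) := fun M r =>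
    Coprime.le_normalizer_inf_of_le Subgroup.le_normalizer
      (Coprime.le_normalizer_centralizer (OddOrder.le_normalizer_pOf M))
  have e1 : pOf u H' ≤ pOf u H := by
    refine le_pOf_of_normal (C := H ⊓ centralizer (pOf v H : Set G)) inf_le_left (hnorm H v)
      (le_inf h2 (pOf_le_centralizer_of_le huv h2 h1)) ?_ (OddOrder.isPGroup_pOf H')
    exact (hcv _ (hmem hH v) (inf_le_right.trans (Subgroup.centralizer_le hv))).trans (OddOrder.le_normalizer_pOf H')
  have e2 : pOf v H ≤ pOf v H' := by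
    refine le_pOf_of_normal (C := H' ⊓ centralizer (pOf u H' : Set G)) inf_le_left (hnorm H' u)
      (le_inf h1 (pOf_le_centralizer_of_le huv.symm h1 h2)) ?_ (OddOrder.isPGroup_pOf H)
    exact (hcu _ (hmem hH' u) (inf_le_right.trans (Subgroup.centralizer_le hu'))).trans (OddOrder.le_normalizer_pOf H)
  have e3 : pOf u H ≤ pOf u H' := by
    refine le_pOf_of_normal (C := H' ⊓ centralizer (pOf v H' : Set G)) inf_le_left (hnorm H' v)
      (le_inf hu0 (pOf_le_centralizer_of_le huv hu0 hv0)) ?_ (OddOrder.isPGroup_pOf H)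
    exact (K.absorb_centralizer hH hv1 (hmem hH' v) (inf_le_right.trans (Subgroup.centralizer_le e2))).trans
      (OddOrder.le_normalizer_pOf H)
  have e := le_antisymm e1 e3
  have hle : H' ≤ H := K.absorb_pOf hH (e ▸ hu'1) hH'.1 (e ▸ OddOrder.le_normalizer_pOf H')
  exact le_antisymm (hH'.2 H hH.1 hle) hle

end CE

end Cfsg.Agent.SSFT
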