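import Cfsg.Agent.Lib.SSFT.Member
import Cfsg.Agent.Lib.SSFT.Complement

/-!
# The greatest `θ A`-invariant member of order prime to `t`
-/

set_option linter.unusedSectionVars false
set_option linter.style.haveILetI false
set_option autoImplicit false

namespace Cfsg.Agent.SSFT

open Cfsg
open Subgroup (normalizer centralizer zpowers mem_normalizer_iff)
open scoped Pointwise commutatorElement

universe w
variable {G : Type w} [Group G] [Finite G] {p : ℕ} [hpF : Fact p.Prime] {A : Subgroup G} {θ : G → Subgroup G}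

/-- `A`-invariant `t`-complements of `X`. -/
def IsInvCompl (t : ℕ) (A X S : Subgroup G) : Prop :=
  S ≤ X ∧ A ≤ normalizer (S : Set G) ∧ ¬ t ∣ Nat.card S ∧ ∃ k, S.relIndex X = t ^ k

namespace CE

variable (K : CE p A θ) {t : ℕ} [htF : Fact t.Prime]
include K

theorem smul_invCompl {X S : Subgroup G} (hS : IsInvCompl t A X S) {k : G} (hk : k ∈ signalizerInf A θ)
    (hkX : k ∈ normalizer (X : Set G)) : IsInvCompl t A X (MulAut.conj k • S) := by
  obtain ⟨h1, h2, h3, n, h4⟩ := hS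
  have hle : MulAut.conj k • S ≤ X :=
    (Subgroup.pointwise_smul_le_pointwise_smul_iff.2 h1).trans_eq (Coprime.conj_smul_eq_self_of_mem hkX)
  refine ⟨hle, ?_, by rwa [Coprime.card_conj_smul], n, ?_⟩
  · have hkA := K.inf_le_centralizer le_rfl hk
    refine Signalizer.le_normalizer_of_conj_mem fun b hb x hx => ?_
    rw [Coprime.mem_conj_smul_iff] at hx ⊢
    have e : k⁻¹ * b = b * k⁻¹ := by
      rw [inv_mul_eq_iff_eq_mul, ← mul_assoc, eq_mul_inv_iff_mul_eq]
      exact Subgroup.mem_centralizer_iff.1 hkA b hb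
    have e2 : b⁻¹ * k = k * b⁻¹ := by
      rw [inv_mul_eq_iff_eq_mul, ← mul_assoc, eq_mul_inv_iff_mul_eq]
      exact (Subgroup.mem_centralizer_iff.1 hkA b hb).symm
    have := (mem_normalizer_iff.1 (h2 hb) _).1 hx
    have e3 : k⁻¹ * (b * x * b⁻¹) * k = b * (k⁻¹ * x * k) * b⁻¹ :=
      calc k⁻¹ * (b * x * b⁻¹) * k = (k⁻¹ * b) * x * (b⁻¹ * k) := by group
        _ = b * k⁻¹ * x * (k * b⁻¹) := by rw [e, e2]
        _ = b * (k⁻¹ * x * k) * b⁻¹ := by group
    rw [e3]
    exact this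
  · have ea := Subgroup.relIndex_mul_relIndex ⊥ (MulAut.conj k • S) X bot_le hle
    have eb := Subgroup.relIndex_mul_relIndex ⊥ S X bot_le h1
    rw [Subgroup.relIndex_bot_left, Subgroup.relIndex_bot_left, Coprime.card_conj_smul] at ea
    rw [Subgroup.relIndex_bot_left, Subgroup.relIndex_bot_left] at eb
    exact (Nat.eq_of_mul_eq_mul_left Nat.card_pos (ea.trans eb.symm)).trans h4

/-- The greatest `θ A`-invariant member of order prime to `t`. -/
theorem exists_primeCap (ht : ∃ a ∈ A, a ≠ 1 ∧ t ∣ Nat.card (θ a)) :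
    ∃ D ∈ signalizerFamily p A θ, ¬ t ∣ Nat.card D ∧ signalizerInf A θ ≤ normalizer (D : Set G) ∧
      ∀ Y ∈ signalizerFamily p A θ, ¬ t ∣ Nat.card Y → signalizerInf A θ ≤ normalizer (Y : Set G) → Y ≤ D := by
  haveI := K.isMulCommutative
  let η : G → Subgroup G := fun a => ⨅ S : {S : Subgroup G // IsInvCompl t A (θ a) S}, (S : Subgroup G)
  have hex : ∀ a ∈ A, a ≠ 1 → ∃ S, IsInvCompl t A (θ a) S := fun a ha ha1 => by
    obtain ⟨S, h1, h2, h3, h4⟩ := exists_invariant_complement (t := t) (K.theta_le_normalizer ha ha1)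
      (K.coprime (K.theta_mem ha ha1).2.1) (K.theta_mem ha ha1).1
    exact ⟨S, h1, h2, h3, h4⟩
  have hηle : ∀ {a : G} {S : Subgroup G}, IsInvCompl t A (θ a) S → η a ≤ S := fun {a S} h =>
    iInf_le (fun S : {S : Subgroup G // IsInvCompl t A (θ a) S} => (S : Subgroup G)) ⟨S, h⟩
  have hηθ : ∀ a ∈ A, a ≠ 1 → η a ≤ θ a := fun a ha ha1 => by
    obtain ⟨S, hS⟩ := hex a ha ha1; exact (hηle hS).trans hS.1
  have hηt : ∀ a ∈ A, a ≠ 1 → ¬ t ∣ Nat.card (η a) := fun a ha ha1 hd => by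
    obtain ⟨S, hS⟩ := hex a ha ha1; exact hS.2.2.1 (hd.trans (Subgroup.card_dvd_of_le (hηle hS)))
  have hηA : ∀ a, A ≤ normalizer (η a : Set G) := fun a => le_normalizer_iInf' _ fun S => S.2.2.1
  have hηC : ∀ a ∈ A, a ≠ 1 → signalizerInf A θ ≤ normalizer (η a : Set G) := fun a ha ha1 => by
    refine Signalizer.le_normalizer_of_conj_mem fun k hk x hx => ?_
    simp only [η, Subgroup.mem_iInf] at hx ⊢
    intro S
    have hk' := (signalizerInf A θ).inv_mem hk
    have h := hx ⟨_, K.smul_invCompl S.2 hk' (Subgroup.le_normalizer (Signalizer.signalizerInf_le ha ha1 hk'))⟩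
    rw [Coprime.mem_conj_smul_iff, inv_inv] at h
    exact h
  have hmax : ∀ {a : G} {Y : Subgroup G}, a ∈ A → a ≠ 1 → Y ≤ θ a → A ≤ normalizer (Y : Set G) →
      signalizerInf A θ ≤ normalizer (Y : Set G) → ¬ t ∣ Nat.card Y → Y ≤ η a := fun {a Y} ha ha1 hY hYA hYC hYt =>
    le_iInf fun S => le_invariant_complement (K.theta_le_normalizer ha ha1) (K.coprime (K.theta_mem ha ha1).2.1)
      (K.theta_mem ha ha1).1 S.2.1 S.2.2.1 S.2.2.2.1 S.2.2.2.2 hY hYA
      ((K.inf_centralizer_A (K.theta_mem ha ha1)).trans hYC) hYt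
  have hC : ∀ b ∈ A, signalizerInf A θ ≤ normalizer ((centralizer {b} : Subgroup G) : Set G) := fun b hb k hk =>
    Subgroup.le_normalizer (Subgroup.mem_centralizer_singleton_iff.2
      (Subgroup.mem_centralizer_iff.1 (K.inf_le_centralizer le_rfl hk) b hb).symm)
  have hη : IsSolvableSignalizerFunctor p A η := by
    refine ⟨⟨fun a ha ha1 => (hηθ a ha ha1).trans (K.theta_le_centralizer ha ha1),
      fun a ha ha1 hd => (K.theta_mem ha ha1).2.1 (hd.trans (Subgroup.card_dvd_of_le (hηθ a ha ha1))),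
      fun a _ _ b hb x hx => (mem_normalizer_iff.1 (hηA a hb) x).1 hx, fun a ha ha1 b hb hb1 => ?_⟩,
      fun a ha ha1 => Coprime.isSolvable_of_le (hηθ a ha ha1) (K.theta_mem ha ha1).1⟩
    exact hmax hb hb1 ((inf_le_inf_right _ (hηθ a ha ha1)).trans (K.balance ha ha1 hb hb1))
      (Coprime.le_normalizer_inf_of_le (hηA a) (K.le_normalizer_centralizer_singleton hb))
      (Coprime.le_normalizer_inf_of_le (hηC a ha ha1) (hC b hb))
      fun hd => hηt a ha ha1 (hd.trans (Subgroup.card_dvd_of_le inf_le_left))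
  obtain ⟨a₀, ha₀, ha₀1, hd₀⟩ := ht
  obtain ⟨W, hW, hWη⟩ := K.ih η hη hηθ ⟨a₀, ha₀, ha₀1, fun e => hηt a₀ ha₀ ha₀1 (by rw [e]; exact hd₀)⟩
  have hWF : W ∈ signalizerFamily p A θ :=
    ⟨hW.1, hW.2.1, hW.2.2.1, fun b hb hb1 => (hW.2.2.2 b hb hb1).trans (hηθ b hb hb1)⟩
  obtain ⟨L, hL, -⟩ := K.exists_line_mem A.one_mem
  refine ⟨W, hWF, ?_, ?_, ?_⟩
  · intro hd
    obtain ⟨P, hP⟩ := Coprime.exists_invariant_sylow (K.inv hWF) (K.coprime hWF.2.1) (Or.inr hWF.1) t
    set P' := (P : Subgroup W).map W.subtype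
    have hP' : P' ≤ ⊥ := by
      refine K.le_of_points hL (hL.1.trans hP)
        (fun h => hWF.2.1 (h.trans (Subgroup.card_dvd_of_le (Subgroup.map_subtype_le _)))) fun c hc hc1 => ?_
      have h1 : P' ⊓ centralizer {c} ≤ η c :=
        (inf_le_inf_right _ (Subgroup.map_subtype_le _)).trans (hW.2.2.2 c (hL.1 hc) hc1)
      refine (PCore.eq_bot_of_isPGroup_of_coprime ((P.isPGroup'.map W.subtype).to_le inf_le_left) ?_).le
      exact ((htF.out.coprime_iff_not_dvd).2 fun h => hηt c (hL.1 hc) hc1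
        (h.trans (Subgroup.card_dvd_of_le h1))).symm
    have := P.dvd_card_of_dvd_card hd
    rw [← Subgroup.card_map_of_injective W.subtype_injective] at this
    change t ∣ Nat.card P' at this
    rw [le_bot_iff.1 hP', Subgroup.card_bot] at this
    exact htF.out.not_dvd_one this
  · intro k hk
    have hWeq : W = ⨆ c : {c : G // c ∈ L ∧ c ≠ 1}, η c := by
      refine le_antisymm (K.le_of_points hL (hL.1.trans (K.inv hWF)) hWF.2.1 fun c hc hc1 => ?_)
        (iSup_le fun c => hWη c (hL.1 c.2.1) c.2.2)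
      exact (hW.2.2.2 c (hL.1 hc) hc1).trans
        (le_iSup (fun c : {c : G // c ∈ L ∧ c ≠ 1} => η (c : G)) ⟨c, hc, hc1⟩)
    rw [hWeq]
    exact le_normalizer_iSup' (fun c : {c : G // c ∈ L ∧ c ≠ 1} => η (c : G)) (fun c => hηC c.1 (hL.1 c.2.1) c.2.2) hk
  · intro Y hY hYt hYC
    refine K.le_of_points hL (hL.1.trans (K.inv hY)) hY.2.1 fun c hc hc1 => ?_
    exact (hmax (hL.1 hc) hc1 (hY.2.2.2 c (hL.1 hc) hc1)
      (Coprime.le_normalizer_inf_of_le (K.inv hY) (K.le_normalizer_centralizer_singleton (hL.1 hc)))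
      (Coprime.le_normalizer_inf_of_le hYC (hC c (hL.1 hc)))
      fun hd => hYt (hd.trans (Subgroup.card_dvd_of_le inf_le_left))).trans (hWη c (hL.1 hc) hc1)

end CE

end Cfsg.Agent.SSFT
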